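import Cfsg.Agent.Lib.Spor.UFourType.HData

/-! A group written on the table of `SL₂(3)`. -/

set_option autoImplicit false
set_option maxRecDepth 100000

namespace Cfsg.Agent.Spor.UFourType

/-- The product of two indices. -/
def sMul (a b : ℕ) : ℕ := (mulT.getD a []).getD b 0

/-- The inverse of an index. -/
def sInv (a : ℕ) : ℕ := invT.getD a 0

/-- The outer automorphism. -/
def sPhi (a : ℕ) : ℕ := phiT.getD a 0

/-- Conjugation of indices. -/
def sConj (h a : ℕ) : ℕ := sMul (sMul h a) (sInv h)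

/-- The indices of the quaternion subgroup. -/
def q8L : List ℕ := [0, 1, 2, 3, 12, 13, 14, 15]

/-- The indices of the elements of order four. -/
def o4L : List ℕ := [1, 2, 3, 13, 14, 15]

theorem sMul_lt : ∀ a < 24, ∀ b < 24, sMul a b < 24 := by decide +kernel

theorem sInv_lt : ∀ a < 24, sInv a < 24 ∧ sMul a (sInv a) = 0 ∧ sMul (sInv a) a = 0 := by decide +kernel

theorem sPhi_spec : ∀ a < 24, sPhi a < 24 ∧ ∀ b < 24, sPhi (sMul a b) = sMul (sPhi a) (sPhi b) := by decide +kernel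

theorem sConj_lt {h a : ℕ} (hh : h < 24) (ha : a < 24) : sConj h a < 24 :=
  sMul_lt _ (sMul_lt h hh a ha) _ (sInv_lt h hh).1

theorem mem_q8L_lt : ∀ p ∈ q8L, p < 24 := by decide

theorem mem_o4L_lt : ∀ p ∈ o4L, p < 24 := by decide

theorem mem_o4L_q8L : ∀ p ∈ o4L, p ∈ q8L := by decide

variable {G : Type*} [Group G]

/-- A group given by the table. -/
structure STab (x : ℕ → G) : Prop where
  inj : ∀ a < 24, ∀ b < 24, x a = x b → a = b
  mul : ∀ a < 24, ∀ b < 24, x (sMul a b) = x a * x b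

namespace STab

variable {x : ℕ → G} (h : STab x)
include h

theorem one : x 0 = 1 := by
  have e := h.mul 0 (by norm_num) 0 (by norm_num)
  rw [show sMul 0 0 = 0 by decide] at e
  exact left_eq_mul.1 e

theorem inv {a : ℕ} (ha : a < 24) : x (sInv a) = (x a)⁻¹ := by
  refine eq_inv_of_mul_eq_one_right ?_
  rw [← h.mul a ha _ (sInv_lt a ha).1, (sInv_lt a ha).2.1, h.one]

theorem conj {g a : ℕ} (hg : g < 24) (ha : a < 24) : x (sConj g a) = x g * x a * (x g)⁻¹ := by
  rw [sConj, h.mul _ (sMul_lt g hg a ha) _ (sInv_lt g hg).1, h.mul g hg a ha, h.inv hg]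

theorem neg {a : ℕ} (ha : a < 24) : x (sMul a 12) = x a * x 12 := h.mul a ha 12 (by norm_num)

/-- Renumbering by an inner automorphism. -/
theorem twist {g : ℕ} (hg : g < 24) : STab fun a => x g * x a * (x g)⁻¹ where
  inj a ha b hb e := h.inj a ha b hb (mul_left_cancel (mul_right_cancel e))
  mul a ha b hb := by rw [h.mul a ha b hb]; group

/-- An automorphism is known from the images of `i` and `j`. -/
theorem aut_unique {c : G} (hc : ∀ a < 24, ∃ b < 24, c * x a * c⁻¹ = x b) (h1 : c * x 1 * c⁻¹ = x 1)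
    (h2 : c * x 2 * c⁻¹ = x 3) : ∀ a < 24, c * x a * c⁻¹ = x (sPhi a) := by
  obtain ⟨y, hy, ey⟩ := hc 4 (by norm_num)
  have hcm : ∀ a b, a < 24 → b < 24 → ∀ a' b', c * x a * c⁻¹ = x a' → c * x b * c⁻¹ = x b' → a' < 24 → b' < 24 →
      c * x (sMul a b) * c⁻¹ = x (sMul a' b') := fun a b ha hb a' b' ea eb ha' hb' => by
    rw [h.mul a ha b hb, h.mul a' ha' b' hb', ← ea, ← eb]; group
  have hinv : ∀ a, a < 24 → ∀ a', c * x a * c⁻¹ = x a' → a' < 24 → c * x (sInv a) * c⁻¹ = x (sInv a') :=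
    fun a ha a' ea ha' => by rw [h.inv ha, h.inv ha', ← ea]; group
  have e3 : c * x 3 * c⁻¹ = x 14 := by
    have := hcm 1 2 (by norm_num) (by norm_num) 1 3 h1 h2 (by norm_num) (by norm_num)
    rwa [show sMul 1 2 = 3 by decide, show sMul 1 3 = 14 by decide] at this
  have e0 : c * x 0 * c⁻¹ = x 0 := by rw [h.one]; group
  have hp : ∀ p < 4, c * x p * c⁻¹ = x (sPhi p) := by
    intro p hp
    interval_cases p
    · exact e0
    · exact h1
    · exact h2
    · exact e3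
  have hy4 : y = sPhi 4 := by
    have key : ∀ w < 24, sMul w (sMul w w) = 0 → sConj w (sPhi 1) = sPhi (sConj 4 1) →
        sConj w (sPhi 2) = sPhi (sConj 4 2) → w = sPhi 4 := by decide +kernel
    have hpc : ∀ p < 4, p ≠ 0 → c * x (sConj 4 p) * c⁻¹ = x (sConj y (sPhi p)) := fun p hp' _ => by
      rw [h.conj (by norm_num) (by omega), h.conj hy (sPhi_spec p (by omega)).1, ← ey, ← hp p hp']
      group
    have hq : ∀ p < 4, p ≠ 0 → ∃ r < 4, sConj 4 p = r := by decide +kernel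
    have hcp : ∀ p < 4, p ≠ 0 → sConj y (sPhi p) = sPhi (sConj 4 p) := fun p hp' h0 => by
      obtain ⟨r, hr, er⟩ := hq p hp' h0
      refine h.inj _ (sConj_lt hy (sPhi_spec p (by omega)).1) _ (sPhi_spec _ (by rw [er]; omega)).1 ?_
      rw [← hpc p hp' h0, er, hp r hr]
    refine key y hy (h.inj _ (sMul_lt y hy _ (sMul_lt y hy y hy)) 0 (by norm_num) ?_) (hcp 1 (by norm_num) (by norm_num))
      (hcp 2 (by norm_num) (by norm_num))
    rw [h.mul y hy _ (sMul_lt y hy y hy), h.mul y hy y hy, h.one, ← ey,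
      show c * x 4 * c⁻¹ * (c * x 4 * c⁻¹ * (c * x 4 * c⁻¹)) = c * (x 4 * (x 4 * x 4)) * c⁻¹ by group,
      ← h.mul 4 (by norm_num) 4 (by norm_num), ← h.mul 4 (by norm_num) _ (by decide),
      show sMul 4 (sMul 4 4) = 0 by decide, h.one]
    group
  subst hy4
  have e12 : c * x 12 * c⁻¹ = x (sPhi 12) := by
    have := hcm 1 1 (by norm_num) (by norm_num) 1 1 h1 h1 (by norm_num) (by norm_num)
    rwa [show sMul 1 1 = 12 by decide] at this
  intro a ha
  have hdec : ∀ a < 24, ∃ p < 4, ∃ t < 3, ∃ s < 2,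
      sMul (sMul p (sMul (if 1 ≤ t then 4 else 0) (if 2 ≤ t then 4 else 0))) (if s = 1 then 12 else 0) = a := by
    decide +kernel
  obtain ⟨p, hp', t, ht, s, hs, rfl⟩ := hdec a ha
  have hit : ∀ q : Prop, [Decidable q] → c * x (if q then 4 else 0) * c⁻¹ = x (sPhi (if q then 4 else 0)) := by
    intro q _; split <;> [exact ey; exact e0]
  have his : c * x (if s = 1 then 12 else 0) * c⁻¹ = x (sPhi (if s = 1 then 12 else 0)) := by
    split <;> [exact e12; exact e0]
  have lt4 : ∀ q : Prop, [Decidable q] → (if q then 4 else 0) < 24 := by intro q _; split <;> norm_num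
  have lts : (if s = 1 then 12 else 0) < 24 := by split <;> norm_num
  have et := sMul_lt _ (lt4 (1 ≤ t)) _ (lt4 (2 ≤ t))
  have h3 := hcm _ _ (lt4 (1 ≤ t)) (lt4 (2 ≤ t)) _ _ (hit _) (hit _) (sPhi_spec _ (lt4 _)).1 (sPhi_spec _ (lt4 _)).1
  rw [← (sPhi_spec _ (lt4 _)).2 _ (lt4 _)] at h3
  have h4 := hcm p _ (by omega) et _ _ (hp p hp') h3 (sPhi_spec p (by omega)).1 (sPhi_spec _ et).1
  rw [← (sPhi_spec p (by omega)).2 _ et] at h4
  have h5 := hcm _ _ (sMul_lt p (by omega) _ et) lts _ _ h4 his (sPhi_spec _ (sMul_lt p (by omega) _ et)).1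
    (sPhi_spec _ lts).1
  rwa [← (sPhi_spec _ (sMul_lt p (by omega) _ et)).2 _ lts] at h5

end STab

/-- The matrix of an index. -/
def sMat (a : Fin 24) : Matrix (Fin 2) (Fin 2) (ZMod 3) :=
  Matrix.of fun r c => (((entT.getD a.1 []).getD (2 * r.1 + c.1) 0 : ℕ) : ZMod 3)

theorem sMat_det : ∀ a, (sMat a).det = 1 := by decide +kernel

/-- The element of an index. -/
def sEl (a : Fin 24) : Matrix.SpecialLinearGroup (Fin 2) (ZMod 3) := ⟨sMat a, sMat_det a⟩

theorem sMat_inj : ∀ a b, sMat a = sMat b → a = b := by decide +kernel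

theorem sMat_mul : ∀ a b : Fin 24,
    sMat ⟨sMul a.1 b.1, sMul_lt a.1 a.2 b.1 b.2⟩ = sMat a * sMat b := by decide +kernel

theorem sMat_surj : ∀ M : Matrix (Fin 2) (Fin 2) (ZMod 3), M.det = 1 → ∃ a, sMat a = M := by decide +kernel

/-- A copy of `SL₂(3)` is given by the table. -/
theorem exists_tab {A : Subgroup G} (e : ↥A ≃* Matrix.SpecialLinearGroup (Fin 2) (ZMod 3)) :
    ∃ x : ℕ → G, STab x ∧ (∀ a < 24, x a ∈ A) ∧ ∀ v ∈ A, ∃ a < 24, x a = v := by
  refine ⟨fun a => if ha : a < 24 then ((e.symm (sEl ⟨a, ha⟩) : ↥A) : G) else 1, ⟨fun a ha b hb h => ?_,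
    fun a ha b hb => ?_⟩, fun a ha => by simp [ha], fun v hv => ?_⟩
  · simp only [dif_pos ha, dif_pos hb] at h
    exact congrArg Fin.val (sMat_inj _ _ (congrArg Subtype.val (e.symm.injective (Subtype.ext h))))
  · simp only [dif_pos ha, dif_pos hb, dif_pos (sMul_lt a ha b hb)]
    rw [← Subgroup.coe_mul, ← map_mul]
    exact congrArg Subtype.val (congrArg e.symm (Subtype.ext (sMat_mul ⟨a, ha⟩ ⟨b, hb⟩)))
  · obtain ⟨a, ha⟩ := sMat_surj (e ⟨v, hv⟩).1 (e ⟨v, hv⟩).2
    refine ⟨a.1, a.2, ?_⟩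
    simp only [dif_pos a.2, Fin.eta]
    rw [show sEl a = e ⟨v, hv⟩ from Subtype.ext ha, MulEquiv.symm_apply_apply]

end Cfsg.Agent.Spor.UFourType
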