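import Cfsg.Agent.Lib.Spor.UFourType.Graph
import Cfsg.Agent.Lib.Invol.SPEmbedded
import Cfsg.Agent.S0223
import Cfsg.Agent.S2903

/-!
The orbit of 112 points is everything: the group generated has one class of involutions, so it would be strongly
embedded and solvable, but it induces a perfect group of order 360 on the elementary group.
-/

set_option autoImplicit false
set_option maxRecDepth 100000
set_option synthInstance.maxSize 1024

namespace Cfsg.Agent.Spor.UFourType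

variable {G : Type*} [Group G] {z : G} {e : ℕ → G} {r r' : G}

/-- Representatives of the quotient by the center, side `x`. -/
def qxL : List ℕ := [0, 1, cjL 4 1, cjL 8 1]

/-- Representatives of the quotient by the center, side `y`. -/
def qyL : List ℕ := [0, 12, cjL 48 12, cjL 96 12]

theorem h_cover : ∀ n < 1152, ∃ a ∈ qxL, ∃ b ∈ qyL, npP (mL (iL (mL a b)) n) = true := by decide +kernel

theorem inv_classes : (∀ t ∈ invL, inQn t.1 = false → t.2.1 = 576 ∨ t.2.1 = 864) ∧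
    (∀ n < 1152, inQn n = true → inQn (mL 720 n) = false) ∧ cjL 576 13 = 13 ∧ cjL 2 13 = 157 ∧
    mL 144 13 = 157 ∧ cjL 2 864 = 902 ∧ mL 902 902 = 0 := by decide +kernel

/-- Matrices showing that the group of matrices is perfect, and fusing the two four groups. -/
theorem x_perfect : (∀ c ∈ [(0, 2, 3), (1, 1, 14), (2, 2, 84)],
      mM (xT.getD c.2.1 0) (xT.getD c.2.2 0) = mM (xGen.getD c.1 0) (mM (xT.getD c.2.2 0) (xT.getD c.2.1 0))) ∧
    (14461764 ∈ xW ∧ 14461764 ∉ xA ∧ 14461764 ∉ xB ∧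
      mM (xT.getD 1 0) (xT.getD 91 0) = mM 14461764 (mM (xT.getD 91 0) (xT.getD 1 0))) ∧
    (mM (xT.getD 5 0) (xGen.getD 0 0) = mM (mK 2 3 27 9) (xT.getD 5 0)) ∧
    (mM (xT.getD 12 0) (xGen.getD 0 0) = mM (mK 2 3 54 18) (xT.getD 12 0)) ∧ mI ≠ xGen.getD 0 0 := by
  decide +kernel

theorem xT_getD (i : ℕ) (hi : i < 360) : xT.getD i 0 ∈ xT := by
  rw [List.getD_eq_getElem _ _ (show i < xT.length from xT_length.symm ▸ hi)]; exact List.getElem_mem _

namespace Reps

variable [Finite G] {W : Two z e r r'} {R : Subgroup G} {L : Line W R} {kk : ℕ → G} (H : Reps L kk)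
include H

theorem cent_le : Subgroup.centralizer ({z} : Set G) ≤ W.G0 := by
  intro g hg
  have C := W.fst.cent
  obtain ⟨n, hn, rfl⟩ := (C.cen g).1 (Subgroup.mem_centralizer_singleton_iff.1 hg)
  have h1 : e 1 ∈ W.G0 := by
    rw [← pt_nums.2.2.2.1, C.e_cj (by norm_num) (by norm_num), W.fst.t_inv]
    exact mul_mem (mul_mem (H.G0_M W.t_mem) H.G0_f) (H.G0_M W.t_mem)
  have h0 : e 0 ∈ W.G0 := by rw [C.e0]; exact one_mem _
  have hp : ∀ p ∈ [4, 8, 48, 96], p < 1152 ∧ e p ∈ W.G0 := fun p hp =>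
    ⟨(show ∀ p ∈ [4, 8, 48, 96], p < 1152 by decide) p hp,
      H.G0_M (W.E_le (W.p_mem ((show ∀ p ∈ [4, 8, 48, 96], p ∈ pL by decide) p hp)))⟩
  have hcj : ∀ p ∈ [4, 8, 48, 96], ∀ f, f < 1152 → e f ∈ W.G0 → e (cjL p f) ∈ W.G0 := fun p hp' f hf hm => by
    rw [C.e_cj (hp p hp').1 hf]
    exact mul_mem (mul_mem (hp p hp').2 hm) (inv_mem (hp p hp').2)
  have hx : ∀ a ∈ qxL, a < 1152 ∧ e a ∈ W.G0 := by
    intro a ha
    simp only [qxL, List.mem_cons, List.not_mem_nil, or_false] at ha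
    rcases ha with rfl | rfl | rfl | rfl
    exacts [⟨by norm_num, h0⟩, ⟨by norm_num, h1⟩, ⟨mL_lt _ _, hcj 4 (by simp) 1 (by norm_num) h1⟩,
      ⟨mL_lt _ _, hcj 8 (by simp) 1 (by norm_num) h1⟩]
  have hy : ∀ b ∈ qyL, b < 1152 ∧ e b ∈ W.G0 := by
    intro b hb
    simp only [qyL, List.mem_cons, List.not_mem_nil, or_false] at hb
    rcases hb with rfl | rfl | rfl | rfl
    exacts [⟨by norm_num, h0⟩, ⟨by norm_num, H.G0_f⟩, ⟨mL_lt _ _, hcj 48 (by simp) 12 (by norm_num) H.G0_f⟩,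
      ⟨mL_lt _ _, hcj 96 (by simp) 12 (by norm_num) H.G0_f⟩]
  obtain ⟨a, ha, b, hb, hP⟩ := h_cover n hn
  obtain ⟨ha', ea⟩ := hx a ha
  obtain ⟨hb', eb⟩ := hy b hb
  have hi := (iL_ok _ (mL_lt a b)).1
  have hM := H.G0_M (W.np_mem (mL_lt _ _) hP)
  rw [C.mul _ hi n hn, C.e_inv (mL_lt a b), C.mul a ha' b hb'] at hM
  have := mul_mem (mul_mem ea eb) hM
  rwa [mul_inv_cancel_left] at this

theorem fuse_902 : ∃ g ∈ W.G0, g * z * g⁻¹ = e 902 := by
  obtain ⟨-, -, -, h902⟩ := W.fst.exists_act_h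
  have hzK : z ∈ L.K := W.fst.cent.z_eq ▸ L.d8_K (by decide)
  have hK : e 902 ∈ L.K := L.d8_K (by decide)
  have key : ∀ i < 360, ∀ B, Act e r (e 902) B → mM (xT.getD i 0) (xGen.getD 0 0) = mM B (xT.getD i 0) →
      ∃ g ∈ W.G0, g * z * g⁻¹ = e 902 := by
    intro i hi B hB heq
    obtain ⟨k, hk, kA⟩ := L.K_real _ (xT_getD i hi)
    refine ⟨k, H.G0_M (L.mem_K.1 hk).1, mul_inv_eq_iff_eq_mul.2 ?_⟩
    exact L.K_inj (mul_mem hk hzK) (mul_mem hK hk) (W.fst.act_mul kA W.fst.act_z) (heq ▸ W.fst.act_mul hB kA)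
  rcases h902 with h | h
  · exact key 5 (by norm_num) _ h x_perfect.2.2.1
  · exact key 12 (by norm_num) _ h x_perfect.2.2.2.1

/-- The involutions of the group are conjugate in it. -/
theorem G0_conj {t : G} (ht : t ∈ W.G0) (h2 : t * t = 1) (h1 : t ≠ 1) : ∃ g ∈ W.G0, g * z * g⁻¹ = t := by
  have C := W.fst.cent
  obtain ⟨c0, c1, c2, c3, c4, c5, -⟩ := inv_classes
  have hH : ∀ n < 1152, e n ∈ W.G0 := fun n hn =>
    H.cent_le (Subgroup.mem_centralizer_singleton_iff.2 (C.e_z hn).eq)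
  have hstep : ∀ h a, h < 1152 → a < 1152 → (∃ g ∈ W.G0, g * z * g⁻¹ = e a) →
      ∃ g ∈ W.G0, g * z * g⁻¹ = e (cjL h a) := by
    rintro h a hh ha ⟨g, hg, eg⟩
    exact ⟨e h * g, mul_mem (hH h hh) hg, by rw [C.e_cj hh ha, ← eg]; group⟩
  have r576 : ∃ g ∈ W.G0, g * z * g⁻¹ = e 576 := ⟨r, H.G0_M W.r_mem, W.fst.r1⟩
  have r864 : ∃ g ∈ W.G0, g * z * g⁻¹ = e 864 := by
    obtain ⟨g, hg, eg⟩ := H.fuse_902
    have := hstep (iL 2) 902 (iL_ok 2 (by norm_num)).1 (by norm_num) ⟨g, hg, eg⟩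
    rwa [show cjL (iL 2) 902 = 864 by decide +kernel] at this
  have hcls : ∀ t ∈ invL, inQn t.1 = false → ∃ g ∈ W.G0, g * z * g⁻¹ = e t.1 := by
    intro t ht hq
    obtain ⟨hlt, -, hcj⟩ := invL_ok t ht
    rw [← hcj]
    rcases c0 t ht hq with h | h <;> rw [h]
    · exact hstep _ _ hlt (by norm_num) r576
    · exact hstep _ _ hlt (by norm_num) r864
  have r13 : ∃ g ∈ W.G0, g * z * g⁻¹ = e 13 := by
    have hc : Commute (e 13) (e 576) := by
      have h := C.e_cj (show (576 : ℕ) < 1152 by norm_num) (show (13 : ℕ) < 1152 by norm_num)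
      rw [c2] at h
      exact (mul_inv_eq_iff_eq_mul.1 h.symm).symm
    have hn0 : Commute (r⁻¹ * e 13 * r) z := by
      have h := (Commute.conj_iff r⁻¹).2 hc
      rwa [inv_inv, show r⁻¹ * e 576 * r = z by rw [← W.fst.r1]; group] at h
    obtain ⟨n, hn, en⟩ := (C.cen _).1 hn0
    have hcase : ∀ m < 1152, ∀ x : G, inQn m = false → e m = r⁻¹ * x * r → x * x = 1 → x ≠ 1 →
        ∃ g ∈ W.G0, g * z * g⁻¹ = x := by
      intro m hm x hq em hx2 hx1
      have hm0 : m ≠ 0 := fun h => hx1 (by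
        rw [h, C.e0] at em
        rw [show x = r * (r⁻¹ * x * r) * r⁻¹ by group, ← em]; group)
      have hmm : mL m m = 0 := C.inj _ (mL_lt _ _) 0 (by norm_num) (by
        rw [C.mul m hm m hm, C.e0, em, show r⁻¹ * x * r * (r⁻¹ * x * r) = r⁻¹ * (x * x) * r by group, hx2]; group)
      obtain ⟨t, ht, rfl⟩ := List.mem_map.1 (invL_all m hm hm0 hmm)
      obtain ⟨g, hg, eg⟩ := hcls t ht hq
      exact ⟨r * g, mul_mem (H.G0_M W.r_mem) hg, by
        rw [show r * g * z * (r * g)⁻¹ = r * (g * z * g⁻¹) * r⁻¹ by group, eg, em]; group⟩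
    rcases hq : inQn n with _ | _
    · exact hcase n hn (e 13) hq en L.q_sq fun h =>
        absurd (C.inj 13 (by norm_num) 0 (by norm_num) (h.trans C.e0.symm)) (by norm_num)
    · have h157 : ∃ g ∈ W.G0, g * z * g⁻¹ = e 157 := by
        refine hcase _ (mL_lt 720 n) (e 157) (c1 n hn hq) ?_ ?_ fun h =>
          absurd (C.inj 157 (by norm_num) 0 (by norm_num) (h.trans C.e0.symm)) (by norm_num)
        · rw [C.mul 720 (by norm_num) n hn, en, show e 720 = r⁻¹ * z * r by rw [← W.fst.r3]; group, ← c4,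
            C.mul 144 (by norm_num) 13 (by norm_num), C.z_eq]
          group
        · rw [← C.mul 157 (by norm_num) 157 (by norm_num), show mL 157 157 = 0 by decide +kernel, C.e0]
      have := hstep (iL 2) 157 (iL_ok 2 (by norm_num)).1 (by norm_num) h157
      rwa [show cjL (iL 2) 157 = 13 by decide +kernel] at this
  obtain ⟨g, hg, hgz⟩ := C.exists_into W.G0 H.cent_le ht h2
  obtain ⟨n, hn, en⟩ := (C.cen _).1 hgz
  have h0 : n ≠ 0 := fun h => h1 (by
    rw [h, C.e0] at en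
    rw [show t = g⁻¹ * (g * t * g⁻¹) * g by group, ← en]; group)
  have hnn : mL n n = 0 := C.inj _ (mL_lt n n) 0 (by norm_num) (by
    rw [C.mul n hn n hn, C.e0, en, show g * t * g⁻¹ * (g * t * g⁻¹) = g * (t * t) * g⁻¹ by group, h2]; group)
  obtain ⟨q, hq, rfl⟩ := List.mem_map.1 (invL_all n hn h0 hnn)
  obtain ⟨hlt, hrep, hcj⟩ := invL_ok q hq
  obtain ⟨f, hf, ef⟩ : ∃ f ∈ W.G0, f * z * f⁻¹ = e q.1 := by
    rw [← hcj]
    rcases hrep with h | h | h | h <;> rw [h]
    · exact hstep _ _ hlt (by norm_num) ⟨1, one_mem _, by rw [C.z_eq]; group⟩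
    · exact hstep _ _ hlt (by norm_num) r13
    · exact hstep _ _ hlt (by norm_num) r576
    · exact hstep _ _ hlt (by norm_num) r864
  exact ⟨g⁻¹ * f, mul_mem (inv_mem hg) hf, by
    rw [show g⁻¹ * f * z * (g⁻¹ * f)⁻¹ = g⁻¹ * (f * z * f⁻¹) * g by group, ef, en]; group⟩

theorem not_solvable : ¬ IsSolvable ↥W.G0 := by
  intro hs
  haveI := hs
  obtain ⟨n, hn⟩ := hs.solvable
  have key : ∀ n, ∀ A ∈ xT, ∃ g ∈ derivedSeries ↥W.G0 n, Act e r (g : G) A := by
    intro n
    induction n with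
    | zero =>
      intro A hA
      obtain ⟨g, hg⟩ := (W.fst.xT_real W.snd).1 A hA
      exact ⟨⟨g, H.G0_M ⟨A, hA, hg⟩⟩, by rw [derivedSeries_zero]; exact Subgroup.mem_top _, hg⟩
    | succ n ih =>
      have hcomm : ∀ X ∈ xT, ∀ i < 360, ∀ j < 360,
          mM (xT.getD i 0) (xT.getD j 0) = mM X (mM (xT.getD j 0) (xT.getD i 0)) →
          ∃ g ∈ derivedSeries ↥W.G0 (n + 1), Act e r (g : G) X := by
        intro X hX i hi j hj heq
        obtain ⟨a, ha, aA⟩ := ih _ (xT_getD i hi)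
        obtain ⟨b, hb, bA⟩ := ih _ (xT_getD j hj)
        refine ⟨a * b * a⁻¹ * b⁻¹, ?_, ?_⟩
        · rw [derivedSeries_succ, ← commutatorElement_def]
          exact Subgroup.commutator_mem_commutator ha hb
        · obtain ⟨x, hx⟩ := (W.fst.xT_real W.snd).1 X hX
          obtain ⟨D, -, hD⟩ := W.M.inv_mem (show (b : G) * a ∈ W.M from
            W.M.mul_mem ⟨_, xT_getD j hj, bA⟩ ⟨_, xT_getD i hi, aA⟩)
          have k1 := W.fst.act_mul (W.fst.act_mul aA bA) hD
          rw [heq] at k1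
          have k2 := W.fst.act_mul (W.fst.act_mul hx (W.fst.act_mul bA aA)) hD
          rw [mul_assoc x, mul_inv_cancel, mul_one] at k2
          show Act e r (((a * b * a⁻¹ * b⁻¹ : ↥W.G0) : G)) X
          rw [show (((a * b * a⁻¹ * b⁻¹ : ↥W.G0)) : G) = (a : G) * b * ((b : G) * a)⁻¹ by
            simp only [Subgroup.coe_mul, Subgroup.coe_inv]; group]
          rw [W.fst.act_inj hx k2]
          exact k1
      intro A hA
      obtain ⟨hc, ⟨hw, n1, n2, hwc⟩, -⟩ := x_perfect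
      refine xT_all (S := fun A => ∃ g ∈ derivedSeries ↥W.G0 (n + 1), Act e r (g : G) A)
        ⟨1, one_mem _, W.fst.act_one⟩ (fun X Y ⟨x, hx, xa⟩ ⟨y, hy, yb⟩ => ⟨x * y, mul_mem hx hy, W.fst.act_mul xa yb⟩)
        (fun k hk => ?_) (xW_spec.2.1 _ hw).1 n1 n2 (hcomm _ (xW_spec.2.1 _ hw).1 1 (by norm_num) 91 (by norm_num) hwc)
        A hA
      interval_cases k
      · exact hcomm _ (xD_sub.1 _ (xD_sub.2 0 (by norm_num))).1 2 (by norm_num) 3 (by norm_num) (hc (0, 2, 3) (by simp))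
      · exact hcomm _ (xD_sub.1 _ (xD_sub.2 1 (by norm_num))).1 1 (by norm_num) 14 (by norm_num) (hc (1, 1, 14) (by simp))
      · exact hcomm _ (xD_sub.1 _ (xD_sub.2 2 (by norm_num))).1 2 (by norm_num) 84 (by norm_num) (hc (2, 2, 84) (by simp))
  obtain ⟨g, hg, gA⟩ := key n _ (xD_sub.1 _ (xD_sub.2 0 (by norm_num))).1
  rw [hn, Subgroup.mem_bot] at hg
  subst hg
  exact x_perfect.2.2.2.2 (W.fst.act_inj W.fst.act_one gA)

/-- The orbit group is everything. -/
theorem G0_top : W.G0 = ⊤ := by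
  by_contra hne
  have C := W.fst.cent
  have hz : orderOf z = 2 := C.orderOf_z
  have hev : Even (Nat.card ↥W.G0) := by
    rw [H.card_G0]; decide
  have hinv : ∀ t : G, orderOf t = 2 → t * t = 1 ∧ t ≠ 1 := fun t ht =>
    ⟨by rw [← pow_two, ← ht, pow_orderOf_eq_one], fun h => by rw [h, orderOf_one] at ht; exact absurd ht (by norm_num)⟩
  have hSE : Cfsg.IsStronglyEmbedded W.G0 := by
    refine (Cfsg.Agent.S0223.result W.G0 hne hev).2 ⟨fun t ht ot g hg => ?_, fun t ht s hs ot os _ => ?_⟩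
    · obtain ⟨x, hx, ex⟩ := H.G0_conj ht (hinv t ot).1 (hinv t ot).2
      have hgt := Subgroup.mem_centralizer_singleton_iff.1 hg
      have hc : x⁻¹ * g * x ∈ W.G0 := H.cent_le (Subgroup.mem_centralizer_singleton_iff.2 (by
        have h := (Commute.conj_iff x⁻¹).2 (show Commute g t from hgt)
        rw [inv_inv, show x⁻¹ * t * x = z by rw [← ex]; group] at h
        exact h.eq))
      have := mul_mem (mul_mem hx hc) (inv_mem hx)
      rwa [show x * (x⁻¹ * g * x) * x⁻¹ = g by group] at this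
    · obtain ⟨x, hx, ex⟩ := H.G0_conj ht (hinv t ot).1 (hinv t ot).2
      obtain ⟨y, hy, ey⟩ := H.G0_conj hs (hinv s os).1 (hinv s os).2
      exact ⟨y * x⁻¹, mul_mem hy (inv_mem hx), by rw [← ey, ← ex]; group⟩
  haveI : Fact (Nat.Prime 2) := ⟨Nat.prime_two⟩
  have hsp : Cfsg.IsStronglyPEmbedded 2 W.G0 := Cfsg.Agent.Invol.isStronglyPEmbedded_iff.2
    ⟨even_iff_two_dvd.1 hev, hSE.1, fun g hg h => Nat.not_even_iff_odd.2 (hSE.2.2 g hg) (even_iff_two_dvd.2 h)⟩
  have hrank : Cfsg.PRankAtLeast 2 2 G := by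
    obtain ⟨m1, m2, m3⟩ : mL 144 576 = 720 ∧ mL 576 144 = 720 ∧ mL 720 720 = 0 := by decide +kernel
    have hzt : Commute z (e 576) := (C.e_z (by norm_num)).symm
    refine ⟨Subgroup.closure {z, e 576}, Subgroup.isMulCommutative_closure ?_, ?_, ?_⟩
    · rintro a (rfl | rfl) b (rfl | rfl)
      exacts [rfl, hzt.eq, hzt.eq.symm, rfl]
    · intro a ha
      have hle : Subgroup.closure {z, e 576} ≤ Subgroup.centralizer {z, e 576} := (Subgroup.closure_le _).2 (by
        rintro x (rfl | rfl) <;> refine Subgroup.mem_centralizer_iff.2 ?_ <;> rintro y (rfl | rfl)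
        exacts [rfl, hzt.eq.symm, hzt.eq, rfl])
      have hle2 : Subgroup.closure {z, e 576} ≤ Subgroup.centralizer (Subgroup.closure {z, e 576} : Set G) :=
        (Subgroup.closure_le _).2 fun x hx => Subgroup.mem_centralizer_iff.2 fun y hy =>
          (Subgroup.mem_centralizer_iff.1 (hle hy) x hx).symm
      induction ha using Subgroup.closure_induction with
      | mem x hx => rcases hx with rfl | rfl <;> rw [pow_two] <;> first | exact C.z_mul_z | exact W.fst.t_sq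
      | one => exact one_pow _
      | mul x y hx hy h1 h2 => rw [(show Commute x y from (Subgroup.mem_centralizer_iff.1 (hle2 hy) x hx)).mul_pow, h1, h2, one_mul]
      | inv x _ h1 => rw [inv_pow, h1, inv_one]
    · let f : Fin 4 → ↥(Subgroup.closure ({z, e 576} : Set G)) := fun i =>
        [⟨1, one_mem _⟩, ⟨z, Subgroup.subset_closure (Or.inl rfl)⟩, ⟨e 576, Subgroup.subset_closure (Or.inr rfl)⟩,
          ⟨z * e 576, mul_mem (Subgroup.subset_closure (Or.inl rfl)) (Subgroup.subset_closure (Or.inr rfl))⟩].get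
          ⟨i.1, i.2⟩
      have hval : ∀ i : Fin 4, (f i : G) = e ([0, 144, 576, 720].getD i.1 0) := by
        intro i
        fin_cases i
        · exact C.e0.symm
        · exact C.z_eq.symm
        · rfl
        · exact W.fst.zt
      have hinj : Function.Injective f := fun i j h => by
        have h' := congrArg Subtype.val h
        rw [hval, hval] at h'
        have key : ∀ i : Fin 4, ([0, 144, 576, 720] : List ℕ).getD i.1 0 < 1152 := by decide
        have key2 : ∀ i j : Fin 4, ([0, 144, 576, 720] : List ℕ).getD i.1 0 = ([0, 144, 576, 720] : List ℕ).getD j.1 0 →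
            i = j := by decide
        exact key2 i j (C.inj _ (key i) _ (key j) h')
      have := Nat.card_le_card_of_injective f hinj
      rw [Nat.card_eq_fintype_card, Fintype.card_fin] at this
      exact this
  exact H.not_solvable (Cfsg.Agent.S2903.result hrank W.G0 hsp)

theorem card_G : Nat.card G = 3265920 := by
  rw [← H.card_G0, H.G0_top, Subgroup.card_top]

theorem pt_bij : Function.Bijective (pt W.M e r kk) := by
  refine ⟨H.pt_inj, fun y => ?_⟩
  obtain ⟨g, rfl⟩ := QuotientGroup.mk_surjective y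
  obtain ⟨n', e1⟩ := H.G0_range (H.G0_top ▸ Subgroup.mem_top g) 0
  rw [H.pt_base, cs_smul, mul_one] at e1
  exact ⟨n', e1.symm⟩

theorem exists_perm : ∃ f : G →* Equiv.Perm (Fin 112), Function.Injective f ∧
    ∀ g i j, adjT (f g i) (f g j) = adjT i j := by
  let P : Fin 112 ≃ G ⧸ W.M := Equiv.ofBijective _ H.pt_bij
  let f : G →* Equiv.Perm (Fin 112) := (P.symm.permCongrHom.toMonoidHom).comp (MulAction.toPermHom G (G ⧸ W.M))
  have hf : ∀ g i, pt W.M e r kk (f g i) = g • pt W.M e r kk i := fun g i => by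
    show P (P.symm (g • P (i))) = g • P i
    exact P.apply_symm_apply _
  refine ⟨f, ?_, fun g i j => ?_⟩
  · refine (MonoidHom.ker_eq_bot_iff f).1 ((Subgroup.eq_bot_iff_forall _).2 fun g hg => ?_)
    have hfix : ∀ g ∈ f.ker, ∀ y : G ⧸ W.M, g • y = y := fun g hg y => by
      obtain ⟨n, rfl⟩ := H.pt_bij.2 y
      rw [← hf, MonoidHom.mem_ker.1 hg]; rfl
    have hmemK : ∀ g ∈ f.ker, g ∈ L.K := fun g hg =>
      L.mem_K.2 ⟨L.fix_base.1 (hfix g hg _), hfix g hg _⟩
    have hgE : ∀ v < 81, Commute g (ev e r v) := by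
      intro v hv
      obtain ⟨A, -, gA⟩ := (L.mem_K.1 (hmemK g hg)).1
      have hk : g * ev e r v * g⁻¹ * (ev e r v)⁻¹ ∈ f.ker := by
        rw [show g * ev e r v * g⁻¹ * (ev e r v)⁻¹ = g * (ev e r v * g⁻¹ * (ev e r v)⁻¹) by group]
        exact mul_mem hg (f.normal_ker.conj_mem _ (inv_mem hg) _)
      have hE : g * ev e r v * g⁻¹ * (ev e r v)⁻¹ = ev e r (vA (ap A v) (vS 2 v)) := by
        rw [gA.2 v hv, W.fst.ev_inv, ← W.fst.ev_add]
      have h0 := L.K_E (vA_lt _ _) (hE ▸ hmemK _ hk)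
      rw [h0, W.fst.ev_zero] at hE
      exact mul_inv_eq_iff_eq_mul.1 (mul_inv_eq_one.1 hE)
    obtain ⟨v, hv, ev'⟩ := W.fst.self_cent hgE
    have := L.K_E hv (ev' ▸ hmemK g hg)
    rw [← ev', this, W.fst.ev_zero]
  · rw [Bool.eq_iff_iff, ← H.adj_iff, ← H.adj_iff, hf, hf]
    exact ⟨fun h => by have := h.smul g⁻¹; rwa [inv_smul_smul, inv_smul_smul] at this, fun h => h.smul g⟩

end Reps

/-- The recognition from the numbered centralizer. -/
theorem Cent.recognize [Finite G] (C : Cent z e) (S : Swap2 z e) :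
    Nat.card G = 3265920 ∧ ∃ f : G →* Equiv.Perm (Fin 112), Function.Injective f ∧
      ∀ g i j, adjT (f g i) (f g j) = adjT i j := by
  obtain ⟨r, r', W⟩ := C.exists_two S
  obtain ⟨R, L⟩ := W.exists_line
  obtain ⟨kk, H⟩ := L.exists_reps
  exact ⟨H.card_G, H.exists_perm⟩

end Cfsg.Agent.Spor.UFourType
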