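import Cfsg.Agent.Lib.Spor.UFourType.Data
import Cfsg.Agent.Lib.Spor.UFourThree.Points
import Cfsg.Agent.S0283

/-!
A group of order `3265920` acting faithfully on the graph of 112 points is the unitary group: the graph has at most
eight times that many automorphisms, and the unitary group, being simple, cannot meet such a group in a proper subgroup
of so small an index.
-/

set_option autoImplicit false
set_option maxRecDepth 100000

open Cfsg Cfsg.Agent.Spor.Cos

namespace Cfsg.Agent.Spor.UFourType

/-- The neighbours of a point. -/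
def nb (i : ℕ) : ℕ := nbT.getD i 0

/-- Adjacency. -/
def adjT (i j : Fin 112) : Bool := (nb i.1).testBit j.1

/-- The automorphisms of the graph. -/
def autT : Subgroup (Equiv.Perm (Fin 112)) where
  carrier := {σ | ∀ i j, adjT (σ i) (σ j) = adjT i j}
  one_mem' := fun _ _ => rfl
  mul_mem' := fun {σ τ} hσ hτ i j => (hσ (τ i) (τ j)).trans (hτ i j)
  inv_mem' := fun {σ} hσ i j => by
    have h := hσ (σ⁻¹ i) (σ⁻¹ j)
    simp only [← Equiv.Perm.mul_apply, mul_inv_cancel, Equiv.Perm.one_apply] at h
    exact h.symm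

/-- The points looking the same as `p` from some points. -/
def cands (cur : List ℕ) (p : ℕ) : List ℕ :=
  (List.range 112).filter fun q => cur.all fun b => !(b == q) && ((nb b).testBit q == (nb b).testBit p)

/-- No step has more choices than listed. -/
def chkSteps : List (ℕ × ℕ) → List ℕ → Bool
  | [], cur => (List.range 112).all fun p => cur.contains p
  | (p, c) :: l, cur => Nat.blt p 112 && !cur.contains p && Nat.ble (cands cur p).length c && chkSteps l (p :: cur)

/-- The automorphisms fixing some points. -/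
def fixing (cur : List ℕ) : Subgroup (Equiv.Perm (Fin 112)) where
  carrier := {σ | σ ∈ autT ∧ ∀ x : Fin 112, x.1 ∈ cur → σ x = x}
  one_mem' := ⟨one_mem _, fun _ _ => rfl⟩
  mul_mem' := fun {σ τ} hσ hτ => ⟨mul_mem hσ.1 hτ.1, fun x hx => by
    rw [Equiv.Perm.mul_apply, hτ.2 x hx, hσ.2 x hx]⟩
  inv_mem' := fun {σ} hσ => ⟨inv_mem hσ.1, fun x hx => by
    conv_lhs => rw [← hσ.2 x hx]
    rw [← Equiv.Perm.mul_apply, inv_mul_cancel, Equiv.Perm.one_apply]⟩

theorem card_fixing : ∀ (l : List (ℕ × ℕ)) (cur : List ℕ), chkSteps l cur = true →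
    Nat.card ↥(fixing cur) ≤ (l.map Prod.snd).prod := by
  intro l
  induction l with
  | nil =>
    intro cur h
    simp only [chkSteps, List.all_eq_true, List.mem_range, List.contains_iff_mem] at h
    have hbot : fixing cur = ⊥ :=
      (Subgroup.eq_bot_iff_forall _).2 fun σ hσ => Equiv.ext fun x => hσ.2 x (h x.1 x.2)
    rw [hbot]
    simp
  | cons pc l ih =>
    obtain ⟨p, c⟩ := pc
    intro cur h
    simp only [chkSteps, Bool.and_eq_true, Bool.not_eq_true', List.contains_eq_mem, decide_eq_false_iff_not] at h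
    obtain ⟨⟨⟨hp, hpc⟩, hlen⟩, hrest⟩ := h
    have hp' : p < 112 := Nat.le_of_ble_eq_true hp
    let x : Fin 112 := ⟨p, hp'⟩
    let T : Finset ℕ := (cands cur p).toFinset
    have hsub : ∀ σ : ↥(fixing cur), ((σ.1 x : Fin 112) : ℕ) ∈ T := fun σ => by
      simp only [T, List.mem_toFinset, cands, List.mem_filter, List.mem_range, List.all_eq_true, Bool.and_eq_true,
        Bool.not_eq_true', beq_iff_eq, beq_eq_false_iff_ne]
      refine ⟨(σ.1 x).2, fun b hb => ⟨fun e => hpc ?_, ?_⟩⟩
      · have hbl : b < 112 := e ▸ (σ.1 x).2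
        have e' : σ.1 ⟨b, hbl⟩ = σ.1 x := by rw [σ.2.2 ⟨b, hbl⟩ hb]; exact Fin.ext e
        have hbp : b = p := congrArg Fin.val (σ.1.injective e')
        exact hbp ▸ hb
      · rcases Nat.lt_or_ge b 112 with hbl | hbl
        · have := σ.2.1 ⟨b, hbl⟩ x
          rw [σ.2.2 ⟨b, hbl⟩ hb] at this
          exact this
        · have h0 : nb b = 0 := List.getD_eq_default _ _ (show nbT.length ≤ b from le_trans (by decide) hbl)
          rw [h0, Nat.zero_testBit, Nat.zero_testBit]
    have key : ∀ σ τ : ↥(fixing cur), σ.1 x = τ.1 x → (σ⁻¹ * τ : ↥(fixing cur)).1 ∈ fixing (p :: cur) :=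
      fun σ τ e => by
        refine ⟨(σ⁻¹ * τ).2.1, fun y hy => ?_⟩
        rcases List.mem_cons.1 hy with hy | hy
        · obtain rfl : y = x := Fin.ext hy
          show σ.1⁻¹ (τ.1 x) = x
          rw [← e]
          rw [← Equiv.Perm.mul_apply, inv_mul_cancel, Equiv.Perm.one_apply]
        · exact (σ⁻¹ * τ).2.2 y hy
    classical
    let rep : ↥T → ↥(fixing cur) := fun q =>
      if hq : ∃ σ : ↥(fixing cur), ((σ.1 x : Fin 112) : ℕ) = q.1 then hq.choose else 1
    have hrep : ∀ σ : ↥(fixing cur), (rep ⟨_, hsub σ⟩).1 x = σ.1 x := fun σ => by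
      have hq : ∃ τ : ↥(fixing cur), ((τ.1 x : Fin 112) : ℕ) = ((σ.1 x : Fin 112) : ℕ) := ⟨σ, rfl⟩
      show (if hq : ∃ τ : ↥(fixing cur), ((τ.1 x : Fin 112) : ℕ) = _ then hq.choose else 1).1 x = _
      rw [dif_pos hq]
      exact Fin.ext hq.choose_spec
    let f : ↥(fixing cur) → ↥T × ↥(fixing (p :: cur)) := fun σ =>
      (⟨_, hsub σ⟩, ⟨_, key (rep ⟨_, hsub σ⟩) σ (hrep σ)⟩)
    have hf : Function.Injective f := fun σ τ e => by
      have e1 : (⟨_, hsub σ⟩ : ↥T) = ⟨_, hsub τ⟩ := (Prod.ext_iff.1 e).1
      have e2 := congrArg Subtype.val (Prod.ext_iff.1 e).2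
      simp only [f, e1] at e2
      exact Subtype.ext (mul_left_cancel e2)
    have hcard := Nat.card_le_card_of_injective f hf
    rw [Nat.card_prod, Nat.card_eq_finsetCard] at hcard
    calc Nat.card ↥(fixing cur) ≤ T.card * Nat.card ↥(fixing (p :: cur)) := hcard
      _ ≤ c * (l.map Prod.snd).prod :=
        Nat.mul_le_mul ((List.toFinset_card_le _).trans (Nat.le_of_ble_eq_true hlen)) (ih _ hrest)
      _ = _ := by simp

theorem steps_ok : chkSteps steps [] = true := by decide +kernel

theorem card_autT : Nat.card ↥autT ≤ 26127360 := by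
  have h : autT = fixing [] := le_antisymm (fun σ hσ => ⟨hσ, fun _ hx => absurd hx List.not_mem_nil⟩) fun σ hσ => hσ.1
  rw [h]
  exact le_trans (card_fixing steps [] steps_ok) (by decide +kernel)

section Unitary

open UFourThree

/-- The lines of the unitary geometry are labelled once each. -/
theorem lineT_ok : lineT.length = 112 ∧ lineT.Nodup ∧ ∀ i < 112, lineT.getD i 0 < 112 := by decide +kernel

/-- The labelling. -/
noncomputable def lineEquiv : Fin 112 ≃ Fin actL.N :=
  Equiv.ofBijective (fun i => (⟨lineT.getD i.1 0, lineT_ok.2.2 i.1 i.2⟩ : Fin actL.N))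
    (Function.Injective.bijective_of_nat_card_le (fun i j e => Fin.ext (by
      have h := congrArg Fin.val e
      simp only at h
      have hi : i.1 < lineT.length := by rw [lineT_ok.1]; exact i.2
      have hj : j.1 < lineT.length := by rw [lineT_ok.1]; exact j.2
      rw [List.getD_eq_getElem _ _ hi, List.getD_eq_getElem _ _ hj] at h
      exact (lineT_ok.2.1.getElem_inj_iff).1 h)) (by simp [actL]))

/-- A generator moves a labelled point as listed. -/
noncomputable def chkGen (i : ℕ) : Bool :=
  (List.range 3).all fun s => force ((genT.getD s []).getD i 0) fun j =>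
    Nat.blt j 112 && Nat.beq (actL.im (lineT.getD i 0) s) (lineT.getD j 0)

theorem gen_ok : ∀ i < 112, chkGen i = true :=
  of_blocks (size := 28) (b := 4) (by decide) (by decide) fun j hj => by interval_cases j <;> decide +kernel

/-- A generator keeps adjacency. -/
def chkAdj (i : ℕ) : Bool :=
  (List.range 3).all fun s => (List.range 112).all fun j =>
    (nb ((genT.getD s []).getD i 0)).testBit ((genT.getD s []).getD j 0) == (nb i).testBit j

theorem adj_ok : ∀ i < 112, chkAdj i = true :=
  of_blocks (size := 14) (b := 8) (by decide) (by decide) fun j hj => by interval_cases j <;> decide +kernel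

theorem exists_embed : ∃ θ : G43 →* Equiv.Perm (Fin 112), Function.Injective θ ∧ ∀ g, θ g ∈ autT := by
  obtain ⟨π, hπ⟩ := exists_homL
  let θ : G43 →* Equiv.Perm (Fin 112) := (lineEquiv.symm.permCongrHom.toMonoidHom).comp π
  have hθs : ∀ s < 3, ∀ i : Fin 112, ((θ (gT s) i : Fin 112) : ℕ) = (genT.getD s []).getD i.1 0 := fun s hs i => by
    have h := List.all_eq_true.1 (gen_ok i.1 i.2) s (List.mem_range.2 hs)
    rw [force_eq, Bool.and_eq_true] at h
    have hj := Nat.le_of_ble_eq_true h.1
    have e : π (gT s) (lineEquiv i) = lineEquiv ⟨_, hj⟩ := Fin.ext (by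
      rw [hπ.gen, actL.perm_apply hπ.inv (hs : s < actL.n)]
      exact Nat.eq_of_beq_eq_true h.2)
    show ((lineEquiv.symm (π (gT s) (lineEquiv i)) : Fin 112) : ℕ) = _
    rw [e, Equiv.symm_apply_apply]
  have hmem : ∀ g, θ g ∈ autT := by
    have hle : Subgroup.closure {x | ∃ s < 3, gT s = x} ≤ autT.comap θ := by
      refine (Subgroup.closure_le _).2 ?_
      rintro _ ⟨s, hs, rfl⟩
      show θ (gT s) ∈ autT
      intro i j
      have h := List.all_eq_true.1 (List.all_eq_true.1 (adj_ok i.1 i.2) s (List.mem_range.2 hs)) j.1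
        (List.mem_range.2 j.2)
      show (nb _).testBit _ = _
      rw [hθs s hs, hθs s hs]
      exact beq_iff_eq.1 h
    rw [gen] at hle
    exact fun g => hle (Subgroup.mem_top g)
  have : IsSimpleGroup G43 := Cfsg.Agent.S0283.result (F := K9) (q := 3) K9.card_eq 4 (by norm_num) (by norm_num)
  refine ⟨θ, (θ.ker_eq_bot_iff).1 ((θ.normal_ker.eq_bot_or_eq_top).resolve_right fun h => ?_), hmem⟩
  have h0 : θ (gT 0) = 1 := MonoidHom.mem_ker.1 (h ▸ Subgroup.mem_top _)
  obtain ⟨i, hi⟩ : ∃ i : Fin 112, (genT.getD 0 []).getD i.1 0 ≠ i.1 := by decide +kernel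
  exact hi (by rw [← hθs 0 (by norm_num) i, h0]; rfl)

/-- A field of nine elements gives the same group. -/
theorem exists_iso (F : Type*) [Field F] [Fintype F] (hF : Fintype.card F = 9) : Nonempty (G43 ≃* PSU 4 F 3) := by
  classical
  let e : SU43 ≃* SU 4 F 3 :=
    SUCongr.equiv 3 (FiniteField.ringEquivOfCardEq (K := K9) (K' := F) (by rw [hF]; rfl))
  refine ⟨QuotientGroup.congr _ _ e ?_⟩
  ext y
  constructor
  · rintro ⟨x, hx, rfl⟩
    refine Subgroup.mem_center_iff.2 fun z => ?_
    obtain ⟨w, rfl⟩ := e.surjective z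
    show e w * e x = e x * e w
    rw [← map_mul, ← map_mul, Subgroup.mem_center_iff.1 hx w]
  · intro hy
    refine ⟨e.symm y, Subgroup.mem_center_iff.2 fun z => e.injective ?_, e.apply_symm_apply y⟩
    rw [map_mul, map_mul, e.apply_symm_apply, Subgroup.mem_center_iff.1 hy (e z)]

end Unitary

/-- **The recognition by the graph.** -/
theorem iso_of_graph {G : Type*} [Group G] [Finite G] (hG : Nat.card G = 3265920)
    (f : G →* Equiv.Perm (Fin 112)) (hf : Function.Injective f) (hadj : ∀ g i j, adjT (f g i) (f g j) = adjT i j)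
    (K : Type*) [Field K] [Fintype K] (hK : Fintype.card K = 9) : Nonempty (G ≃* PSU 4 K 3) := by
  obtain ⟨θ, hθ, hθA⟩ := exists_embed
  have : IsSimpleGroup UFourThree.G43 :=
    Cfsg.Agent.S0283.result (F := UFourThree.K9) (q := 3) UFourThree.K9.card_eq 4 (by norm_num) (by norm_num)
  have : Finite UFourThree.G43 := Nat.finite_of_card_ne_zero (by rw [UFourThree.card_G43]; norm_num)
  let D : Subgroup UFourThree.G43 := f.range.comap θ
  have hfr : Nat.card ↥f.range = 3265920 := by rw [← Nat.card_congr (MonoidHom.ofInjective hf).toEquiv, hG]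
  have hidx : D.index ≤ 8 := by
    rw [Subgroup.index_comap]
    have h1 := Subgroup.relIndex_le_of_le_right (H := f.range) (show θ.range ≤ autT by rintro _ ⟨g, rfl⟩; exact hθA g)
      (by rw [Subgroup.relIndex]; exact Subgroup.index_ne_zero_of_finite)
    have h2 : Nat.card ↥f.range * f.range.relIndex autT = Nat.card ↥autT := by
      rw [← Subgroup.relIndex_bot_left, ← Subgroup.relIndex_bot_left,
        Subgroup.relIndex_mul_relIndex _ _ _ bot_le (by rintro _ ⟨g, rfl⟩; exact hadj g)]
    have h3 := card_autT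
    rw [hfr] at h2
    omega
  have htop : D = ⊤ := by
    rcases (Subgroup.normalCore_normal D).eq_bot_or_eq_top with h | h
    · exfalso
      have hinj : Function.Injective (MulAction.toPermHom UFourThree.G43 (UFourThree.G43 ⧸ D)) := by
        rw [← MonoidHom.ker_eq_bot_iff, ← Subgroup.normalCore_eq_ker]; exact h
      have h2 := Nat.card_le_card_of_injective _ hinj
      rw [UFourThree.card_G43, Nat.card_perm, ← Subgroup.index] at h2
      have h4 := le_trans h2 (Nat.factorial_le hidx)
      norm_num [Nat.factorial_succ] at h4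
    · exact top_le_iff.1 (h ▸ Subgroup.normalCore_le D)
  have hrange : θ.range = f.range := Subgroup.eq_of_le_of_card_ge (by
      rintro _ ⟨g, rfl⟩
      exact (show g ∈ D from htop ▸ Subgroup.mem_top g))
    (by rw [hfr, ← Nat.card_congr (MonoidHom.ofInjective hθ).toEquiv, UFourThree.card_G43])
  obtain ⟨e⟩ := exists_iso K hK
  exact ⟨((MonoidHom.ofInjective hf).trans (MulEquiv.subgroupCongr hrange.symm)).trans
    ((MonoidHom.ofInjective hθ).symm.trans e)⟩

end Cfsg.Agent.Spor.UFourType
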