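import Cfsg.Agent.Lib.Spor.UFourType.MGroup
import Cfsg.Agent.Lib.Spor.UFourType.Model

/-! What is computed for the geometry on the cosets of the normalizer. -/

set_option autoImplicit false
set_option maxRecDepth 100000
set_option synthInstance.maxSize 1024
set_option synthInstance.maxHeartbeats 200000

namespace Cfsg.Agent.Spor.UFourType

/-- Matrices carrying the first singular line onto the ten. -/
def lineA : List ℕ := [14408200, 28757350, 28784256, 28811238, 33011016, 30887466, 30941105, 33064655, 30914123, 33037673]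

/-- The code of a line. -/
def lC (i : ℕ) : ℕ := lineL.getD i 0

/-- The sign convention: the image of the first vector is the code of the line or its double. -/
theorem lineA_spec : ∀ i < 10, lineA.getD i 0 ∈ xT ∧ lC i < 81 ∧
    (ap (lineA.getD i 0) 4 = lC i ∨ ap (lineA.getD i 0) 4 = vS 2 (lC i)) ∧
    (i = 0 → lineA.getD i 0 = mI) ∧
    (i ≠ 0 → ∃ w ∈ xW, mM w (xGen.getD 1 0) = lineA.getD i 0) := by decide +kernel

theorem lineA_perp : ∀ i < 10, ∀ u < 81, Nat.beq (qB (lC i) (ap (lineA.getD i 0) u)) 0 = Nat.beq (qB 4 u) 0 := by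
  decide +kernel

/-- A translation with a given value on a line. -/
def wL (i c : ℕ) : ℕ := ((List.range 81).filter fun w => Nat.beq (qB (lC i) w) c).headD 0

theorem wL_spec : ∀ i < 10, ∀ c < 3, wL i c < 81 ∧ qB (lC i) (wL i c) = c := by decide +kernel

theorem qB_diff : ((List.range 10).all fun i => (List.range 81).all fun a => (List.range 81).all fun b =>
    Nat.beq (qB (lC i) (vA a (vS 2 b))) ((qB (lC i) a + 2 * qB (lC i) b) % 3)) = true := by decide +kernel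

theorem perp_sep : ∀ i < 10, ∀ j < 10, i ≠ j → ∃ v < 81, qB (lC i) v = 0 ∧ qB (lC j) v ≠ 0 := by decide +kernel

theorem four_split : ∀ u < 81, qB 4 u = 0 →
    ∃ a < 3, ∃ b < 3, ∃ c < 3, u = vA (vS a 4) (vA (vS b 9) (vS c 27)) := by decide +kernel

/-- A translation split by the first line. -/
theorem four_coset : ∀ u < 81, qB 4 (vA u (vS 2 (vS (qB 4 u) 3))) = 0 ∧ qB 4 3 = 1 := by decide +kernel

theorem plus_part : ∀ v < 81, v2 (vA v (vC (v0 v) (1 * v1 v) (2 * v2 v) (2 * v3 v))) = 0 ∧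
    v3 (vA v (vC (v0 v) (1 * v1 v) (2 * v2 v) (2 * v3 v))) = 0 ∧
    (vA v (vC (v0 v) (1 * v1 v) (2 * v2 v) (2 * v3 v)) = 0 → v0 v = 0 ∧ v1 v = 0) ∧
    (vC (v0 v) (1 * v1 v) (2 * v2 v) (2 * v3 v) = vS 2 v → v0 v = 0 ∧ v1 v = 0) ∧
    (v0 v = 0 → v1 v = 0 → vC (v0 v) (1 * v1 v) (2 * v2 v) (2 * v3 v) = vS 2 v ∧
      (v ≠ 0 → ∀ w < 81, v0 w = 0 → v1 w = 0 → ∃ i < 3, ∃ j < 3, w = vA (vS i v) (vS j (ap (xGen.getD 2 0) v)))) := by
  decide +kernel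

theorem d8_closed : (∀ a ∈ d8L, ∀ b ∈ d8L, mL a b ∈ d8L) ∧ (∀ a ∈ d8L, iL a ∈ d8L ∧ cjL 13 a = a) ∧
    (∀ a ∈ d8L, cjL a 8 = 8 ∨ cjL a 8 = 4 → npP (mL (mL (iL 12) a) 12) = true) := by decide +kernel

theorem q_meet : (∀ p ∈ pL, npP (cjL 13 p) = true → p = 0) ∧
    mL (mL 4 (cjL 13 8)) (mL 4 (cjL 13 8)) = 144 := by decide +kernel

/-- The numbers used for the points. -/
theorem pt_nums : mL 12 12 = 144 ∧ mL 13 13 = 0 ∧ mL 12 1 = 13 ∧ cjL 576 12 = 1 ∧ iL 576 = 576 ∧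
    mL 12 8 = mL 8 12 ∧ npP 12 = false ∧ npP 13 = false ∧ npP (mL (mL (iL 12) 100) 12) = false ∧
    npP (mL (mL (iL 12) 56) 12) = false := by decide +kernel

/-- The products met when walking in the geometry. -/
theorem walk : (∀ c ∈ [100, 56], ∃ d ∈ [100, 56], ∃ n < 1152, npP n = true ∧ mL (mL 12 c) 12 = mL (mL d 12) n) ∧
    (∀ c ∈ [0, 100, 56], ∃ p ∈ pL, ∃ n < 1152, npP n = true ∧
      mL (mL (mL 12 576) c) 12 = mL (mL p 13) n) ∧
    (∃ n < 1152, npP n = true ∧ mL 13 12 = mL (mL 576 12) n) ∧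
    (∀ c ∈ [100, 56], ∃ p ∈ [48, 96], ∃ n < 1152, npP n = true ∧ mL (mL 13 c) 12 = mL (mL p 13) n) ∧
    (∃ n < 1152, npP n = true ∧ mL (mL 12 576) 12 = mL 13 n) ∧
    (∀ p ∈ [48, 96], ∃ c ∈ [100, 56], ∃ n < 1152, npP n = true ∧ mL (mL 13 c) 12 = mL (mL p 13) n) ∧
    (∀ d ∈ [100, 56], ∃ c ∈ [100, 56], ∃ n < 1152, npP n = true ∧ mL (mL 12 c) 12 = mL (mL d 12) n) := by
  decide +kernel

/-- The coset of a number. -/
theorem four_nums : vS 2 (vS 2 4) = 4 ∧ vS 2 4 = 8 ∧ ap (xGen.getD 1 0) 4 = lC 1 ∧ vS 2 5 = lC 1 ∧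
    vS 2 (lC 1) = 5 := by decide +kernel

theorem lC_opp : ∀ i < 10, vS 2 (vS 2 (lC i)) = lC i ∧ vS 2 (lC i) < 81 := by decide +kernel

/-- Adjacency in the table, by the kinds of points. -/
theorem adjT_spec :
    (∀ j : Fin 112, adjT 0 j = (!(Nat.beq j.1 0) && Nat.blt j.1 31)) ∧
    (∀ i : Fin 112, i.1 ≠ 0 → i.1 < 31 → ∀ j : Fin 112, j.1 ≠ 0 → j.1 < 31 →
      adjT i j = (Nat.beq ((i.1 - 1) / 3) ((j.1 - 1) / 3) && !(Nat.beq i.1 j.1))) ∧
    (∀ i : Fin 112, i.1 ≠ 0 → i.1 < 31 → ∀ j : Fin 112, 31 ≤ j.1 →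
      adjT i j = Nat.beq (qB (lC ((i.1 - 1) / 3)) (j.1 - 31)) ((i.1 - 1) % 3)) ∧
    (∀ i : Fin 112, 31 ≤ i.1 → ∀ j : Fin 112, 31 ≤ j.1 →
      adjT i j = (List.range 10).any fun k => Nat.beq (vA (j.1 - 31) (vS 2 (i.1 - 31))) (lC k) ||
        Nat.beq (vA (j.1 - 31) (vS 2 (i.1 - 31))) (vS 2 (lC k))) ∧
    (∀ i j : Fin 112, adjT i j = adjT j i) := by decide +kernel

end Cfsg.Agent.Spor.UFourType
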