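import Cfsg.Agent.Lib.Spor.UFourType.Geometry

/-!
The orbit has 112 points and carries the graph of the table.
-/

set_option autoImplicit false
set_option maxRecDepth 100000
set_option synthInstance.maxSize 1024

namespace Cfsg.Agent.Spor.UFourType

variable {G : Type*} [Group G] {z : G} {e : ℕ → G} {r r' : G}

theorem nbeq_iff {a b : ℕ} : Nat.beq a b = true ↔ a = b :=
  ⟨Nat.eq_of_beq_eq_true, fun h => h ▸ Nat.beq_refl a⟩

theorem perp_some : ∀ i < 10, ∃ v < 81, v ≠ 0 ∧ qB (lC i) v = 0 := by decide +kernel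

/-- The group generated by the normalizer and the walking element. -/
def Two.G0 [Finite G] (W : Two z e r r') : Subgroup G := Subgroup.closure ((W.M : Set G) ∪ {e 12})

namespace Reps

variable [Finite G] {W : Two z e r r'} {R : Subgroup G} {L : Line W R} {kk : ℕ → G} (H : Reps L kk)
include H

theorem pt_base : pt W.M e r kk 0 = cs W.M 1 := by simp [pt]

theorem pt_N {i c : ℕ} (hi : i < 10) (hc : c < 3) :
    ∃ n : Fin 112, n.1 = 1 + 3 * i + c ∧ pt W.M e r kk n = ptN W.M e r kk i c := by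
  refine ⟨⟨1 + 3 * i + c, by omega⟩, rfl, ?_⟩
  unfold pt
  rw [if_neg (by simp), if_pos (by simp; omega), show (1 + 3 * i + c - 1) / 3 = i by omega,
    show (1 + 3 * i + c - 1) % 3 = c by omega]

theorem pt_D {v : ℕ} (hv : v < 81) : ∃ n : Fin 112, n.1 = 31 + v ∧ pt W.M e r kk n = ptD W.M e r v := by
  refine ⟨⟨31 + v, by omega⟩, rfl, ?_⟩
  unfold pt
  rw [if_neg (by simp), if_neg (by simp), show 31 + v - 31 = v by omega]

theorem pt_cases (n : Fin 112) : (n.1 = 0 ∧ pt W.M e r kk n = cs W.M 1) ∨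
    (∃ i < 10, ∃ c < 3, n.1 = 1 + 3 * i + c ∧ pt W.M e r kk n = ptN W.M e r kk i c) ∨
    ∃ v < 81, n.1 = 31 + v ∧ pt W.M e r kk n = ptD W.M e r v := by
  unfold pt
  by_cases h0 : n.1 = 0
  · left; exact ⟨h0, if_pos h0⟩
  by_cases h1 : n.1 < 31
  · right; left
    refine ⟨(n.1 - 1) / 3, by omega, (n.1 - 1) % 3, by omega, by omega, ?_⟩
    rw [if_neg h0, if_pos h1]
  · right; right
    exact ⟨n.1 - 31, by omega, by omega, by rw [if_neg h0, if_neg h1]⟩

theorem ptN_ne_base {i c : ℕ} (hi : i < 10) (hc : c < 3) : ptN W.M e r kk i c ≠ cs W.M 1 := by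
  intro h
  rw [H.ptN_def, cs_smul, cs_eq, mul_one, inv_mem_iff] at h
  exact absurd ((L.num_mem (show (12 : ℕ) < 1152 by norm_num)).1
    ((W.M.mul_mem_cancel_left (H.ptN_M hi hc)).1 h)) (by rw [pt_nums.2.2.2.2.2.2.1]; decide)

theorem ptD_ne_base {v : ℕ} (hv : v < 81) : ptD W.M e r v ≠ cs W.M 1 := by
  intro h
  rw [ptD, cs_smul, cs_eq, mul_one, inv_mem_iff] at h
  exact absurd ((L.num_mem (show (13 : ℕ) < 1152 by norm_num)).1
    ((W.M.mul_mem_cancel_left (W.E_le ⟨v, hv, rfl⟩)).1 h)) (by rw [pt_nums.2.2.2.2.2.2.2.1]; decide)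

theorem ev_swap (u v : ℕ) (P : G ⧸ W.M) : ev e r u • ev e r v • P = ev e r v • ev e r u • P := by
  rw [← mul_smul, ← mul_smul, ← W.fst.ev_add, ← W.fst.ev_add, vA_eq, vA_eq, add_comm (v0 u), add_comm (v1 u),
    add_comm (v2 u), add_comm (v3 u)]

theorem D_eq {u v : ℕ} (hu : u < 81) (hv : v < 81) (h : ptD W.M e r u = ptD W.M e r v) : u = v := by
  rw [ptD, ptD, ← inv_smul_eq_iff, ← mul_smul, W.fst.ev_inv, ← W.fst.ev_add] at h
  have hm : ev e r (vA (vS 2 v) u) ∈ L.K := L.mem_K.2 ⟨W.E_le ⟨_, vA_lt _ _, rfl⟩, h⟩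
  have h0 := L.K_E (vA_lt _ _) hm
  exact sub_codes u hu v hv (by rw [← h0, vA_eq, vA_eq, add_comm (v0 u), add_comm (v1 u), add_comm (v2 u), add_comm (v3 u)])

theorem N_ne_D {i c v : ℕ} (hi : i < 10) (hv : v < 81) : ptN W.M e r kk i c ≠ ptD W.M e r v := by
  intro h
  obtain ⟨u, hu, hu0, hp⟩ := perp_some i hi
  have h1 : ev e r u • ptN W.M e r kk i c = ptN W.M e r kk i c := by
    rw [ptN, H.ev_swap, H.perp_fix hi hu hp]
  rw [h, ptD, H.ev_swap, MulAction.injective (ev e r v) |>.eq_iff] at h1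
  exact hu0 (L.K_E hu (L.mem_K.2 ⟨W.E_le ⟨u, hu, rfl⟩, h1⟩))

theorem N_eq {i c j d : ℕ} (hi : i < 10) (hc : c < 3) (hj : j < 10) (hd : d < 3)
    (h : ptN W.M e r kk i c = ptN W.M e r kk j d) : i = j ∧ c = d := by
  have hij : i = j := by
    by_contra hne
    obtain ⟨u, hu, hp, hq⟩ := perp_sep i hi j hj hne
    have h1 : ev e r u • ptN W.M e r kk i c = ptN W.M e r kk i c := by
      rw [ptN, H.ev_swap, H.perp_fix hi hu hp]
    rw [h, ptN, H.ev_swap, (MulAction.injective _).eq_iff] at h1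
    exact hq (H.perp_conv hj hu h1)
  subst hij
  refine ⟨rfl, ?_⟩
  obtain ⟨ha, ea⟩ := wL_spec i hi c hc
  obtain ⟨hb, eb⟩ := wL_spec i hi d hd
  rw [ptN, ptN, ← inv_smul_eq_iff, ← mul_smul, W.fst.ev_inv, ← W.fst.ev_add] at h
  have h0 := H.perp_conv hi (vA_lt _ _) h
  have hcomm : vA (vS 2 (wL i d)) (wL i c) = vA (wL i c) (vS 2 (wL i d)) := by
    rw [vA_eq, vA_eq, add_comm (v0 _), add_comm (v1 _), add_comm (v2 _), add_comm (v3 _)]
  have hd' := List.all_eq_true.1 (List.all_eq_true.1 (List.all_eq_true.1 qB_diff i (List.mem_range.2 hi)) _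
    (List.mem_range.2 ha)) _ (List.mem_range.2 hb)
  rw [hcomm, Nat.eq_of_beq_eq_true hd', ea, eb] at h0
  omega

theorem pt_inj : Function.Injective (pt W.M e r kk) := by
  intro m n h
  rcases H.pt_cases m with ⟨hm, em⟩ | ⟨i, hi, c, hc, hm, em⟩ | ⟨v, hv, hm, em⟩ <;>
    rcases H.pt_cases n with ⟨hn, en⟩ | ⟨j, hj, d, hd, hn, en⟩ | ⟨w, hw, hn, en⟩ <;> rw [em, en] at h <;>
    refine Fin.ext ?_
  · omega
  · exact absurd h.symm (H.ptN_ne_base hj hd)
  · exact absurd h.symm (H.ptD_ne_base hw)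
  · exact absurd h (H.ptN_ne_base hi hc)
  · obtain ⟨rfl, rfl⟩ := H.N_eq hi hc hj hd h; omega
  · exact absurd h (H.N_ne_D hi hw)
  · exact absurd h (H.ptD_ne_base hv)
  · exact absurd h.symm (H.N_ne_D hj hv)
  · have := H.D_eq hv hw h; omega

theorem first_eq : cs W.M (e 12) = ptN W.M e r kk 0 0 := by
  rw [H.ptN_zero (by norm_num), show mL (([0, 100, 56] : List ℕ).getD 0 0) 12 = 12 by decide +kernel]

theorem M_range {m : G} (hm : m ∈ W.M) (n : Fin 112) : ∃ n', m • pt W.M e r kk n = pt W.M e r kk n' := by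
  rcases H.pt_cases n with ⟨-, en⟩ | ⟨i, hi, c, hc, -, en⟩ | ⟨v, hv, -, en⟩ <;> rw [en]
  · exact ⟨0, by rw [L.fix_base.2 hm, H.pt_base]⟩
  · rw [H.ptN_def, ← mul_smul]
    obtain ⟨j, hj, d, hd, e1⟩ := H.M_pt (mul_mem hm (H.ptN_M hi hc))
    obtain ⟨n', -, e2⟩ := H.pt_N hj hd
    exact ⟨n', e1.trans e2.symm⟩
  · obtain ⟨u, hu, e1⟩ := H.smul_D hm hv
    obtain ⟨n', -, e2⟩ := H.pt_D hu
    exact ⟨n', e1.trans e2.symm⟩

theorem adj_range {n : Fin 112} {y : G ⧸ W.M} (h : Adj W.M (e 12) (pt W.M e r kk n) y) :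
    ∃ n', y = pt W.M e r kk n' := by
  rcases H.pt_cases n with ⟨-, en⟩ | ⟨i, hi, c, hc, -, en⟩ | ⟨v, hv, -, en⟩ <;> rw [en] at h
  · obtain ⟨j, hj, d, hd, rfl⟩ := H.adj_base.1 h
    obtain ⟨n', -, e2⟩ := H.pt_N hj hd
    exact ⟨n', e2.symm⟩
  · set g := ev e r (wL i c) * kk i with hg
    have hgM : g ∈ W.M := H.ptN_M hi hc
    rw [H.ptN_def] at h
    have h' := h.smul g⁻¹
    rw [inv_smul_smul] at h'
    obtain ⟨n', e1⟩ : ∃ n', g⁻¹ • y = pt W.M e r kk n' := by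
      rcases H.adj_first h' with h1 | ⟨d, hd, -, h1⟩ | ⟨u, hu, h1⟩ <;> rw [h1]
      · exact ⟨0, H.pt_base.symm⟩
      · obtain ⟨n', -, e2⟩ := H.pt_N (show 0 < 10 by norm_num) hd
        exact ⟨n', e2.symm⟩
      · obtain ⟨n', -, e2⟩ := H.pt_D hu
        exact ⟨n', e2.symm⟩
    obtain ⟨n'', e2⟩ := H.M_range hgM n'
    exact ⟨n'', by rw [← e2, ← e1, smul_inv_smul]⟩
  · rw [ptD] at h
    have h' := h.smul (ev e r v)⁻¹
    rw [inv_smul_smul] at h'
    obtain ⟨n', e1⟩ : ∃ n', (ev e r v)⁻¹ • y = pt W.M e r kk n' := by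
      rcases H.adj_p.1 h' with ⟨j, hj, h1⟩ | ⟨j, hj, h1⟩
      · obtain ⟨j', hj', d, hd, e1⟩ := H.M_pt (H.kk_M hj)
        obtain ⟨n', -, e2⟩ := H.pt_N hj' hd
        exact ⟨n', (h1.trans e1).trans e2.symm⟩
      · rcases h1 with h1 | h1
        · obtain ⟨n', -, e2⟩ := H.pt_D (lineA_spec j hj).2.1
          exact ⟨n', h1.trans e2.symm⟩
        · obtain ⟨n', -, e2⟩ := H.pt_D (vS_lt 2 (lC j))
          exact ⟨n', h1.trans e2.symm⟩
    obtain ⟨n'', e2⟩ := H.M_range (W.E_le ⟨v, hv, rfl⟩) n'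
    exact ⟨n'', by rw [← e2, ← e1, smul_inv_smul]⟩

/-- An opposite point is collinear with its point of the first line. -/
theorem adj_D {v : ℕ} (hv : v < 81) : Adj W.M (e 12) (ptN W.M e r kk 0 (qB (lC 0) v)) (ptD W.M e r v) := by
  have h := H.adj_opp.smul (ev e r v)
  rwa [show ev e r v • cs W.M (e 12) = ptN W.M e r kk 0 (qB (lC 0) v) by
    rw [← H.trans (by norm_num) hv, H.zero, one_smul]] at h

theorem f_range (n : Fin 112) : ∃ n', e 12 • pt W.M e r kk n = pt W.M e r kk n' := by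
  have hN : ∀ i c, i < 10 → c < 3 → ∃ n', e 12 • ptN W.M e r kk i c = pt W.M e r kk n' := fun i c hi hc => by
    have h := (H.adj_base.2 ⟨i, hi, c, hc, rfl⟩).smul (e 12)
    rw [H.f_base.1, H.first_eq] at h
    obtain ⟨n0, -, e0⟩ := H.pt_N (show 0 < 10 by norm_num) (show 0 < 3 by norm_num)
    rw [← e0] at h
    exact H.adj_range h
  rcases H.pt_cases n with ⟨-, en⟩ | ⟨i, hi, c, hc, -, en⟩ | ⟨v, hv, -, en⟩ <;> rw [en]
  · obtain ⟨n', -, e2⟩ := H.pt_N (show 0 < 10 by norm_num) (show 0 < 3 by norm_num)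
    exact ⟨n', by rw [H.f_base.1, e2, H.first_eq]⟩
  · exact hN i c hi hc
  · have hc : qB (lC 0) v < 3 := Nat.mod_lt _ (by norm_num)
    obtain ⟨n1, e1⟩ := hN 0 _ (by norm_num) hc
    have h := (H.adj_D hv).smul (e 12)
    rw [e1] at h
    exact H.adj_range h

theorem G0_range {g : G} (hg : g ∈ W.G0) (n : Fin 112) : ∃ n', g • pt W.M e r kk n = pt W.M e r kk n' := by
  suffices h : ∀ n, ∃ n', g • pt W.M e r kk n = pt W.M e r kk n' from h n
  induction hg using Subgroup.closure_induction with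
  | mem x hx =>
    rcases hx with hx | rfl
    · exact H.M_range hx
    · exact H.f_range
  | one => exact fun n => ⟨n, one_smul _ _⟩
  | mul x y _ _ hx hy =>
    intro n
    obtain ⟨n1, e1⟩ := hy n
    obtain ⟨n2, e2⟩ := hx n1
    exact ⟨n2, by rw [mul_smul, e1, e2]⟩
  | inv x _ hx =>
    have hpow : ∀ k : ℕ, ∀ n, ∃ n', x ^ k • pt W.M e r kk n = pt W.M e r kk n' := by
      intro k
      induction k with
      | zero => exact fun n => ⟨n, by rw [pow_zero, one_smul]⟩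
      | succ k ih =>
        intro n
        obtain ⟨n1, e1⟩ := hx n
        obtain ⟨n2, e2⟩ := ih n1
        exact ⟨n2, by rw [pow_succ, mul_smul, e1, e2]⟩
    have h : x⁻¹ = x ^ (orderOf x - 1) := (eq_inv_of_mul_eq_one_left (by
      rw [← pow_succ, Nat.sub_add_cancel (orderOf_pos x), pow_orderOf_eq_one])).symm
    rw [h]
    exact hpow _

theorem G0_M : W.M ≤ W.G0 := fun _ hm => Subgroup.subset_closure (Or.inl hm)

theorem G0_f : e 12 ∈ W.G0 := Subgroup.subset_closure (Or.inr rfl)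

theorem G0_q : e 13 ∈ W.G0 := by
  have C := W.fst.cent
  have ht : e 576 ∈ W.G0 := H.G0_M W.t_mem
  rw [← pt_nums.2.2.1, C.mul 12 (by norm_num) 1 (by norm_num), ← pt_nums.2.2.2.1, C.e_cj (by norm_num) (by norm_num),
    W.fst.t_inv]
  exact mul_mem H.G0_f (mul_mem (mul_mem ht H.G0_f) ht)

/-- The points are the orbit. -/
theorem orbit_eq : MulAction.orbit ↥W.G0 (cs W.M 1) = Set.range (pt W.M e r kk) := by
  ext y
  constructor
  · rintro ⟨⟨g, hg⟩, rfl⟩
    obtain ⟨n', e1⟩ := H.G0_range hg 0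
    rw [H.pt_base] at e1
    exact ⟨n', e1.symm⟩
  · rintro ⟨n, rfl⟩
    rcases H.pt_cases n with ⟨-, en⟩ | ⟨i, hi, c, hc, -, en⟩ | ⟨v, hv, -, en⟩ <;> rw [en]
    · exact MulAction.mem_orbit_self _
    · exact ⟨⟨ev e r (wL i c) * kk i * e 12, mul_mem (H.G0_M (H.ptN_M hi hc)) H.G0_f⟩, by
        show (ev e r (wL i c) * kk i * e 12) • cs W.M 1 = _
        rw [mul_smul, H.f_base.1, H.ptN_def]⟩
    · exact ⟨⟨ev e r v * e 13, mul_mem (H.G0_M (W.E_le ⟨v, hv, rfl⟩)) H.G0_q⟩, by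
        show (ev e r v * e 13) • cs W.M 1 = _
        rw [mul_smul, cs_smul, mul_one]; rfl⟩

theorem card_G0 : Nat.card ↥W.G0 = 3265920 := by
  classical
  have hstab : MulAction.stabilizer ↥W.G0 (cs W.M 1) = W.M.subgroupOf W.G0 := by
    ext g
    exact L.fix_base
  have hidx := MulAction.index_stabilizer ↥W.G0 (cs W.M 1)
  rw [H.orbit_eq, Set.ncard_range_of_injective H.pt_inj, Nat.card_eq_fintype_card, Fintype.card_fin, hstab] at hidx
  rw [← Subgroup.card_mul_index (W.M.subgroupOf W.G0), hidx,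
    Nat.card_congr (Subgroup.subgroupOfEquivOfLe H.G0_M).toEquiv, W.card_M]

theorem adj_NN {i c j d : ℕ} (hi : i < 10) (hc : c < 3) (hj : j < 10) (hd : d < 3) :
    Adj W.M (e 12) (ptN W.M e r kk i c) (ptN W.M e r kk j d) ↔ (i = j ∧ c ≠ d) := by
  set g := ev e r (wL i c) * kk i with hg
  have hg12 : ptN W.M e r kk i c = g • cs W.M (e 12) := H.ptN_def i c
  have hgM : g ∈ W.M := H.ptN_M hi hc
  -- the images of the other two points of the first line
  have himg : ∀ b, b < 3 → b ≠ 0 → ∃ f < 3, f ≠ c ∧ g • ptN W.M e r kk 0 b = ptN W.M e r kk i f := by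
    intro b hb hb0
    obtain ⟨h1, h2, h3⟩ := H.pow_a hb
    obtain ⟨w, hw⟩ := wL_spec i hi c hc
    have hev : g • ptN W.M e r kk 0 b = ptN W.M e r kk i (qB (lC i) (vA (wL i c) (ap (lineA.getD i 0) (vS b 3)))) := by
      rw [← H.trans hi (vA_lt _ _), ← h3, ← H.trans (by norm_num) h2, h3, H.zero, one_smul, W.fst.ev_add,
        ← (H.act i hi).2 _ h2, ← mul_smul, ← mul_smul, hg]
      congr 1
      group
    refine ⟨qB (lC i) (vA (wL i c) (ap (lineA.getD i 0) (vS b 3))), Nat.mod_lt _ (by norm_num), ?_, hev⟩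
    intro hfc
    have h4 : g • ptN W.M e r kk 0 b = g • ptN W.M e r kk 0 0 := by
      rw [hev, hfc, hg12, H.first_eq]
    exact hb0 (H.N_eq (by norm_num) hb (by norm_num) (by norm_num) ((MulAction.injective g) h4)).2
  constructor
  · intro h
    rw [hg12] at h
    have h' := h.smul g⁻¹
    rw [inv_smul_smul] at h'
    rcases H.adj_first h' with h1 | ⟨b, hb, hb0, h1⟩ | ⟨u, hu, h1⟩ <;> rw [inv_smul_eq_iff] at h1
    · rw [L.fix_base.2 hgM] at h1
      exact absurd h1 (H.ptN_ne_base hj hd)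
    · obtain ⟨f, hf, hfc, e1⟩ := himg b hb hb0
      obtain ⟨rfl, rfl⟩ := H.N_eq hj hd hi hf (h1.trans e1)
      exact ⟨rfl, hfc.symm⟩
    · obtain ⟨u', hu', e1⟩ := H.smul_D hgM hu
      exact absurd (h1.trans e1) (H.N_ne_D hj hu')
  · rintro ⟨rfl, hcd⟩
    obtain ⟨f1, hf1, n1, e1⟩ := himg 1 (by norm_num) (by norm_num)
    obtain ⟨f2, hf2, n2, e2⟩ := himg 2 (by norm_num) (by norm_num)
    have hne : f1 ≠ f2 := fun h => by
      have := H.N_eq (by norm_num) (by norm_num) (by norm_num) (by norm_num)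
        ((MulAction.injective g) (e1.trans (h ▸ e2.symm)))
      exact absurd this.2 (by norm_num)
    have hstep : ∀ b, b < 3 → b ≠ 0 → Adj W.M (e 12) (ptN W.M e r kk i c) (g • ptN W.M e r kk 0 b) := by
      intro b hb hb0
      rw [hg12, H.ptN_zero hb]
      exact (H.adj_step ((show ∀ b < 3, b ≠ 0 → ([0, 100, 56] : List ℕ).getD b 0 ∈ [100, 56] by decide) b hb hb0)).smul g
    rcases (show d = f1 ∨ d = f2 by omega) with rfl | rfl
    · rw [← e1]; exact hstep 1 (by norm_num) (by norm_num)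
    · rw [← e2]; exact hstep 2 (by norm_num) (by norm_num)

theorem adj_ND {i c v : ℕ} (hi : i < 10) (hc : c < 3) (hv : v < 81) :
    Adj W.M (e 12) (ptN W.M e r kk i c) (ptD W.M e r v) ↔ qB (lC i) v = c := by
  obtain ⟨hw, ew⟩ := wL_spec i hi c hc
  have hd := Nat.eq_of_beq_eq_true (List.all_eq_true.1 (List.all_eq_true.1 (List.all_eq_true.1 qB_diff i
    (List.mem_range.2 hi)) _ (List.mem_range.2 hw)) v (List.mem_range.2 hv))
  rw [ew] at hd
  have e1 : (ev e r v)⁻¹ • ptN W.M e r kk i c = ptN W.M e r kk i ((c + 2 * qB (lC i) v) % 3) := by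
    rw [← hd, ← H.trans hi (vA_lt _ _), ptN, ← mul_smul (ev e r v)⁻¹, W.fst.ev_inv, ← W.fst.ev_add, vA_eq, vA_eq,
      add_comm (v0 (wL i c)), add_comm (v1 (wL i c)), add_comm (v2 (wL i c)), add_comm (v3 (wL i c))]
  have hq : qB (lC i) v < 3 := Nat.mod_lt _ (by norm_num)
  have h0 : ∀ j < 10, kk j • cs W.M (e 12) = ptN W.M e r kk j 0 := fun j hj => by
    have h := H.trans hj (show (0 : ℕ) < 81 by norm_num)
    rwa [W.fst.ev_zero, one_smul, (show ∀ j < 10, qB (lC j) 0 = 0 by decide +kernel) j hj] at h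
  constructor
  · intro h
    have h' := (H.adj_symm h).smul (ev e r v)⁻¹
    rw [e1, ptD, inv_smul_smul] at h'
    rcases H.adj_p.1 h' with ⟨j, hj, h1⟩ | ⟨j, hj, h1⟩
    · rw [h0 j hj] at h1
      have := (H.N_eq hi (Nat.mod_lt _ (by norm_num)) hj (by norm_num) h1).2
      omega
    · rcases h1 with h1 | h1
      · exact absurd h1 (H.N_ne_D hi (lineA_spec j hj).2.1)
      · exact absurd h1 (H.N_ne_D hi (vS_lt _ _))
  · intro h
    have h1 : Adj W.M (e 12) (cs W.M (e 13)) ((ev e r v)⁻¹ • ptN W.M e r kk i c) := by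
      rw [e1, show (c + 2 * qB (lC i) v) % 3 = 0 by omega, ← h0 i hi]
      exact H.adj_p.2 (Or.inl ⟨i, hi, rfl⟩)
    have h2 := (H.adj_symm h1).smul (ev e r v)
    rwa [smul_inv_smul] at h2

theorem adj_DD {u v : ℕ} (hu : u < 81) (hv : v < 81) :
    Adj W.M (e 12) (ptD W.M e r u) (ptD W.M e r v) ↔
      ∃ k < 10, vA v (vS 2 u) = lC k ∨ vA v (vS 2 u) = vS 2 (lC k) := by
  have e1 : (ev e r u)⁻¹ • ptD W.M e r v = ptD W.M e r (vA v (vS 2 u)) := by
    rw [ptD, ptD, ← mul_smul, W.fst.ev_inv, ← W.fst.ev_add, vA_eq, vA_eq, add_comm (v0 v), add_comm (v1 v),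
      add_comm (v2 v), add_comm (v3 v)]
  constructor
  · intro h
    have h' := h.smul (ev e r u)⁻¹
    rw [e1, show ptD W.M e r u = ev e r u • cs W.M (e 13) from rfl, inv_smul_smul] at h'
    rcases H.adj_p.1 h' with ⟨j, hj, h1⟩ | ⟨j, hj, h1⟩
    · exfalso
      obtain ⟨j', hj', d, hd, e2⟩ := H.M_pt (H.kk_M hj)
      exact H.N_ne_D hj' (vA_lt _ _) (e2.symm.trans h1.symm)
    · exact ⟨j, hj, h1.imp (H.D_eq (vA_lt _ _) (lineA_spec j hj).2.1) (H.D_eq (vA_lt _ _) (vS_lt _ _))⟩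
  · rintro ⟨j, hj, h⟩
    have h1 : Adj W.M (e 12) (cs W.M (e 13)) ((ev e r u)⁻¹ • ptD W.M e r v) := by
      rw [e1]
      exact H.adj_p.2 (Or.inr ⟨j, hj, h.imp (congrArg _) (congrArg _)⟩)
    have h2 := h1.smul (ev e r u)
    rwa [smul_inv_smul] at h2

/-- The graph of the orbit is the table. -/
theorem adj_iff (m n : Fin 112) : Adj W.M (e 12) (pt W.M e r kk m) (pt W.M e r kk n) ↔ adjT m n = true := by
  obtain ⟨a0, aN, aND, aD, asy⟩ := adjT_spec
  have hbase : ∀ m n : Fin 112, m.1 = 0 →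
      (Adj W.M (e 12) (pt W.M e r kk m) (pt W.M e r kk n) ↔ adjT m n = true) := by
    intro m n hm
    obtain rfl : m = 0 := Fin.ext hm
    rw [a0, H.pt_base, H.adj_base, Bool.and_eq_true, Bool.not_eq_true', Bool.eq_false_iff, Ne, nbeq_iff,
      Nat.blt_eq]
    constructor
    · rintro ⟨i, hi, c, hc, he⟩
      obtain ⟨n', hn', en'⟩ := H.pt_N hi hc
      have := H.pt_inj (he.trans en'.symm)
      subst this
      omega
    · rintro ⟨h1, h2⟩
      rcases H.pt_cases n with ⟨hn, -⟩ | ⟨i, hi, c, hc, -, en⟩ | ⟨v, -, hn, -⟩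
      · exact absurd hn h1
      · exact ⟨i, hi, c, hc, en⟩
      · omega
  have hsymm : ∀ P Q : G ⧸ W.M, Adj W.M (e 12) P Q ↔ Adj W.M (e 12) Q P := fun P Q => ⟨H.adj_symm, H.adj_symm⟩
  rcases H.pt_cases m with ⟨hm, em⟩ | ⟨i, hi, c, hc, hm, em⟩ | ⟨u, hu, hm, em⟩
  · exact hbase m n hm
  · rcases H.pt_cases n with ⟨hn, en⟩ | ⟨j, hj, d, hd, hn, en⟩ | ⟨v, hv, hn, en⟩
    · rw [hsymm, asy]; exact hbase n m hn
    · rw [em, en, H.adj_NN hi hc hj hd, aN m (by omega) (by omega) n (by omega) (by omega), Bool.and_eq_true,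
        Bool.not_eq_true', Bool.eq_false_iff, Ne, Ne, nbeq_iff, nbeq_iff]
      omega
    · rw [em, en, H.adj_ND hi hc hv, aND m (by omega) (by omega) n (by omega), nbeq_iff,
        show (m.1 - 1) / 3 = i by omega, show (m.1 - 1) % 3 = c by omega, show n.1 - 31 = v by omega]
  · rcases H.pt_cases n with ⟨hn, en⟩ | ⟨j, hj, d, hd, hn, en⟩ | ⟨v, hv, hn, en⟩
    · rw [hsymm, asy]; exact hbase n m hn
    · rw [hsymm, asy, em, en, H.adj_ND hj hd hu, aND n (by omega) (by omega) m (by omega), nbeq_iff,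
        show (n.1 - 1) / 3 = j by omega, show (n.1 - 1) % 3 = d by omega, show m.1 - 31 = u by omega]
    · rw [em, en, H.adj_DD hu hv, aD m (by omega) n (by omega), List.any_eq_true, show m.1 - 31 = u by omega,
        show n.1 - 31 = v by omega]
      simp only [List.mem_range, Bool.or_eq_true, nbeq_iff]

end Reps

end Cfsg.Agent.Spor.UFourType
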