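import Cfsg.Agent.Lib.Spor.UFourType.Cent

/-! First consequences of the numbered centralizer: Sylow 2-subgroups and involutions. -/

set_option autoImplicit false
set_option maxRecDepth 100000

namespace Cfsg.Agent.Spor.UFourType

variable {G : Type*} [Group G] {z : G} {e : ℕ → G}

/-- The numbers of the Sylow 2-subgroup. -/
def sylL : List ℕ := (List.range 1152).filter fun n => q8L.contains (pA n) && q8L.contains (pC n)

theorem sylL_gen : ∀ m ∈ [1, 2, 12, 24, 288, 576], m ∈ sylL := by decide +kernel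

theorem sylL_card : sylL.length = 128 := by decide +kernel

theorem mem_sylL {n : ℕ} : n ∈ sylL ↔ n < 1152 ∧ pA n ∈ q8L ∧ pC n ∈ q8L := by
  simp [sylL]

theorem sylL_closed (n : ℕ) (hn : n ∈ sylL) (m : ℕ) (hm : m ∈ sylL) : mL n m ∈ sylL := by
  obtain ⟨-, ha, hc⟩ := mem_sylL.1 hn
  obtain ⟨-, ha', hc'⟩ := mem_sylL.1 hm
  have h1 : ∀ i < 2, ∀ j < 2, ∀ a ∈ q8L, ∀ c ∈ q8L, tw1 i j a c ∈ q8L ∧ tw2 i j a c ∈ q8L := by decide +kernel
  have h2 : ∀ i < 2, ∀ j < 2, ∀ i' < 2, ∀ a ∈ q8L, extra i j i' a ∈ q8L := by decide +kernel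
  have h3 : ∀ a ∈ q8L, ∀ c ∈ q8L, ∀ i < 2, ∀ j < 2, pA (enc a c i j) ∈ q8L ∧ pC (enc a c i j) ∈ q8L := by
    decide +kernel
  obtain ⟨-, -, hi, hj⟩ := parts_lt n
  obtain ⟨-, -, hi', -⟩ := parts_lt m
  obtain ⟨t1, t2⟩ := h1 _ hi _ hj _ ha' _ hc'
  refine mem_sylL.2 ⟨mL_lt n m, ?_⟩
  exact h3 _ (h2 _ hi _ hj _ hi' _ ((q8_closed _ ha).1 _ t1)) _ (h2 _ hi _ hj _ hi' _ ((q8_closed _ hc).1 _ t2)) _
    (Nat.mod_lt _ (by norm_num)) _ (Nat.mod_lt _ (by norm_num))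

theorem sylL_inv : ∀ n ∈ sylL, iL n ∈ sylL := by decide +kernel

namespace Cent

variable (C : Cent z e)
include C

theorem e0 : e 0 = 1 := by
  have h := C.mul 0 (by norm_num) 0 (by norm_num)
  rw [show mL 0 0 = 0 by decide +kernel] at h
  exact left_eq_mul.1 h

theorem e_inv {n : ℕ} (hn : n < 1152) : e (iL n) = (e n)⁻¹ := by
  refine eq_inv_of_mul_eq_one_right ?_
  rw [← C.mul n hn _ (iL_ok n hn).1, (iL_ok n hn).2, C.e0]

theorem e_cj {h n : ℕ} (hh : h < 1152) (hn : n < 1152) : e (cjL h n) = e h * e n * (e h)⁻¹ := by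
  unfold cjL
  rw [C.mul _ (mL_lt h n) _ (iL_ok h hh).1, C.mul h hh n hn, C.e_inv hh]

theorem e_comm {n m : ℕ} (hn : n < 1152) (hm : m < 1152) : Commute (e n) (e m) ↔ mL n m = mL m n := by
  constructor
  · intro h
    refine C.inj _ (mL_lt n m) _ (mL_lt m n) ?_
    rw [C.mul n hn m hm, C.mul m hm n hn]
    exact h.eq
  · intro h
    show e n * e m = e m * e n
    rw [← C.mul n hn m hm, ← C.mul m hm n hn, h]

theorem e_z {n : ℕ} (hn : n < 1152) : Commute (e n) z := (C.cen _).2 ⟨n, hn, rfl⟩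

theorem z_mul_z : z * z = 1 := by
  rw [← C.z_eq, ← C.mul 144 (by norm_num) 144 (by norm_num), show mL 144 144 = 0 by decide +kernel, C.e0]

theorem z_ne_one : z ≠ 1 := fun h => by
  have := C.inj 144 (by norm_num) 0 (by norm_num) (by rw [C.z_eq, C.e0, h])
  omega

theorem orderOf_z : orderOf z = 2 := orderOf_eq_prime (by rw [pow_two, C.z_mul_z]) C.z_ne_one

theorem card_cent : Nat.card ↥(Subgroup.centralizer ({z} : Set G)) = 1152 := by
  let f : Fin 1152 → ↥(Subgroup.centralizer ({z} : Set G)) := fun n =>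
    ⟨e n.1, Subgroup.mem_centralizer_singleton_iff.2 (C.e_z n.2).eq⟩
  have hb : Function.Bijective f := by
    refine ⟨fun n m h => Fin.ext (C.inj _ n.2 _ m.2 (congrArg Subtype.val h)), fun g => ?_⟩
    obtain ⟨n, hn, h⟩ := (C.cen g.1).1 (Subgroup.mem_centralizer_singleton_iff.1 g.2)
    exact ⟨⟨n, hn⟩, Subtype.ext h⟩
  rw [← Nat.card_congr (Equiv.ofBijective f hb), Nat.card_eq_fintype_card, Fintype.card_fin]

/-- A Sylow 2-subgroup of the centralizer. -/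
def syl : Subgroup G where
  carrier := {g | ∃ n ∈ sylL, e n = g}
  one_mem' := ⟨0, by decide +kernel, C.e0⟩
  mul_mem' := by
    rintro _ _ ⟨n, hn, rfl⟩ ⟨m, hm, rfl⟩
    refine ⟨_, sylL_closed n hn m hm, ?_⟩
    have h1 : n < 1152 := List.mem_range.1 (List.mem_filter.1 hn).1
    have h2 : m < 1152 := List.mem_range.1 (List.mem_filter.1 hm).1
    exact C.mul n h1 m h2
  inv_mem' := by
    rintro _ ⟨n, hn, rfl⟩
    exact ⟨_, sylL_inv n hn, C.e_inv (List.mem_range.1 (List.mem_filter.1 hn).1)⟩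

theorem card_syl : Nat.card ↥C.syl = 128 := by
  let f : Fin sylL.length → ↥C.syl := fun i => ⟨e (sylL.get i), ⟨_, sylL.get_mem i, rfl⟩⟩
  have hlt : ∀ i, sylL.get i < 1152 := fun i => List.mem_range.1 (List.mem_filter.1 (sylL.get_mem i)).1
  have hnd : sylL.Nodup := List.nodup_range.filter _
  have hb : Function.Bijective f := by
    refine ⟨fun i j h => (List.nodup_iff_injective_get.1 hnd) (C.inj _ (hlt i) _ (hlt j) (congrArg Subtype.val h)),
      fun g => ?_⟩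
    obtain ⟨n, hn, h⟩ := g.2
    obtain ⟨i, hi⟩ := List.get_of_mem hn
    exact ⟨i, Subtype.ext (by show e (sylL.get i) = _; rw [hi, h])⟩
  rw [← Nat.card_congr (Equiv.ofBijective f hb), Nat.card_eq_fintype_card, Fintype.card_fin, sylL_card]

/-- An involution of a subgroup containing the centralizer is conjugate there into the centralizer. -/
theorem exists_into [Finite G] (L : Subgroup G) (hL : Subgroup.centralizer ({z} : Set G) ≤ L) {t : G} (ht : t ∈ L)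
    (ht2 : t * t = 1) : ∃ g ∈ L, Commute (g * t * g⁻¹) z := by
  haveI : Fact (Nat.Prime 2) := ⟨Nat.prime_two⟩
  have hS : C.syl ≤ L := fun g ⟨n, hn, e'⟩ => e' ▸ hL (Subgroup.mem_centralizer_singleton_iff.2
    (C.e_z (List.mem_range.1 (List.mem_filter.1 hn).1)).eq)
  let S' : Subgroup ↥L := C.syl.subgroupOf L
  have hS' : IsPGroup 2 ↥S' := IsPGroup.of_card (n := 7) (by
    rw [Nat.card_congr (Subgroup.subgroupOfEquivOfLe hS).toEquiv, C.card_syl]; norm_num)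
  obtain ⟨Q, hQ⟩ := hS'.exists_le_sylow
  -- a Sylow 2-subgroup above ours centralises `z`
  have hQeq : (Q : Subgroup ↥L) ≤ (Subgroup.centralizer ({z} : Set G)).subgroupOf L := by
    have hne : Nontrivial ↥(Q : Subgroup ↥L) := by
      refine Nontrivial.mk ⟨⟨⟨e 144, hS ⟨144, by decide +kernel, rfl⟩⟩, hQ ⟨144, by decide +kernel, rfl⟩⟩, 1, fun h => ?_⟩
      exact C.z_ne_one (C.z_eq ▸ congrArg (fun v : ↥(Q : Subgroup ↥L) => ((v : ↥L) : G)) h)
    haveI : Nontrivial ↥(Subgroup.center ↥(Q : Subgroup ↥L)) := Q.2.center_nontrivial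
    obtain ⟨⟨c, hc⟩, hc1⟩ := exists_ne (1 : ↥(Subgroup.center ↥(Q : Subgroup ↥L)))
    have hcom : ∀ q : ↥L, q ∈ (Q : Subgroup ↥L) → Commute ((c : ↥L) : G) (q : G) := fun q hq =>
      congrArg (fun v : ↥(Q : Subgroup ↥L) => ((v : ↥L) : G)) (Subgroup.mem_center_iff.1 hc ⟨q, hq⟩).symm
    have hin : ∀ m, ∀ hm : m ∈ sylL, (⟨e m, hS ⟨m, hm, rfl⟩⟩ : ↥L) ∈ (Q : Subgroup ↥L) := fun m hm => hQ ⟨m, hm, rfl⟩
    obtain ⟨n, hn, en⟩ := (C.cen ((c : ↥L) : G)).1 (C.z_eq ▸ hcom _ (hin 144 (by decide +kernel)))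
    have hnz : n = 144 := by
      have key : ∀ n < 1152, (∀ m ∈ [1, 2, 12, 24, 288, 576], mL n m = mL m n) → n = 0 ∨ n = 144 := by decide +kernel
      rcases key n hn (fun m hm => (C.e_comm hn ((show ∀ m ∈ [1, 2, 12, 24, 288, 576], m < 1152 by decide) m hm)).1
        (en ▸ hcom _ (hin m (sylL_gen m hm)))) with rfl | rfl
      · exact absurd (Subtype.ext (Subtype.ext (Subtype.ext (en.symm.trans C.e0)))) hc1
      · rfl
    intro q hq
    rw [Subgroup.mem_subgroupOf]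
    refine Subgroup.mem_centralizer_singleton_iff.2 ?_
    have h := hcom q hq
    rw [← en, hnz, C.z_eq] at h
    exact h.symm.eq
  have ht' : IsPGroup 2 ↥(Subgroup.zpowers (⟨t, ht⟩ : ↥L)) := by
    intro v
    obtain ⟨k, hk⟩ := Subgroup.mem_zpowers_iff.1 v.2
    refine ⟨1, Subtype.ext (Subtype.ext ?_)⟩
    show ((v : ↥L) : G) ^ (2 ^ 1) = 1
    rw [← hk, Subgroup.coe_zpow, pow_one, ← zpow_natCast, ← zpow_mul, mul_comm, zpow_mul, zpow_natCast, pow_two, ht2,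
      one_zpow]
  obtain ⟨P, hP⟩ := ht'.exists_le_sylow
  obtain ⟨g, hg⟩ := MulAction.exists_smul_eq ↥L P Q
  refine ⟨g, g.2, (Subgroup.mem_centralizer_singleton_iff.1 (Subgroup.mem_subgroupOf.1 (hQeq (?_ : g * ⟨t, ht⟩ * g⁻¹ ∈
    (Q : Subgroup ↥L)))))⟩
  rw [← hg, Sylow.coe_subgroup_smul]
  exact ⟨_, hP (Subgroup.mem_zpowers _), rfl⟩

/-- All involutions are conjugate. -/
theorem conj_z [Finite G] {t : G} (ht : t ≠ 1) (ht2 : t * t = 1) : IsConj z t := by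
  obtain ⟨g, -, hg⟩ := C.exists_into ⊤ le_top (Subgroup.mem_top t) ht2
  obtain ⟨n, hn, en⟩ := (C.cen _).1 hg
  have h0 : n ≠ 0 := fun h => ht (by
    subst h
    rw [C.e0] at en
    rw [show t = g⁻¹ * (g * t * g⁻¹) * g by group, ← en]; group)
  have h2 : mL n n = 0 := C.inj _ (mL_lt n n) 0 (by norm_num) (by
    rw [C.mul n hn n hn, C.e0, en, show g * t * g⁻¹ * (g * t * g⁻¹) = g * (t * t) * g⁻¹ by group, ht2]; group)
  exact (C.inv_conj n hn h0 h2).trans (isConj_iff.2 ⟨g⁻¹, by rw [en]; group⟩)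

end Cent

end Cfsg.Agent.Spor.UFourType
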