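import Mathlib

/-! The involutions of the centralizer: number, representative of the class, conjugating element. -/

set_option autoImplicit false
set_option maxRecDepth 100000

namespace Cfsg.Agent.Spor.UFourType

/-- The involutions. -/
def invL : List (ℕ × ℕ × ℕ) :=
  [(13, 13, 0), (14, 13, 4), (15, 13, 8), (25, 13, 48), (26, 13, 52), (27, 13, 56), (37, 13, 96), (38, 13, 100),
    (39, 13, 104), (144, 144, 0), (157, 13, 2), (158, 13, 5), (159, 13, 9), (169, 13, 50), (170, 13, 53),
    (171, 13, 57), (181, 13, 98), (182, 13, 101), (183, 13, 105), (576, 576, 0), (589, 576, 288), (602, 576, 291),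
    (615, 576, 290), (632, 576, 8), (647, 576, 296), (657, 576, 298), (670, 576, 297), (676, 576, 4),
    (690, 576, 292), (703, 576, 293), (713, 576, 295), (720, 576, 289), (733, 576, 1), (746, 576, 2),
    (759, 576, 3), (776, 576, 299), (791, 576, 11), (801, 576, 9), (814, 576, 10), (820, 576, 294), (834, 576, 6),
    (847, 576, 7), (857, 576, 5), (864, 864, 0), (877, 864, 288), (891, 864, 290), (902, 864, 2), (917, 864, 295),
    (931, 864, 7), (940, 864, 294), (954, 864, 6), (971, 864, 11), (980, 864, 8), (993, 864, 9), (1006, 864, 10),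
    (1008, 864, 289), (1021, 864, 1), (1035, 864, 3), (1046, 864, 291), (1061, 864, 5), (1075, 864, 293),
    (1084, 864, 4), (1098, 864, 292), (1115, 864, 296), (1124, 864, 299), (1137, 864, 298), (1150, 864, 297)]

/-- The elementary group of order 16. -/
def uList : List ℕ :=
  [0, 13, 26, 39, 144, 157, 170, 183, 576, 589, 602, 615, 720, 733, 746, 759]

end Cfsg.Agent.Spor.UFourType
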