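import Cfsg.Agent.Lib.Spor.UFourType.HModel
import Cfsg.Agent.Lib.Spor.UFourType.InvData

/-!
What the later steps use of the centralizer: its table, the fusion of its involutions, the symmetry of the relation
"lies in the quaternion part of", and an element exchanging `z` and `z'` and keeping an elementary group of order 16.
-/

set_option autoImplicit false
set_option maxRecDepth 100000
set_option synthInstance.maxSize 1024
set_option synthInstance.maxHeartbeats 200000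

namespace Cfsg.Agent.Spor.UFourType

/-- A number of the quaternion part. -/
def inQn (n : ℕ) : Bool := Nat.beq (pI n) 0 && Nat.beq (pJ n) 0 && q8L.contains (pA n) && q8L.contains (pC n)

/-- The common part. -/
def wList : List ℕ := [0, 144, 13, 157]

/-- The other elementary group of order 16. -/
def u2List : List ℕ := [0, 13, 27, 38, 144, 157, 171, 182, 864, 877, 891, 902, 1008, 1021, 1035, 1046]

theorem u2_spec : (∀ k ∈ wList, k ∈ u2List ∧ mL 38 k ∈ u2List ∧ mL 877 k ∈ u2List ∧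
      mL (mL 877 38) k ∈ u2List ∧ inQn (mL 877 k) = false) ∧
    (∀ n ∈ u2List, ∃ k ∈ wList, n = k ∨ n = mL 38 k ∨ n = mL 877 k ∨ n = mL (mL 38 877) k) ∧
    (∃ k ∈ wList, mL 26 1 = mL 38 k) ∧ (∃ k ∈ wList, 38 = mL (mL 26 1) k) ∧
    (∃ k ∈ wList, 877 = mL (mL 576 288) k) := by decide +kernel

/-- The centralizer, by numbers. -/
structure Cent {G : Type*} [Group G] (z : G) (e : ℕ → G) : Prop where
  inj : ∀ n < 1152, ∀ m < 1152, e n = e m → n = m
  mul : ∀ n < 1152, ∀ m < 1152, e (mL n m) = e n * e m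
  cen : ∀ g : G, Commute g z ↔ ∃ n < 1152, e n = g
  z_eq : e 144 = z
  inv_conj : ∀ n < 1152, n ≠ 0 → mL n n = 0 → IsConj z (e n)
  qsym : ∀ g : G, (∃ n < 1152, inQn n = true ∧ g * z * g⁻¹ = e n) → ∃ n < 1152, inQn n = true ∧ g⁻¹ * z * g = e n
  swap : ∃ s : G, s * z * s⁻¹ = e 13 ∧ s * e 13 * s⁻¹ = z ∧ (∀ n ∈ uList, ∃ m ∈ uList, s * e n * s⁻¹ = e m) ∧
    ∃ m ∈ uList, inQn m = false ∧ s * e 26 * s⁻¹ = e m

/-- An element exchanging `z` and `z'` keeps the other elementary group as well. -/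
def Swap2 {G : Type*} [Group G] (z : G) (e : ℕ → G) : Prop :=
  ∃ s : G, s * z * s⁻¹ = e 13 ∧ s * e 13 * s⁻¹ = z ∧ (∀ n ∈ u2List, ∃ m ∈ u2List, s * e n * s⁻¹ = e m) ∧
    ∀ k ∈ wList, ∃ m ∈ u2List, inQn m = false ∧ s * e (mL 38 k) * s⁻¹ = e m

variable {G : Type*} [Group G] {z : G} {x y : ℕ → G} {s b u : G}

/-- The class of a number modulo the common part. -/
def Cl (e : ℕ → G) (n : ℕ) (v : G) : Prop := ∃ k ∈ wList, v = e (mL n k)

theorem mL_lt (n m : ℕ) : mL n m < 1152 := by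
  unfold mL
  have h1 : ∀ i j a c, a < 24 → c < 24 → tw1 i j a c < 24 ∧ tw2 i j a c < 24 := by
    intro i j a c ha hc
    have h1 := fun k (hk : k < 24) => (sPhi_spec k hk).1
    have h2 := fun k (hk : k < 24) => sConj_lt (show (1 : ℕ) < 24 by norm_num) hk
    unfold tw1 tw2
    cases Nat.beq j 0 <;> cases Nat.beq i 0 <;> simp only [cond_true, cond_false] <;>
      exact ⟨by first | assumption | exact h1 _ (by assumption), by first | assumption | exact h1 _ (h2 _ (by assumption))⟩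
  have h3 : ∀ i j i' a, a < 24 → extra i j i' a < 24 := by
    intro i j i' a ha
    unfold extra
    cases Nat.beq ((i * i' + j * i') % 2) 0
    · exact sMul_lt a ha 1 (by norm_num)
    · exact ha
  obtain ⟨ha, hc, -, -⟩ := parts_lt n
  obtain ⟨ha', hc', -, -⟩ := parts_lt m
  exact enc_lt (h3 _ _ _ _ (sMul_lt _ ha _ (h1 _ _ _ _ ha' hc').1)) (h3 _ _ _ _ (sMul_lt _ hc _ (h1 _ _ _ _ ha' hc').2))
    (Nat.mod_lt _ (by norm_num)) (Nat.mod_lt _ (by norm_num))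

theorem invL_ok : (∀ t ∈ invL, t.2.2 < 1152 ∧ (t.2.1 = 144 ∨ t.2.1 = 13 ∨ t.2.1 = 576 ∨ t.2.1 = 864) ∧
    cjL t.2.2 t.2.1 = t.1) := by decide +kernel

theorem invL_all : ∀ n < 1152, n ≠ 0 → mL n n = 0 → n ∈ invL.map Prod.fst := by decide +kernel

theorem inQn_invs : ∀ n < 1152, inQn n = true → mL n n = 0 → n ≠ 0 →
    n = 144 ∨ ∃ t ∈ invL, t.1 = n ∧ t.2.1 = 13 := by decide +kernel

theorem wList_spec : (∀ k ∈ wList, k < 1152) ∧ ∀ k ∈ wList, ∀ k' ∈ wList, mL k k' ∈ wList := by decide +kernel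

theorem cl_inQ : ∀ n < 1152, inQn n = true → mL n 13 = mL 13 n →
    (mL n n = 144 → ∃ k ∈ wList, n = mL 1 k) ∧
    (mL n n = 0 → n ∈ wList ∨ (∃ k ∈ wList, n = mL 26 k) ∨ ∃ k ∈ wList, n = mL 38 k) := by decide +kernel

theorem cl_conj : ∀ h < 1152, mL h 13 = mL 13 h →
    (∃ k ∈ wList, cjL h 1 = mL 1 k) ∧ (∃ k ∈ wList, cjL h 26 = mL 26 k) ∧ ∃ k ∈ wList, cjL h 38 = mL 38 k := by
  decide +kernel

theorem cl_steps : (∃ k ∈ wList, cjL 2 26 = mL 26 k) ∧ (∃ k ∈ wList, cjL 2 877 = mL (mL (mL 38 576) 288) k) ∧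
    (∃ k ∈ wList, mL (mL 576 38) 1 = mL 602 k) ∧ (∃ k ∈ wList, cjL 2 602 = mL 576 k) ∧
    (∃ k ∈ wList, mL 38 1 = mL 26 k) ∧ (∃ k ∈ wList, mL 576 288 = mL 877 k) ∧ (∃ k ∈ wList, mL 26 576 = mL 602 k) ∧
    (∀ k ∈ wList, ∀ m ∈ [1, 26, 38, 288, 576], mL k m = mL m k) ∧ ¬ (∃ k ∈ wList, ∃ k' ∈ wList, mL 26 k = mL 38 k') ∧
    cjL 2 144 = 144 ∧ cjL 2 13 = 157 ∧ cjL 2 157 = 13 ∧
    (∀ k ∈ wList, mL 0 k ∈ uList ∧ mL 26 k ∈ uList ∧ mL 576 k ∈ uList ∧ mL 602 k ∈ uList) ∧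
    (∀ n ∈ uList, ∃ k ∈ wList, n = k ∨ n = mL 26 k ∨ n = mL 576 k ∨ n = mL (mL 26 576) k) := by
  decide +kernel

theorem iL_ok : ∀ n < 1152, iL n < 1152 ∧ mL n (iL n) = 0 := by decide +kernel

namespace Frame

variable (F : Frame z x y s b u)
include F

theorem mulE (n m : ℕ) (hn : n < 1152) (hm : m < 1152) :
    eN x y b u (mL n m) = eN x y b u n * eN x y b u m := (F.mul_spec hn hm).1

theorem eN_cj {h n : ℕ} (hh : h < 1152) (hn : n < 1152) :
    eN x y b u (cjL h n) = eN x y b u h * eN x y b u n * (eN x y b u h)⁻¹ := by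
  have hi := iL_ok h hh
  have e1 : eN x y b u (iL h) = (eN x y b u h)⁻¹ :=
    eq_inv_of_mul_eq_one_right (by rw [← F.mulE h _ hh hi.1, hi.2, F.eN_zero])
  unfold cjL
  rw [F.mulE _ _ (mL_lt h n) hi.1, F.mulE h n hh hn, e1]

theorem eN_inQ {n : ℕ} (h : inQn n = true) : InQ x y (eN x y b u n) := by
  simp only [inQn, Bool.and_eq_true, List.contains_iff_mem] at h
  obtain ⟨⟨⟨hi, hj⟩, ha⟩, hc⟩ := h
  refine ⟨pA n, ha, pC n, hc, ?_⟩
  show x (pA n) * y (pC n) * b ^ pI n * u ^ pJ n = _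
  rw [Nat.eq_of_beq_eq_true hi, Nat.eq_of_beq_eq_true hj]
  group

theorem inQ_num {v : G} (h : InQ x y v) : ∃ n < 1152, inQn n = true ∧ v = eN x y b u n := by
  obtain ⟨p, hp, r, hr, rfl⟩ := h
  refine ⟨enc p r 0 0, enc_lt (mem_q8L_lt p hp) (mem_q8L_lt r hr) (by norm_num) (by norm_num), ?_, ?_⟩
  · have key : ∀ p ∈ q8L, ∀ r ∈ q8L, inQn (enc p r 0 0) = true := by decide +kernel
    exact key p hp r hr
  · rw [F.el_enc (mem_q8L_lt p hp) (mem_q8L_lt r hr) (by norm_num) (by norm_num)]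
    unfold el
    group

theorem e144 : eN x y b u 144 = z := by
  show x 0 * y 12 * b ^ 0 * u ^ 0 = z
  rw [F.sw.raw.hx.one, F.sw.raw.y12]; group

theorem e13 : eN x y b u 13 = x 1 * y 1 := by
  show x 1 * y 1 * b ^ 0 * u ^ 0 = _
  group

theorem e576 : eN x y b u 576 = u := by
  show x 0 * y 0 * b ^ 0 * u ^ 1 = u
  rw [F.sw.raw.hx.one, F.sw.raw.hy.one]; group

theorem e288 : eN x y b u 288 = b := by
  show x 0 * y 0 * b ^ 1 * u ^ 0 = b
  rw [F.sw.raw.hx.one, F.sw.raw.hy.one]; group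

theorem e864 : eN x y b u 864 = b * u := by
  rw [show (864 : ℕ) = mL 288 576 by decide +kernel, F.mulE 288 576 (by norm_num) (by norm_num), F.e288, F.e576]

theorem z_conj_P : IsConj z (eN x y b u 13) := isConj_iff.2 ⟨s, by rw [F.e13]; exact F.sw.sz⟩

/-- An involution of the quaternion part of `z'` other than `z'` is conjugate to `z`. -/
theorem conj_of_Q' {v : G} (hv : InQ x y (s⁻¹ * v * s)) (h2 : v * v = 1) (h1 : v ≠ 1) (hP : v ≠ x 1 * y 1) :
    IsConj z v := by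
  obtain ⟨n, hn, hq, e⟩ := F.inQ_num hv
  have hnn : mL n n = 0 := F.eN_inj (mL_lt n n) (by norm_num) (by
    rw [F.mulE n n hn hn, ← e, F.eN_zero, show s⁻¹ * v * s * (s⁻¹ * v * s) = s⁻¹ * (v * v) * s by group, h2]; group)
  have hn0 : n ≠ 0 := fun h => h1 (by
    rw [h, F.eN_zero] at e
    rw [show v = s * (s⁻¹ * v * s) * s⁻¹ by group, e]; group)
  rcases inQn_invs n hn hq hnn hn0 with rfl | ⟨⟨m, r, h⟩, ht, rfl, rfl⟩
  · refine absurd ?_ hP
    rw [F.e144] at e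
    rw [show v = s * (s⁻¹ * v * s) * s⁻¹ by group, e, F.sw.sz]
  · obtain ⟨hh, -, hc⟩ := invL_ok _ ht
    simp only at hh hc
    refine F.z_conj_P.trans ?_
    refine (isConj_iff.2 ⟨eN x y b u h, ?_⟩ : IsConj (eN x y b u 13) (eN x y b u m)).trans (isConj_iff.2 ⟨s, ?_⟩)
    · rw [← F.eN_cj hh (by norm_num), hc]
    · rw [← e]; group

theorem inv_conj {n : ℕ} (hn : n < 1152) (h0 : n ≠ 0) (h2 : mL n n = 0) : IsConj z (eN x y b u n) := by
  obtain ⟨⟨m, r, h⟩, ht, rfl⟩ := List.mem_map.1 (invL_all n hn h0 h2)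
  obtain ⟨hh, hr, hc⟩ := invL_ok _ ht
  simp only at hh hr hc ⊢
  have hz : IsConj z (eN x y b u r) := by
    have lt : (1 : ℕ) < 24 := by norm_num
    rcases hr with rfl | rfl | rfl | rfl
    · rw [F.e144]
    · exact F.z_conj_P
    · rw [F.e576]
      refine F.conj_of_Q' F.uQ F.u2 (fun e => ?_) (fun e => ?_)
      · exact absurd (F.eN_inj (by norm_num) (by norm_num) (F.e576.trans (e.trans F.eN_zero.symm)) : (576 : ℕ) = 0) (by norm_num)
      · exact absurd (F.eN_inj (by norm_num) (by norm_num) (F.e576.trans (e.trans F.e13.symm)) : (576 : ℕ) = 13) (by norm_num)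
    · rw [F.e864]
      refine F.conj_of_Q' (F.sw.q'_mul F.bQ F.uQ) ?_ (fun e => ?_) (fun e => ?_)
      · rw [← F.e864, ← F.mulE 864 864 (by norm_num) (by norm_num), show mL 864 864 = 0 by decide +kernel, F.eN_zero]
      · exact absurd (F.eN_inj (by norm_num) (by norm_num) (F.e864.trans (e.trans F.eN_zero.symm)) : (864 : ℕ) = 0) (by norm_num)
      · exact absurd (F.eN_inj (by norm_num) (by norm_num) (F.e864.trans (e.trans F.e13.symm)) : (864 : ℕ) = 13) (by norm_num)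
  refine hz.trans (isConj_iff.2 ⟨eN x y b u h, ?_⟩)
  have hr' : r < 1152 := by rcases hr with rfl | rfl | rfl | rfl <;> norm_num
  rw [← F.eN_cj hh hr', hc]

theorem qsym (g : G) (hg : ∃ n < 1152, inQn n = true ∧ g * z * g⁻¹ = eN x y b u n) :
    ∃ n < 1152, inQn n = true ∧ g⁻¹ * z * g = eN x y b u n := by
  obtain ⟨n, hn, hq, e⟩ := hg
  have hnn : mL n n = 0 := F.eN_inj (mL_lt n n) (by norm_num) (by
    rw [F.mulE n n hn hn, ← e, F.eN_zero, show g * z * g⁻¹ * (g * z * g⁻¹) = g * (z * z) * g⁻¹ by group, F.sw.raw.z2]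
    group)
  have hn0 : n ≠ 0 := fun h => by
    rw [h, F.eN_zero, mul_inv_eq_one, mul_eq_left] at e
    exact F.sw.raw.z_ne e
  rcases inQn_invs n hn hq hnn hn0 with rfl | ⟨⟨m, r, h⟩, ht, rfl, rfl⟩
  · refine ⟨144, hn, hq, ?_⟩
    rw [F.e144] at e ⊢
    conv_lhs => rw [← e]
    group
  · obtain ⟨hh, -, hc⟩ := invL_ok _ ht
    simp only at hh hc e
    refine F.inQ_num ((F.sw.raw.inQ_iff (c := eN x y b u h * s) ?_).1 ?_)
    · rw [show eN x y b u h * s * z * (eN x y b u h * s)⁻¹ = eN x y b u h * (s * z * s⁻¹) * (eN x y b u h)⁻¹ by group,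
        F.sw.sz, ← F.e13, ← F.eN_cj hh (by norm_num), hc, e]
    · rw [show (eN x y b u h * s)⁻¹ * z * (eN x y b u h * s) = s⁻¹ * ((eN x y b u h)⁻¹ * z * eN x y b u h) * s by group]
      have hz : (eN x y b u h)⁻¹ * z * eN x y b u h = z := by
        rw [mul_assoc, ← (F.eN_comm (n := h)).eq, inv_mul_cancel_left]
      rw [hz, show s⁻¹ * z * s = x 1 * y 1 by rw [← F.sw.szP]; group]
      exact ⟨1, by decide, 1, by decide, rfl⟩

theorem w_num {k : ℕ} (hk : k ∈ wList) : ∃ k' ∈ wList, s * eN x y b u k * s⁻¹ = eN x y b u k' := by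
  have h157 : eN x y b u 157 = z * (x 1 * y 1) := by
    rw [← F.e144, ← F.e13, ← F.mulE 144 13 (by norm_num) (by norm_num)]
    congr 1
  simp only [wList, List.mem_cons, List.not_mem_nil, or_false] at hk
  rcases hk with rfl | rfl | rfl | rfl
  · exact ⟨0, by decide, by rw [F.eN_zero]; group⟩
  · exact ⟨13, by decide, by rw [F.e144, F.e13, F.sw.sz]⟩
  · exact ⟨144, by decide, by rw [F.e144, F.e13, F.sw.szP]⟩
  · refine ⟨157, by decide, ?_⟩
    rw [h157, show s * (z * (x 1 * y 1)) * s⁻¹ = (s * z * s⁻¹) * (s * (x 1 * y 1) * s⁻¹) by group, F.sw.sz, F.sw.szP,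
      (F.sw.raw.inC_P (show (1 : ℕ) < 24 by norm_num) (show (1 : ℕ) < 24 by norm_num)).eq]

theorem cl_self {n : ℕ} (hn : n < 1152) : Cl (eN x y b u) n (eN x y b u n) :=
  ⟨0, by decide, by rw [F.mulE n 0 hn (by norm_num), F.eN_zero, mul_one]⟩

theorem cl_mul {n m : ℕ} (hn : n < 1152) (hm : m ∈ [1, 26, 38, 288, 576]) {v w : G}
    (hv : Cl (eN x y b u) n v) (hw : Cl (eN x y b u) m w) : Cl (eN x y b u) (mL n m) (v * w) := by
  obtain ⟨k, hk, rfl⟩ := hv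
  obtain ⟨k', hk', rfl⟩ := hw
  have hk1 := wList_spec.1 k hk
  have hk1' := wList_spec.1 k' hk'
  have hm' : m < 1152 := by revert hm; revert m; decide
  have hc : eN x y b u k * eN x y b u m = eN x y b u m * eN x y b u k := by
    rw [← F.mulE k m hk1 hm', ← F.mulE m k hm' hk1, cl_steps.2.2.2.2.2.2.2.1 k hk m hm]
  refine ⟨mL k k', wList_spec.2 k hk k' hk', ?_⟩
  rw [F.mulE n k hn hk1, F.mulE m k' hm' hk1', F.mulE _ _ (mL_lt n m) (mL_lt k k'), F.mulE n m hn hm',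
    F.mulE k k' hk1 hk1']
  simp only [mul_assoc]
  rw [← mul_assoc (eN x y b u k) (eN x y b u m), hc, mul_assoc]

/-- Conjugation by `s` on classes. -/
theorem cl_map {n n' : ℕ} (hn : n < 1152) (hn' : n' < 1152) (h : Cl (eN x y b u) n' (s * eN x y b u n * s⁻¹)) {v : G}
    (hv : Cl (eN x y b u) n v) : Cl (eN x y b u) n' (s * v * s⁻¹) := by
  obtain ⟨k, hk, rfl⟩ := hv
  obtain ⟨k₀, hk₀, e₀⟩ := h
  obtain ⟨k', hk', e'⟩ := F.w_num hk
  have hk1 := wList_spec.1 k hk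
  have hk0 := wList_spec.1 k₀ hk₀
  have hk1' := wList_spec.1 k' hk'
  refine ⟨mL k₀ k', wList_spec.2 k₀ hk₀ k' hk', ?_⟩
  rw [F.mulE n k hn hk1, show s * (eN x y b u n * eN x y b u k) * s⁻¹ =
    (s * eN x y b u n * s⁻¹) * (s * eN x y b u k * s⁻¹) by group, e₀, e', F.mulE n' k₀ hn' hk0,
    F.mulE n' _ hn' (mL_lt k₀ k'), F.mulE k₀ k' hk0 hk1', mul_assoc]

/-- A preimage of a class gives the image of the class. -/
theorem cl_image {n m k : ℕ} (hn : n < 1152) (hm : m < 1152) (hk : k ∈ wList) {v : G}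
    (e : v = eN x y b u (mL n k)) (hv : s * v * s⁻¹ = eN x y b u m) : Cl (eN x y b u) m (s * eN x y b u n * s⁻¹) := by
  obtain ⟨k', hk', e'⟩ := F.w_num hk
  have hk1 := wList_spec.1 k hk
  have hk1' := wList_spec.1 k' hk'
  have hkk : mL k' k' = 0 := (show ∀ k ∈ wList, mL k k = 0 by decide +kernel) k' hk'
  have e3 : eN x y b u k' * eN x y b u k' = 1 := by rw [← F.mulE k' k' hk1' hk1', hkk, F.eN_zero]
  refine ⟨k', hk', ?_⟩
  rw [F.mulE m k' hm hk1', ← hv, e, F.mulE n k hn hk1,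
    show s * (eN x y b u n * eN x y b u k) * s⁻¹ = (s * eN x y b u n * s⁻¹) * (s * eN x y b u k * s⁻¹) by group, e',
    mul_assoc (s * eN x y b u n * s⁻¹) (eN x y b u k') (eN x y b u k'), e3, mul_one]

/-- The elementary group of order 16 is kept by the exchange. -/
theorem swap_U [Finite G] : (∀ n ∈ uList, ∃ m ∈ uList, s * eN x y b u n * s⁻¹ = eN x y b u m) ∧
    (∃ m ∈ uList, inQn m = false ∧ s * eN x y b u 26 * s⁻¹ = eN x y b u m) ∧
    (∀ n ∈ u2List, ∃ m ∈ u2List, s * eN x y b u n * s⁻¹ = eN x y b u m) ∧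
    ∀ k ∈ wList, ∃ m ∈ u2List, inQn m = false ∧ s * eN x y b u (mL 38 k) * s⁻¹ = eN x y b u m := by
  have lt : (1 : ℕ) < 24 := by norm_num
  -- the pullbacks of `u` and `b`
  have pull : ∀ v : G, InQ x y (s⁻¹ * v * s) → Commute v z →
      ∃ n < 1152, inQn n = true ∧ mL n 13 = mL 13 n ∧ s⁻¹ * v * s = (eN x y b u) n := fun v hv hz => by
    obtain ⟨n, hn, hq, e⟩ := F.inQ_num hv
    refine ⟨n, hn, hq, F.eN_inj (mL_lt n 13) (mL_lt 13 n) ?_, e⟩
    rw [F.mulE n 13 hn (by norm_num), F.mulE 13 n (by norm_num) hn, ← e, F.e13,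
      show x 1 * y 1 = s⁻¹ * z * s by rw [← F.sw.szP]; group]
    calc s⁻¹ * v * s * (s⁻¹ * z * s) = s⁻¹ * (v * z) * s := by group
      _ = s⁻¹ * (z * v) * s := by rw [hz.eq]
      _ = s⁻¹ * z * s * (s⁻¹ * v * s) := by group
  obtain ⟨nu, hnu, qu, cu, eu⟩ := pull u F.uQ F.uz
  obtain ⟨nb, hnb, qb, cb, eb⟩ := pull b F.bQ F.bz
  have hbb : Cl (eN x y b u) 1 (s⁻¹ * b * s) := by
    obtain ⟨k, hk, ek⟩ := (cl_inQ nb hnb qb cb).1 (F.eN_inj (mL_lt nb nb) (by norm_num) (by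
      rw [F.mulE nb nb hnb hnb, ← eb, F.e144,
        show s⁻¹ * b * s * (s⁻¹ * b * s) = s⁻¹ * (b * b) * s by group, F.b2]
      rw [← F.sw.sz]; group))
    exact ⟨k, hk, by rw [eb, ek]⟩
  have hs2 : ∀ n ∈ [1, 26, 38], ∀ v, Cl (eN x y b u) n v → Cl (eN x y b u) n (s * s * v * (s * s)⁻¹) := by
    obtain ⟨h, hh, eh⟩ := (F.eN_cen (s * s)).1 F.sw.s2_comm.1
    have hcm : mL h 13 = mL 13 h := F.eN_inj (mL_lt h 13) (mL_lt 13 h) (by
      rw [F.mulE h 13 hh (by norm_num), F.mulE 13 h (by norm_num) hh, eh, F.e13]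
      exact F.sw.s2_comm.2.eq)
    intro n hn v hv
    obtain ⟨k, hk, rfl⟩ := hv
    obtain ⟨c1, c26, c38⟩ := cl_conj h hh hcm
    have hn' : n < 1152 := by revert hn; revert n; decide
    have hcl : Cl (eN x y b u) n ((eN x y b u) (cjL h n)) := by
      simp only [List.mem_cons, List.not_mem_nil, or_false] at hn
      rcases hn with rfl | rfl | rfl
      · obtain ⟨k', hk', e⟩ := c1; exact ⟨k', hk', by rw [e]⟩
      · obtain ⟨k', hk', e⟩ := c26; exact ⟨k', hk', by rw [e]⟩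
      · obtain ⟨k', hk', e⟩ := c38; exact ⟨k', hk', by rw [e]⟩
    obtain ⟨k₀, hk₀, e₀⟩ := hcl
    rw [F.eN_cj hh hn', eh] at e₀
    obtain ⟨k1, hk1, e1⟩ := F.w_num hk
    obtain ⟨k2, hk2, e2⟩ := F.w_num hk1
    refine ⟨mL k₀ k2, wList_spec.2 k₀ hk₀ k2 hk2, ?_⟩
    have hk' := wList_spec.1 k hk
    have hk0' := wList_spec.1 k₀ hk₀
    have hk2' := wList_spec.1 k2 hk2
    rw [F.mulE n k hn' hk', show s * s * (eN x y b u n * eN x y b u k) * (s * s)⁻¹ =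
      (s * s * eN x y b u n * (s * s)⁻¹) * (s * (s * eN x y b u k * s⁻¹) * s⁻¹) by group, e₀, e1, e2,
      F.mulE n k₀ hn' hk0', F.mulE n _ hn' (mL_lt k₀ k2), F.mulE k₀ k2 hk0' hk2', mul_assoc]
  have conjs : ∀ v, s * (s⁻¹ * v * s) * s⁻¹ = v := fun v => by group
  have hu2 : mL nu nu = 0 := F.eN_inj (mL_lt nu nu) (by norm_num) (by
    rw [F.mulE nu nu hnu hnu, ← eu, F.eN_zero,
      show s⁻¹ * u * s * (s⁻¹ * u * s) = s⁻¹ * (u * u) * s by group, F.u2]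
    group)
  rcases (cl_inQ nu hnu qu cu).2 hu2 with hW | ⟨k, hk, ek⟩ | ⟨k, hk, ek⟩
  · exfalso
    obtain ⟨k', hk', e'⟩ := F.w_num hW
    rw [← eu, conjs] at e'
    have h576 : k' = 576 := F.eN_inj (wList_spec.1 k' hk') (by norm_num) (by rw [F.e576]; exact e'.symm)
    rw [h576] at hk'
    exact absurd hk' (by decide)
  · -- the wanted case
    have h1 : Cl (eN x y b u) 576 (s * (eN x y b u) 26 * s⁻¹) :=
      F.cl_image (by norm_num) (by norm_num) hk (ek ▸ eu) ((conjs u).trans F.e576.symm)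
    have h2 : Cl (eN x y b u) 26 (s * (eN x y b u) 576 * s⁻¹) := by
      have hcl : Cl (eN x y b u) 26 (s⁻¹ * u * s) := ⟨k, hk, by rw [eu, ek]⟩
      have := hs2 26 (by decide) _ hcl
      rw [show s * s * (s⁻¹ * u * s) * (s * s)⁻¹ = s * u * s⁻¹ by group] at this
      rw [F.e576]
      exact this
    have a288 : Cl (eN x y b u) 1 (s * eN x y b u 288 * s⁻¹) := by
      have := hs2 1 (by decide) _ hbb
      rw [show s * s * (s⁻¹ * b * s) * (s * s)⁻¹ = s * b * s⁻¹ by group] at this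
      rw [F.e288]
      exact this
    have a1 : Cl (eN x y b u) 288 (s * eN x y b u 1 * s⁻¹) := by
      obtain ⟨k₁, hk₁, e₁⟩ := hbb
      exact F.cl_image (by norm_num) (by norm_num) hk₁ e₁ ((conjs b).trans F.e288.symm)
    obtain ⟨u2a, u2b, u2c, u2d, u2e⟩ := u2_spec
    have recl : ∀ {n n' : ℕ}, n' < 1152 → (∃ k ∈ wList, n = mL n' k) → ∀ v, Cl (eN x y b u) n v →
        Cl (eN x y b u) n' v := by
      intro n n' hn' hc v hv
      obtain ⟨k, hk, rfl⟩ := hv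
      obtain ⟨k₀, hk₀, rfl⟩ := hc
      have hk1 := wList_spec.1 k hk
      have hk0 := wList_spec.1 k₀ hk₀
      refine ⟨mL k₀ k, wList_spec.2 k₀ hk₀ k hk, ?_⟩
      rw [F.mulE _ k (mL_lt n' k₀) hk1, F.mulE n' k₀ hn' hk0, F.mulE n' _ hn' (mL_lt k₀ k),
        F.mulE k₀ k hk0 hk1, mul_assoc]
    have m38 : ∀ v, Cl (eN x y b u) 38 v → Cl (eN x y b u) 877 (s * v * s⁻¹) := fun v hv => by
      have h3 := F.cl_mul (show (576 : ℕ) < 1152 by norm_num) (show 288 ∈ [1, 26, 38, 288, 576] by decide) h1 a1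
      rw [show s * eN x y b u 26 * s⁻¹ * (s * eN x y b u 1 * s⁻¹) = s * (eN x y b u 26 * eN x y b u 1) * s⁻¹ by group,
        ← F.mulE 26 1 (by norm_num) (by norm_num)] at h3
      exact recl (by norm_num) cl_steps.2.2.2.2.2.1 _
        (F.cl_map (mL_lt 26 1) (mL_lt 576 288) h3 (recl (mL_lt 26 1) u2d v hv))
    have m877 : ∀ v, Cl (eN x y b u) 877 v → Cl (eN x y b u) 38 (s * v * s⁻¹) := fun v hv => by
      have h3 := F.cl_mul (show (26 : ℕ) < 1152 by norm_num) (show 1 ∈ [1, 26, 38, 288, 576] by decide) h2 a288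
      rw [show s * eN x y b u 576 * s⁻¹ * (s * eN x y b u 288 * s⁻¹) = s * (eN x y b u 576 * eN x y b u 288) * s⁻¹ by
          group, ← F.mulE 576 288 (by norm_num) (by norm_num)] at h3
      exact recl (by norm_num) u2c _ (F.cl_map (mL_lt 576 288) (mL_lt 26 1) h3 (recl (mL_lt 576 288) u2e v hv))
    have hin := cl_steps.2.2.2.2.2.2.2.2.2.2.2.2.1
    refine ⟨?_, ?_, ?_, fun k' hk' => ?_⟩
    swap
    · obtain ⟨k'', hk'', e''⟩ := h1
      exact ⟨_, (hin k'' hk'').2.2.1, (show ∀ k ∈ wList, inQn (mL 576 k) = false by decide +kernel) k'' hk'', e''⟩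
    rotate_left 1
    · intro n hn
      obtain ⟨k', hk', hcase⟩ := u2b n hn
      rcases hcase with rfl | rfl | rfl | rfl
      · obtain ⟨k'', hk'', e''⟩ := F.w_num hk'
        exact ⟨k'', (u2a k'' hk'').1, e''⟩
      · obtain ⟨k'', hk'', e''⟩ := m38 _ ⟨k', hk', rfl⟩
        exact ⟨_, (u2a k'' hk'').2.2.1, e''⟩
      · obtain ⟨k'', hk'', e''⟩ := m877 _ ⟨k', hk', rfl⟩
        exact ⟨_, (u2a k'' hk'').2.1, e''⟩
      · have h877 := m877 _ (F.cl_self (show (877 : ℕ) < 1152 by norm_num))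
        have h38 := m38 _ (F.cl_self (show (38 : ℕ) < 1152 by norm_num))
        have h3 := F.cl_mul (show (877 : ℕ) < 1152 by norm_num) (show 38 ∈ [1, 26, 38, 288, 576] by decide) h38 h877
        rw [show s * eN x y b u 38 * s⁻¹ * (s * eN x y b u 877 * s⁻¹) = s * (eN x y b u 38 * eN x y b u 877) * s⁻¹ by
            group, ← F.mulE 38 877 (by norm_num) (by norm_num)] at h3
        obtain ⟨k'', hk'', e''⟩ := F.cl_map (mL_lt 38 877) (mL_lt 877 38) h3 ⟨k', hk', rfl⟩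
        exact ⟨_, (u2a k'' hk'').2.2.2.1, e''⟩
    · obtain ⟨k'', hk'', e''⟩ := m38 _ ⟨k', hk', rfl⟩
      exact ⟨_, (u2a k'' hk'').2.2.1, (u2a k'' hk'').2.2.2.2, e''⟩
    intro n hn
    obtain ⟨k', hk', hcase⟩ := cl_steps.2.2.2.2.2.2.2.2.2.2.2.2.2 n hn
    rcases hcase with rfl | rfl | rfl | rfl
    · obtain ⟨k'', hk'', e''⟩ := F.w_num hk'
      exact ⟨k'', (show ∀ k ∈ wList, k ∈ uList by decide) k'' hk'', e''⟩
    · obtain ⟨k'', hk'', e''⟩ := F.cl_map (by norm_num) (by norm_num) h1 ⟨k', hk', rfl⟩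
      exact ⟨_, (hin k'' hk'').2.2.1, e''⟩
    · obtain ⟨k'', hk'', e''⟩ := F.cl_map (by norm_num) (by norm_num) h2 ⟨k', hk', rfl⟩
      exact ⟨_, (hin k'' hk'').2.1, e''⟩
    · have hmul := F.cl_mul (show (576 : ℕ) < 1152 by norm_num) (show 26 ∈ [1, 26, 38, 288, 576] by decide) h1 h2
      have h3 : Cl (eN x y b u) (mL 576 26) (s * (eN x y b u) (mL 26 576) * s⁻¹) := by
        rwa [F.mulE 26 576 (by norm_num) (by norm_num), show s * ((eN x y b u) 26 * (eN x y b u) 576) * s⁻¹ =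
          (s * (eN x y b u) 26 * s⁻¹) * (s * (eN x y b u) 576 * s⁻¹) by group]
      obtain ⟨k'', hk'', e''⟩ := F.cl_map (mL_lt 26 576) (mL_lt 576 26) h3 ⟨k', hk', rfl⟩
      refine ⟨_, ?_, e''⟩
      exact (show ∀ k ∈ wList, mL (mL 576 26) k ∈ uList by decide +kernel) k'' hk''
  · exfalso
    have a38 : Cl (eN x y b u) 576 (s * (eN x y b u) 38 * s⁻¹) :=
      F.cl_image (by norm_num) (by norm_num) hk (ek ▸ eu) ((conjs u).trans F.e576.symm)
    have a576 : Cl (eN x y b u) 38 (s * (eN x y b u) 576 * s⁻¹) := by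
      have := hs2 38 (by decide) _ (⟨k, hk, by rw [eu, ek]⟩ : Cl (eN x y b u) 38 (s⁻¹ * u * s))
      rw [show s * s * (s⁻¹ * u * s) * (s * s)⁻¹ = s * u * s⁻¹ by group] at this
      rw [F.e576]
      exact this
    have a288 : Cl (eN x y b u) 1 (s * (eN x y b u) 288 * s⁻¹) := by
      have := hs2 1 (by decide) _ hbb
      rw [show s * s * (s⁻¹ * b * s) * (s * s)⁻¹ = s * b * s⁻¹ by group] at this
      rw [F.e288]
      exact this
    have a1 : Cl (eN x y b u) 288 (s * (eN x y b u) 1 * s⁻¹) := by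
      obtain ⟨k₁, hk₁, e₁⟩ := hbb
      exact F.cl_image (by norm_num) (by norm_num) hk₁ e₁ ((conjs b).trans F.e288.symm)
    obtain ⟨hq1, hq2, hm1, hq3, hp1, hp2, -, -, hne, hq144, hq13, hq157, -⟩ := cl_steps
    have qW : ∀ k ∈ wList, cjL 2 k ∈ wList := by decide +kernel
    have qmap : ∀ {n n' : ℕ}, n < 1152 → n' < 1152 → (∃ k ∈ wList, cjL 2 n = mL n' k) → ∀ v, Cl (eN x y b u) n v →
        Cl (eN x y b u) n' ((eN x y b u) 2 * v * ((eN x y b u) 2)⁻¹) := by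
      intro n n' hn hn' hc v hv
      obtain ⟨k, hk, rfl⟩ := hv
      obtain ⟨k₀, hk₀, e₀⟩ := hc
      have hk1 := wList_spec.1 k hk
      have hk0 := wList_spec.1 k₀ hk₀
      have hq := wList_spec.1 _ (qW k hk)
      refine ⟨mL k₀ (cjL 2 k), wList_spec.2 k₀ hk₀ _ (qW k hk), ?_⟩
      rw [F.mulE n k hn hk1, show eN x y b u 2 * (eN x y b u n * eN x y b u k) * (eN x y b u 2)⁻¹ =
        (eN x y b u 2 * eN x y b u n * (eN x y b u 2)⁻¹) * (eN x y b u 2 * eN x y b u k * (eN x y b u 2)⁻¹) by group,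
        ← F.eN_cj (by norm_num) hn, ← F.eN_cj (by norm_num) hk1, e₀, F.mulE n' k₀ hn' hk0,
        F.mulE n' _ hn' (mL_lt _ _), F.mulE k₀ _ hk0 hq, mul_assoc]
    have recl : ∀ {n n' : ℕ}, n' < 1152 → (∃ k ∈ wList, n = mL n' k) → ∀ v, Cl (eN x y b u) n v → Cl (eN x y b u) n' v := by
      intro n n' hn' hc v hv
      obtain ⟨k, hk, rfl⟩ := hv
      obtain ⟨k₀, hk₀, rfl⟩ := hc
      have hk1 := wList_spec.1 k hk
      have hk0 := wList_spec.1 k₀ hk₀
      refine ⟨mL k₀ k, wList_spec.2 k₀ hk₀ k hk, ?_⟩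
      rw [F.mulE _ k (mL_lt n' k₀) hk1, F.mulE n' k₀ hn' hk0, F.mulE n' _ hn' (mL_lt k₀ k),
        F.mulE k₀ k hk0 hk1, mul_assoc]
    have smul : ∀ {n n' m m' : ℕ}, n < 1152 → n' < 1152 → m < 1152 → m' ∈ [1, 26, 38, 288, 576] →
        Cl (eN x y b u) n' (s * (eN x y b u) n * s⁻¹) → Cl (eN x y b u) m' (s * (eN x y b u) m * s⁻¹) → Cl (eN x y b u) (mL n' m') (s * (eN x y b u) (mL n m) * s⁻¹) := by
      intro n n' m m' hn hn' hm hm' h h'
      have h'' := F.cl_mul hn' hm' h h'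
      rwa [F.mulE n m hn hm, show s * ((eN x y b u) n * (eN x y b u) m) * s⁻¹ = (s * (eN x y b u) n * s⁻¹) * (s * (eN x y b u) m * s⁻¹) by group]
    -- `ρ = s * q` moves the class of 26 to 38 in three steps
    have step1 : ∀ v, Cl (eN x y b u) 26 v → Cl (eN x y b u) 877 (s * ((eN x y b u) 2 * v * ((eN x y b u) 2)⁻¹) * s⁻¹) := fun v hv => by
      have h26 : Cl (eN x y b u) (mL 576 288) (s * (eN x y b u) (mL 38 1) * s⁻¹) :=
        smul (by norm_num) (by norm_num) (by norm_num) (by decide) a38 a1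
      have h26' : Cl (eN x y b u) 26 ((eN x y b u) (mL 38 1)) := recl (by norm_num) hp1 _ (F.cl_self (mL_lt 38 1))
      obtain ⟨k₀, hk₀, e₀⟩ := hp1
      have hback : ∀ w, Cl (eN x y b u) 26 w → Cl (eN x y b u) (mL 38 1) w := fun w hw => by
        refine recl (mL_lt 38 1) ⟨k₀, hk₀, ?_⟩ w hw
        rw [e₀]
        exact (show ∀ k ∈ wList, 26 = mL (mL 26 k) k by decide +kernel) k₀ hk₀
      exact recl (by norm_num) hp2 _ (F.cl_map (mL_lt 38 1) (mL_lt 576 288) h26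
        (hback _ (qmap (by norm_num) (by norm_num) hq1 v hv)))
    have step2 : ∀ v, Cl (eN x y b u) 877 v → Cl (eN x y b u) 602 (s * ((eN x y b u) 2 * v * ((eN x y b u) 2)⁻¹) * s⁻¹) := fun v hv => by
      have h1 : Cl (eN x y b u) (mL (mL 576 38) 1) (s * (eN x y b u) (mL (mL 38 576) 288) * s⁻¹) :=
        smul (mL_lt 38 576) (mL_lt 576 38) (by norm_num) (by decide)
          (smul (by norm_num) (by norm_num) (by norm_num) (by decide) a38 a576) a288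
      exact recl (by norm_num) hm1 _ (F.cl_map (mL_lt _ _) (mL_lt _ _) h1 (qmap (by norm_num) (mL_lt _ _) hq2 v hv))
    have step3 : ∀ v, Cl (eN x y b u) 602 v → Cl (eN x y b u) 38 (s * ((eN x y b u) 2 * v * ((eN x y b u) 2)⁻¹) * s⁻¹) := fun v hv =>
      F.cl_map (by norm_num) (by norm_num) a576 (qmap (by norm_num) (by norm_num) hq3 v hv)
    have hfin := step3 _ (step2 _ (step1 _ (F.cl_self (show (26 : ℕ) < 1152 by norm_num))))
    set ρ := s * (eN x y b u) 2 with hρ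
    have e3 : s * ((eN x y b u) 2 * (s * ((eN x y b u) 2 * (s * ((eN x y b u) 2 * (eN x y b u) 26 * ((eN x y b u) 2)⁻¹) * s⁻¹) * ((eN x y b u) 2)⁻¹) * s⁻¹) * ((eN x y b u) 2)⁻¹) * s⁻¹ =
        ρ * ρ * ρ * (eN x y b u) 26 * (ρ * ρ * ρ)⁻¹ := by rw [hρ]; group
    rw [e3] at hfin
    have h157 : (eN x y b u) 157 = z * (x 1 * y 1) := by
      rw [← F.e144, ← F.e13, ← F.mulE 144 13 (by norm_num) (by norm_num)]
      congr 1
    have r1 : ρ * z * ρ⁻¹ = x 1 * y 1 := by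
      rw [hρ, show s * (eN x y b u) 2 * z * (s * (eN x y b u) 2)⁻¹ = s * ((eN x y b u) 2 * z * ((eN x y b u) 2)⁻¹) * s⁻¹ by group,
        (F.eN_comm (n := 2)).eq, mul_inv_cancel_right, F.sw.sz]
    have r2 : ρ * (x 1 * y 1) * ρ⁻¹ = z * (x 1 * y 1) := by
      rw [hρ, show s * (eN x y b u) 2 * (x 1 * y 1) * (s * (eN x y b u) 2)⁻¹ = s * ((eN x y b u) 2 * (x 1 * y 1) * ((eN x y b u) 2)⁻¹) * s⁻¹ by group, ← F.e13,
        ← F.eN_cj (by norm_num) (by norm_num), hq13, h157, F.e13,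
        show s * (z * (x 1 * y 1)) * s⁻¹ = (s * z * s⁻¹) * (s * (x 1 * y 1) * s⁻¹) by group, F.sw.sz, F.sw.szP,
        (F.sw.raw.inC_P (show (1 : ℕ) < 24 by norm_num) (show (1 : ℕ) < 24 by norm_num)).eq]
    have r3 : ρ * (z * (x 1 * y 1)) * ρ⁻¹ = z := by
      rw [show ρ * (z * (x 1 * y 1)) * ρ⁻¹ = (ρ * z * ρ⁻¹) * (ρ * (x 1 * y 1) * ρ⁻¹) by group, r1, r2,
        ← mul_assoc, (F.sw.raw.inC_P lt lt).eq, mul_assoc, F.sw.w_sq (Or.inr (Or.inr (Or.inl rfl))), mul_one]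
    have c1 : ρ * ρ * ρ * z * (ρ * ρ * ρ)⁻¹ = z := by
      rw [show ρ * ρ * ρ * z * (ρ * ρ * ρ)⁻¹ = ρ * (ρ * (ρ * z * ρ⁻¹) * ρ⁻¹) * ρ⁻¹ by group, r1, r2, r3]
    have c2 : ρ * ρ * ρ * (x 1 * y 1) * (ρ * ρ * ρ)⁻¹ = x 1 * y 1 := by
      rw [show ρ * ρ * ρ * (x 1 * y 1) * (ρ * ρ * ρ)⁻¹ = ρ * (ρ * (ρ * (x 1 * y 1) * ρ⁻¹) * ρ⁻¹) * ρ⁻¹ by group,
        r2, r3, r1]
    obtain ⟨h, hh, eh⟩ := (F.eN_cen (ρ * ρ * ρ)).1 (mul_inv_eq_iff_eq_mul.1 c1)
    have hcm : mL h 13 = mL 13 h := F.eN_inj (mL_lt h 13) (mL_lt 13 h) (by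
      rw [F.mulE h 13 hh (by norm_num), F.mulE 13 h (by norm_num) hh, eh, F.e13]
      exact mul_inv_eq_iff_eq_mul.1 c2)
    obtain ⟨k₁, hk₁, e₁⟩ := (cl_conj h hh hcm).2.1
    obtain ⟨k₂, hk₂, e₂⟩ := hfin
    rw [← eh, ← F.eN_cj hh (by norm_num), e₁] at e₂
    exact hne ⟨k₁, hk₁, k₂, hk₂, F.eN_inj (mL_lt _ _) (mL_lt _ _) e₂⟩

end Frame

/-- The frozen hypotheses give the numbered centralizer. -/
theorem Frame.cent [Finite G] (F : Frame z x y s b u) : Cent z (eN x y b u) where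
  inj n hn m hm e := F.eN_inj hn hm e
  mul n hn m hm := F.mulE n m hn hm
  cen := F.eN_cen
  z_eq := F.e144
  inv_conj n hn h0 h2 := F.inv_conj hn h0 h2
  qsym := F.qsym
  swap := ⟨s, by rw [F.e13]; exact F.sw.sz, by rw [F.e13]; exact F.sw.szP, F.swap_U.1, F.swap_U.2.1⟩

/-- The tables lead to the numbered centralizer. -/
theorem Raw.exists_cent [Finite G] (R : Raw z x y) : ∃ e : ℕ → G, Cent z e ∧ Swap2 z e := by
  obtain ⟨x', y', R', hg⟩ := R.exists_paired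
  obtain ⟨s, S⟩ := R'.exists_swap hg
  obtain ⟨b, u, y'', F, -⟩ := S.exists_frame
  exact ⟨_, F.cent, s, by rw [F.e13]; exact F.sw.sz, by rw [F.e13]; exact F.sw.szP, F.swap_U.2.2.1, F.swap_U.2.2.2⟩

end Cfsg.Agent.Spor.UFourType
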