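import Mathlib

/-!
A subgroup of odd order normalised by an involution whose fixed points in it are central: it is abelian and inverted
modulo the fixed points.
-/

set_option autoImplicit false

namespace Cfsg.Agent.Spor.UFourType

variable {G : Type*} [Group G]

theorem inverted_mod [Finite G] (K P : Subgroup G) {z : G} (hz : z * z = 1) (hodd : Odd (Nat.card ↥K))
    (hn : ∀ v ∈ K, z * v * z ∈ K) (hfix : ∀ v ∈ K, Commute v z → v ∈ P) (hPK : P ≤ K)
    (hPz : ∀ p ∈ P, Commute p z) (hcen : ∀ v ∈ K, ∀ p ∈ P, Commute v p) :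
    (∀ v ∈ K, z * v * z * v ∈ P) ∧ ∀ v ∈ K, ∀ w ∈ K, v * w * v⁻¹ * w⁻¹ ∈ P := by
  let Q : Subgroup ↥K := P.subgroupOf K
  have hQn : Q.Normal := ⟨fun q hq v => by
    show (v : G) * (q : G) * (v : G)⁻¹ ∈ P
    rw [(hcen v v.2 q hq).eq, mul_inv_cancel_right]
    exact hq⟩
  let θ : ↥K →* ↥K :=
    { toFun := fun v => ⟨z * v * z, hn v v.2⟩
      map_one' := Subtype.ext (by show z * 1 * z = 1; rw [mul_one, hz])
      map_mul' := fun v w => Subtype.ext (by
        show z * ((v : G) * w) * z = z * v * z * (z * w * z)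
        rw [show z * (v : G) * z * (z * w * z) = z * v * (z * z) * w * z by group, hz]
        group) }
  let ψ : ↥K ⧸ Q →* ↥K ⧸ Q := QuotientGroup.map Q Q θ fun q hq => by
    show z * (q : G) * z ∈ P
    rw [mul_assoc, (hPz q hq).eq, ← mul_assoc, hz, one_mul]
    exact hq
  have hθfix : ∀ v : ↥K, (v⁻¹ * θ v) ∈ Q → v ∈ Q := fun v hv => by
    set p : G := (v : G)⁻¹ * (z * v * z) with hp
    have hpP : p ∈ P := hv
    have hpz : Commute p z := hPz p hpP
    have e1 : z * (v : G) * z = v * p := by rw [hp]; group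
    have e2 : (v : G) = v * (p * p) := by
      calc (v : G) = z * (z * (v : G) * z) * z := by
            rw [show z * (z * (v : G) * z) * z = (z * z) * v * (z * z) by group, hz, one_mul, mul_one]
        _ = z * (v * p) * z := by rw [e1]
        _ = z * v * (p * z) := by group
        _ = z * v * (z * p) := by rw [hpz.eq]
        _ = (v * p) * p := by rw [← e1]; group
        _ = v * (p * p) := by group
    have hp2 : p * p = 1 := left_eq_mul.1 e2
    have hp1 : p = 1 := orderOf_eq_one_iff.1 (Nat.eq_one_of_dvd_coprimes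
      (Nat.coprime_two_left.2 (hodd.of_dvd_nat (Subgroup.orderOf_dvd_natCard K (hPK hpP))))
      (orderOf_dvd_of_pow_eq_one (by rw [pow_two, hp2])) dvd_rfl)
    rw [hp1, mul_one] at e1
    refine hfix v v.2 ?_
    calc (v : G) * z = z * v * z * z := by rw [e1]
      _ = z * v * (z * z) := by group
      _ = z * v := by rw [hz, mul_one]
  have hfpf : MonoidHom.FixedPointFree ψ := fun q hq => by
    induction q using QuotientGroup.induction_on with
    | _ v => exact (QuotientGroup.eq_one_iff v).2 (hθfix v ((QuotientGroup.eq).1 hq.symm))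
  have hinvo : Function.Involutive ψ := fun q => by
    induction q using QuotientGroup.induction_on with
    | _ v =>
      show QuotientGroup.mk (θ (θ v)) = _
      congr 1
      refine Subtype.ext ?_
      show z * (z * (v : G) * z) * z = v
      rw [show z * (z * (v : G) * z) * z = (z * z) * v * (z * z) by group, hz, one_mul, mul_one]
  refine ⟨fun v hv => ?_, fun v hv w hw => ?_⟩
  · have h := congrFun (hfpf.coe_eq_inv_of_involutive hinvo) (QuotientGroup.mk (⟨v, hv⟩ : ↥K))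
    have h2 : (QuotientGroup.mk (θ ⟨v, hv⟩) : ↥K ⧸ Q) * QuotientGroup.mk (⟨v, hv⟩ : ↥K) = 1 := by
      rw [show (QuotientGroup.mk (θ ⟨v, hv⟩) : ↥K ⧸ Q) = (QuotientGroup.mk (⟨v, hv⟩ : ↥K))⁻¹ from h, inv_mul_cancel]
    rw [← QuotientGroup.mk_mul] at h2
    exact (QuotientGroup.eq_one_iff ((θ ⟨v, hv⟩ : ↥K) * ⟨v, hv⟩)).1 h2
  · have h := (hfpf.commute_all_of_involutive hinvo) (QuotientGroup.mk (⟨v, hv⟩ : ↥K))
      (QuotientGroup.mk (⟨w, hw⟩ : ↥K))
    have h2 : (QuotientGroup.mk ((⟨v, hv⟩ : ↥K) * ⟨w, hw⟩ * (⟨v, hv⟩ : ↥K)⁻¹ * (⟨w, hw⟩ : ↥K)⁻¹) : ↥K ⧸ Q) = 1 := by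
      simp only [QuotientGroup.mk_mul, QuotientGroup.mk_inv]
      rw [h.eq, mul_inv_cancel_right, mul_inv_cancel]
    exact (QuotientGroup.eq_one_iff ((⟨v, hv⟩ : ↥K) * ⟨w, hw⟩ * (⟨v, hv⟩ : ↥K)⁻¹ * (⟨w, hw⟩ : ↥K)⁻¹)).1 h2

end Cfsg.Agent.Spor.UFourType
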