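import Cfsg.Agent.Lib.Spor.UFourType.XData
import Cfsg.Agent.Lib.Spor.Cos.Act

/-!
Vectors over `F₃` in four coordinates, coded below 81; matrices coded by their columns; what is computed in the group
of order 360 of matrices.
-/

set_option autoImplicit false
set_option maxRecDepth 100000
set_option synthInstance.maxSize 1024
set_option synthInstance.maxHeartbeats 200000

namespace Cfsg.Agent.Spor.UFourType

open Cfsg.Agent.Spor.Cos (force force_eq)

/-- A coordinate of a code. -/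
def v0 (v : ℕ) : ℕ := v % 3

/-- A coordinate of a code. -/
def v1 (v : ℕ) : ℕ := v / 3 % 3

/-- A coordinate of a code. -/
def v2 (v : ℕ) : ℕ := v / 9 % 3

/-- A coordinate of a code. -/
def v3 (v : ℕ) : ℕ := v / 27 % 3

/-- The code of four coordinates. -/
def vC (a b c d : ℕ) : ℕ := a % 3 + 3 * (b % 3) + 9 * (c % 3) + 27 * (d % 3)

/-- The sum. -/
def vA (u v : ℕ) : ℕ :=
  force u fun u => force v fun v => vC (v0 u + v0 v) (v1 u + v1 v) (v2 u + v2 v) (v3 u + v3 v)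

/-- A multiple. -/
def vS (k v : ℕ) : ℕ := force k fun k => force v fun v => vC (k * v0 v) (k * v1 v) (k * v2 v) (k * v3 v)

/-- A column of a matrix. -/
def mC (A k : ℕ) : ℕ :=
  bif Nat.beq k 0 then A % 81 else bif Nat.beq k 1 then A / 81 % 81 else bif Nat.beq k 2 then A / 6561 % 81
    else A / 531441 % 81

/-- The matrix with given columns. -/
def mK (a b c d : ℕ) : ℕ := a + 81 * b + 6561 * c + 531441 * d

/-- A matrix applied to a vector. -/
def ap (A v : ℕ) : ℕ :=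
  force A fun A => force v fun v => vA (vA (vS (v0 v) (mC A 0)) (vS (v1 v) (mC A 1))) (vA (vS (v2 v) (mC A 2)) (vS (v3 v) (mC A 3)))

/-- The product. -/
def mM (A B : ℕ) : ℕ :=
  force A fun A => force B fun B => mK (ap A (mC B 0)) (ap A (mC B 1)) (ap A (mC B 2)) (ap A (mC B 3))

/-- The identity. -/
def mI : ℕ := mK 1 3 9 27

/-- The product of a list of matrices, taken from a list by indices. -/
def mW (gs : List ℕ) (w : List ℕ) : ℕ := w.foldl (fun A k => mM A (gs.getD k mI)) mI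

/-- The form `-x₀y₀ + x₁y₁ + x₂y₂ + x₃y₃`. -/
def qB (u v : ℕ) : ℕ := (2 * v0 u * v0 v + v1 u * v1 v + v2 u * v2 v + v3 u * v3 v) % 3

theorem vA_eq (u v : ℕ) : vA u v = vC (v0 u + v0 v) (v1 u + v1 v) (v2 u + v2 v) (v3 u + v3 v) := by
  simp only [vA, force_eq]

theorem vS_eq (k v : ℕ) : vS k v = vC (k * v0 v) (k * v1 v) (k * v2 v) (k * v3 v) := by
  simp only [vS, force_eq]

theorem ap_eq (A v : ℕ) : ap A v =
    vA (vA (vS (v0 v) (mC A 0)) (vS (v1 v) (mC A 1))) (vA (vS (v2 v) (mC A 2)) (vS (v3 v) (mC A 3))) := by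
  simp only [ap, force_eq]

theorem mM_eq (A B : ℕ) : mM A B = mK (ap A (mC B 0)) (ap A (mC B 1)) (ap A (mC B 2)) (ap A (mC B 3)) := by
  simp only [mM, force_eq]

theorem vC_lt (a b c d : ℕ) : vC a b c d < 81 := by unfold vC; omega

theorem vA_lt (u v : ℕ) : vA u v < 81 := by rw [vA_eq]; exact vC_lt _ _ _ _

theorem vS_lt (k v : ℕ) : vS k v < 81 := by rw [vS_eq]; exact vC_lt _ _ _ _

theorem ap_lt (A v : ℕ) : ap A v < 81 := by rw [ap_eq]; exact vA_lt _ _

theorem mC_lt (A k : ℕ) : mC A k < 81 := by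
  unfold mC
  cases Nat.beq k 0 <;> cases Nat.beq k 1 <;> cases Nat.beq k 2 <;> simp only [cond_true, cond_false] <;> omega

theorem vC_parts (a b c d : ℕ) :
    v0 (vC a b c d) = a % 3 ∧ v1 (vC a b c d) = b % 3 ∧ v2 (vC a b c d) = c % 3 ∧ v3 (vC a b c d) = d % 3 := by
  simp only [v0, v1, v2, v3, vC]; omega

theorem vC_self {v : ℕ} (hv : v < 81) : vC (v0 v) (v1 v) (v2 v) (v3 v) = v := by
  simp only [v0, v1, v2, v3, vC]; omega

theorem mK_cols {a b c d : ℕ} (ha : a < 81) (hb : b < 81) (hc : c < 81) (hd : d < 81) :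
    mC (mK a b c d) 0 = a ∧ mC (mK a b c d) 1 = b ∧ mC (mK a b c d) 2 = c ∧ mC (mK a b c d) 3 = d := by
  simp only [mC, mK, Nat.beq_eq, show Nat.beq 0 0 = true from rfl, show Nat.beq 1 0 = false from rfl,
    show Nat.beq 2 0 = false from rfl, show Nat.beq 3 0 = false from rfl, show Nat.beq 1 1 = true from rfl,
    show Nat.beq 2 1 = false from rfl, show Nat.beq 3 1 = false from rfl, show Nat.beq 2 2 = true from rfl,
    show Nat.beq 3 2 = false from rfl, cond_true, cond_false]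
  omega

theorem mK_self {A : ℕ} (hA : A < 43046721) : mK (mC A 0) (mC A 1) (mC A 2) (mC A 3) = A := by
  simp only [mC, mK, show Nat.beq 0 0 = true from rfl, show Nat.beq 1 0 = false from rfl,
    show Nat.beq 2 0 = false from rfl, show Nat.beq 3 0 = false from rfl, show Nat.beq 1 1 = true from rfl,
    show Nat.beq 2 1 = false from rfl, show Nat.beq 3 1 = false from rfl, show Nat.beq 2 2 = true from rfl,
    show Nat.beq 3 2 = false from rfl, cond_true, cond_false]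
  omega

theorem mK_lt {a b c d : ℕ} (ha : a < 81) (hb : b < 81) (hc : c < 81) (hd : d < 81) : mK a b c d < 43046721 := by
  unfold mK; omega

theorem mM_lt (A B : ℕ) : mM A B < 43046721 := by rw [mM_eq]; exact mK_lt (ap_lt _ _) (ap_lt _ _) (ap_lt _ _) (ap_lt _ _)

theorem mM_cols (A B : ℕ) : ∀ k < 4, mC (mM A B) k = ap A (mC B k) := by
  intro k hk
  obtain ⟨h0, h1, h2, h3⟩ := mK_cols (ap_lt A (mC B 0)) (ap_lt A (mC B 1)) (ap_lt A (mC B 2)) (ap_lt A (mC B 3))
  rw [mM_eq]; interval_cases k <;> assumption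

/-- The ten singular lines. -/
def lineL : List ℕ := [4, 7, 10, 19, 28, 55, 39, 66, 48, 75]

theorem xT_lt : ∀ A ∈ xT, A < 43046721 := by decide +kernel

theorem xT_nodup : xT.Nodup := by decide +kernel

theorem xT_length : xT.length = 360 := by decide +kernel

theorem xI_mem : mI ∈ xT := by decide +kernel

theorem xGen_mem : ∀ A ∈ xGen, A ∈ xT := by decide +kernel

theorem xNxt_ok : ∀ i < 360, ∀ k < 5, (xNxt.getD i []).getD k 0 < 360 ∧
    xT.getD ((xNxt.getD i []).getD k 0) 0 = mM (xT.getD i 0) (xGen.getD k 0) := by decide +kernel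

theorem xPar_ok : ∀ i < 360, i = 0 ∨ ((xPar.getD i (0, 0)).1 < i ∧ (xPar.getD i (0, 0)).2 < 5 ∧
    mM (xT.getD (xPar.getD i (0, 0)).1 0) (xGen.getD (xPar.getD i (0, 0)).2 0) = xT.getD i 0) := by decide +kernel

theorem xT_zero : xT.getD 0 0 = mI := by decide +kernel

theorem xT_gen {A G : ℕ} (hA : A ∈ xT) (hG : G ∈ xGen) : mM A G ∈ xT := by
  obtain ⟨i, hi, rfl⟩ := List.mem_iff_getElem.1 hA
  obtain ⟨k, hk, rfl⟩ := List.mem_iff_getElem.1 hG
  have hi' : i < 360 := xT_length ▸ hi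
  have hk' : k < 5 := hk
  obtain ⟨hj, e⟩ := xNxt_ok i hi' k hk'
  rw [List.getD_eq_getElem _ _ hi, List.getD_eq_getElem _ _ hk,
    List.getD_eq_getElem _ _ (show _ < xT.length from xT_length.symm ▸ hj)] at e
  exact e ▸ List.getElem_mem _

theorem xD_sub : (∀ A ∈ xD, A ∈ xT ∧ A ∈ xA ∧ A ∈ xB) ∧ ∀ k < 3, xGen.getD k 0 ∈ xD := by decide +kernel

/-- The place recorded for an element is right. -/
def chkWhere (i : ℕ) : Bool :=
  bif Nat.beq (xWhere.getD i (0, 0, 0)).1 0 then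
    Nat.blt (xWhere.getD i (0, 0, 0)).2.1 24 && Nat.beq (xA.getD (xWhere.getD i (0, 0, 0)).2.1 0) (xT.getD i 0)
  else bif Nat.beq (xWhere.getD i (0, 0, 0)).1 1 then
    Nat.blt (xWhere.getD i (0, 0, 0)).2.1 24 && Nat.beq (xB.getD (xWhere.getD i (0, 0, 0)).2.1 0) (xT.getD i 0)
  else Nat.blt ((xWhere.getD i (0, 0, 0)).1 - 2) 6 && (Nat.blt (xWhere.getD i (0, 0, 0)).2.1 8 &&
    (Nat.blt (xWhere.getD i (0, 0, 0)).2.2 8 && Nat.beq
      (mM (mM (xD.getD (xWhere.getD i (0, 0, 0)).2.1 0) (xT.getD i 0)) (xD.getD (xWhere.getD i (0, 0, 0)).2.2 0))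
      (xRep.getD ((xWhere.getD i (0, 0, 0)).1 - 2) 0)))

theorem chkWhere_ok : ∀ i < 360, chkWhere i = true :=
  Cfsg.Agent.Spor.Cos.of_blocks (size := 60) (b := 6) (by decide) (by decide) fun j hj => by
    interval_cases j <;> decide +kernel

theorem xD_length : xD.length = 8 ∧ xA.length = 24 ∧ xB.length = 24 ∧ xRep.length = 6 := by decide +kernel

theorem xRep_ok : ∀ A ∈ xT, A ∈ xA ∨ A ∈ xB ∨ ∃ p ∈ xD, ∃ q ∈ xD, mM (mM p A) q ∈ xRep := by
  intro A hA
  obtain ⟨i, hi, rfl⟩ := List.mem_iff_getElem.1 hA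
  obtain ⟨lD, lA, lB, lR⟩ := xD_length
  have h := chkWhere_ok i (xT_length ▸ hi)
  have hm : ∀ (l : List ℕ) (k n : ℕ), Nat.blt k n = true → l.length = n → l.getD k 0 ∈ l := fun l k n hk hl => by
    have hk' : k < l.length := hl.symm ▸ Nat.le_of_ble_eq_true hk
    rw [List.getD_eq_getElem _ _ hk']
    exact List.getElem_mem _
  unfold chkWhere at h
  rw [List.getD_eq_getElem _ _ hi] at h
  generalize xWhere.getD i (0, 0, 0) = w at h
  cases h0 : Nat.beq w.1 0 <;> rw [h0] at h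
  · cases h1 : Nat.beq w.1 1 <;> rw [h1] at h
    · simp only [cond_false, Bool.and_eq_true] at h
      obtain ⟨r1, r2, r3, r4⟩ := h
      refine Or.inr (Or.inr ⟨_, hm xD _ _ r2 lD, _, hm xD _ _ r3 lD, ?_⟩)
      rw [Nat.eq_of_beq_eq_true r4]
      exact hm xRep _ _ r1 lR
    · simp only [cond_true, cond_false, Bool.and_eq_true] at h
      exact Or.inr (Or.inl (Nat.eq_of_beq_eq_true h.2 ▸ hm xB _ _ h.1 lB))
  · simp only [cond_true, Bool.and_eq_true] at h
    exact Or.inl (Nat.eq_of_beq_eq_true h.2 ▸ hm xA _ _ h.1 lA)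

theorem xWord_ok : ∀ j < 6, mW [xGen.getD 0 0, xGen.getD 1 0, xGen.getD 2 0, xRep.getD j 0] (xWord.getD j ([], [])).1 =
      xGen.getD 3 0 ∧
    mW [xGen.getD 0 0, xGen.getD 1 0, xGen.getD 2 0, xRep.getD j 0] (xWord.getD j ([], [])).2 = xGen.getD 4 0 := by
  decide +kernel

theorem xD_word : ∀ A ∈ xD, ∃ i ∈ [0, 1], ∃ j ∈ [0, 1], ∃ k ∈ [0, 1],
    mM (mM (bif Nat.beq i 0 then mI else xGen.getD 0 0) (bif Nat.beq j 0 then mI else xGen.getD 1 0))
      (bif Nat.beq k 0 then mI else xGen.getD 2 0) = A := by decide +kernel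

theorem mW_closed {gs : List ℕ} {S : ℕ → Prop} (hI : S mI) (hM : ∀ A B, S A → S B → S (mM A B))
    (hg : ∀ k, S (gs.getD k mI)) (w : List ℕ) : S (mW gs w) := by
  have : ∀ A, S A → S (w.foldl (fun A k => mM A (gs.getD k mI)) A) := by
    induction w with
    | nil => exact fun A h => h
    | cons k w ih => exact fun A h => ih _ (hM _ _ h (hg k))
  exact this _ hI

/-- A set of matrices closed under products, containing the dihedral group and a matrix outside the two groups of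
order 24 above it, is everything. -/
theorem xT_all {S : ℕ → Prop} (hI : S mI) (hM : ∀ A B, S A → S B → S (mM A B))
    (hD : ∀ k < 3, S (xGen.getD k 0)) {A : ℕ} (hA : A ∈ xT) (hAa : A ∉ xA) (hAb : A ∉ xB) (hSA : S A) :
    ∀ B ∈ xT, S B := by
  have hSD : ∀ P ∈ xD, S P := fun P hP => by
    obtain ⟨i, -, j, -, k, -, rfl⟩ := xD_word P hP
    refine hM _ _ (hM _ _ ?_ ?_) ?_
    · cases Nat.beq i 0 <;> [exact hD 0 (by norm_num); exact hI]
    · cases Nat.beq j 0 <;> [exact hD 1 (by norm_num); exact hI]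
    · cases Nat.beq k 0 <;> [exact hD 2 (by norm_num); exact hI]
  obtain ⟨p, hp, q, hq, hr⟩ := ((xRep_ok A hA).resolve_left hAa).resolve_left hAb
  obtain ⟨j, hj, hjr⟩ := List.mem_iff_getElem.1 hr
  have hj' : j < 6 := hj
  have hR : S (xRep.getD j 0) := by
    rw [List.getD_eq_getElem _ _ hj, hjr]
    exact hM _ _ (hM _ _ (hSD p hp) hSA) (hSD q hq)
  have hg : ∀ k, S ([xGen.getD 0 0, xGen.getD 1 0, xGen.getD 2 0, xRep.getD j 0].getD k mI) := by
    intro k
    rcases k with _ | _ | _ | _ | n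
    · rw [List.getD_cons_zero]; exact hD 0 (by norm_num)
    · rw [List.getD_cons_succ, List.getD_cons_zero]; exact hD 1 (by norm_num)
    · rw [List.getD_cons_succ, List.getD_cons_succ, List.getD_cons_zero]; exact hD 2 (by norm_num)
    · rw [List.getD_cons_succ, List.getD_cons_succ, List.getD_cons_succ, List.getD_cons_zero]; exact hR
    · rw [List.getD_cons_succ, List.getD_cons_succ, List.getD_cons_succ, List.getD_cons_succ, List.getD_nil]; exact hI
  have hG : ∀ k < 5, S (xGen.getD k 0) := by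
    intro k hk
    by_cases h3 : k < 3
    · exact hD k h3
    obtain rfl | rfl : k = 3 ∨ k = 4 := by omega
    · rw [← (xWord_ok j hj').1]; exact mW_closed hI hM hg _
    · rw [← (xWord_ok j hj').2]; exact mW_closed hI hM hg _
  have : ∀ i, i < 360 → S (xT.getD i 0) := by
    intro i
    induction i using Nat.strong_induction_on with
    | _ i ih =>
      intro hi
      rcases xPar_ok i hi with rfl | ⟨h1, h2, h3⟩
      · rw [xT_zero]; exact hI
      · rw [← h3]; exact hM _ _ (ih _ h1 (by omega)) (hG _ h2)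
  intro B hB
  obtain ⟨i, hi, rfl⟩ := List.mem_iff_getElem.1 hB
  have := this i (xT_length ▸ hi)
  rwa [List.getD_eq_getElem _ _ hi] at this

/-- The generators coming from the second element of order three. -/
theorem xCand_ok : ∀ A ∈ xCand, A ∈ xT ∧ ((A ∉ xA ∧ A ∉ xB) ∨
    (mM (xGen.getD 3 0) A ∈ xT ∧ mM (xGen.getD 3 0) A ∉ xA ∧ mM (xGen.getD 3 0) A ∉ xB)) := by decide +kernel

theorem xT_form : ∀ A ∈ xT, ∀ u ∈ [1, 3, 9, 27], ∀ v ∈ [1, 3, 9, 27], qB (ap A u) (ap A v) = qB u v := by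
  decide +kernel

theorem xT_line : (∀ A ∈ xT, ap A 4 ∈ lineL ∨ vS 2 (ap A 4) ∈ lineL) ∧ lineL.Nodup ∧
    (∀ l ∈ lineL, l < 81 ∧ qB l l = 0 ∧ ∃ A ∈ xT, ap A 4 = l ∨ ap A 4 = vS 2 l) := by decide +kernel

theorem xW_spec : (∀ A ∈ xT, ap A 4 = 4 → mM A (mM A A) = mI → A ∈ xW) ∧
    (∀ A ∈ xW, A ∈ xT ∧ ap A 4 = 4 ∧ mM A (mM A A) = mI ∧ mM (mM (mM (xGen.getD 0 0) A) (xGen.getD 0 0)) A = mI) ∧
    (∀ A ∈ xT, ap A 4 = 4 → mM (mM A (mM A A)) (mM (mM A (mM A A)) (mM A (mM A A))) = mI → A ∈ xW) ∧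
    xW.Nodup ∧ xW.length = 9 ∧ (∃ A ∈ xW, A ∉ xA ∧ A ∉ xB) := by decide +kernel

/-- A nontrivial element fixes at most nine vectors, two of them at most three in common. -/
theorem xW_fix : ∀ A ∈ xW, A ≠ mI → ((List.range 81).filter fun v => Nat.beq (ap A v) v).length ≤ 9 ∧
    ∀ B ∈ xW, B ≠ mI → B ≠ A → B ≠ mM A A →
      ((List.range 81).filter fun v => Nat.beq (ap A v) v && Nat.beq (ap B v) v).length ≤ 3 := by decide +kernel

theorem xU_trivial : ∀ A ∈ xT, mM (mM (xGen.getD 0 0) A) (mM (xGen.getD 0 0) A) = mI → mM A (mM A A) = mI →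
    (∀ P ∈ xD, ∀ Q ∈ xD, mM P Q = mI → mM A (mM (mM P A) Q) = mM (mM (mM P A) Q) A) → A = mI := by decide +kernel

theorem xL_split : ∀ A ∈ xT, (ap A 4 = 4 ∨ ap A 4 = 8) →
    ∃ w ∈ xW, ∃ P ∈ xD, (ap P 4 = 4 ∨ ap P 4 = 8) ∧ mM w P = A := by decide +kernel

end Cfsg.Agent.Spor.UFourType
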