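import Cfsg.Agent.Lib.Spor.UFourType.Triple
import Cfsg.Agent.Lib.Spor.UFourType.Vec
import Cfsg.Agent.Lib.Spor.UFourType.Inverted

/-!
The elementary group of order 81 spanned by `d`, `a` and the two conjugates of `a`: it is the odd part of the
centralizer of `d` and `a`, and its own centralizer.
-/

set_option autoImplicit false
set_option maxRecDepth 100000
set_option synthInstance.maxSize 1024

namespace Cfsg.Agent.Spor.UFourType

variable {G : Type*} [Group G] {z : G} {e : ℕ → G} {r : G}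

/-- The numbered centralizer with the element of order three found in it. -/
structure Frm (z : G) (e : ℕ → G) (r : G) : Prop where
  cent : Cent z e
  rd : Commute r (e 52)
  r1 : r * z * r⁻¹ = e 576
  r2 : r * e 576 * r⁻¹ = e 720
  r3 : r * e 720 * r⁻¹ = z
  r3z : Commute (r ^ 3) z
  r9 : r ^ 9 = 1
  ab : Commute (e 100) (r * e 100 * r⁻¹)
  ac : Commute (e 100) (r * (r * e 100 * r⁻¹) * r⁻¹)
  bc : Commute (r * e 100 * r⁻¹) (r * (r * e 100 * r⁻¹) * r⁻¹)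

theorem Cent.exists_frm [Finite G] (C : Cent z e) : ∃ r, Frm z e r := by
  obtain ⟨r, -, h1, h2, h3, h4, h5, h6, h7, h8, h9⟩ := C.exists_triple
  exact ⟨r, C, h1, h2, h3, h4, h5, h6, h7, h8, h9⟩

/-- The element of a code. -/
def ev (e : ℕ → G) (r : G) (v : ℕ) : G :=
  e 52 ^ v0 v * e 100 ^ v1 v * (r * e 100 * r⁻¹) ^ v2 v * (r * (r * e 100 * r⁻¹) * r⁻¹) ^ v3 v

theorem eq_one_of_pow_three {x : G} (h2 : x * x = 1) (h3 : x ^ 3 = 1) : x = 1 := by
  rw [pow_three, h2, mul_one] at h3; exact h3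

theorem inv_of_three {x : G} (h3 : x ^ 3 = 1) : x * x = x⁻¹ :=
  eq_inv_of_mul_eq_one_left (by rw [mul_assoc, ← pow_three, h3])

/-- The arithmetic of the two sign changes. -/
theorem sgn_codes : ∀ w < 81,
    (v2 (vA w (vC (v0 w) (1 * v1 w) (2 * v2 w) (2 * v3 w))) = 0 ∧
      v3 (vA w (vC (v0 w) (1 * v1 w) (2 * v2 w) (2 * v3 w))) = 0) ∧
    vA w (vA (vC (v0 w) (1 * v1 w) (2 * v2 w) (2 * v3 w)) (vC (v0 w) (1 * v1 w) (2 * v2 w) (2 * v3 w))) =
      vC 0 0 (2 * v2 w) (2 * v3 w) ∧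
    vA (vC 0 0 (2 * v2 w) (2 * v3 w))
      (vC (v0 (vC 0 0 (2 * v2 w) (2 * v3 w))) (2 * v1 (vC 0 0 (2 * v2 w) (2 * v3 w)))
        (1 * v2 (vC 0 0 (2 * v2 w) (2 * v3 w))) (2 * v3 (vC 0 0 (2 * v2 w) (2 * v3 w)))) = vC 0 0 (v2 w) 0 ∧
    (v2 w % 3 = 0 → v2 w = 0) ∧ ((2 * v3 w) % 3 = 0 → v3 w = 0) ∧
    (v2 w = 0 → v3 w = 0 → v0 w = 0 → v1 w = 0 → w = 0) ∧
    (vC (v0 w) (1 * v1 w) (2 * v2 w) (2 * v3 w) = w → v2 w = 0 ∧ v3 w = 0) := by decide +kernel

theorem sub_codes : ∀ u < 81, ∀ v < 81, vA u (vS 2 v) = 0 → u = v := by decide +kernel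

namespace Frm

variable (F : Frm z e r)
include F

theorem d_z : Commute (e 52) z := F.cent.e_z (by norm_num)

theorem a_z : Commute (e 100) z := F.cent.e_z (by norm_num)

theorem z_inv : z⁻¹ = z := inv_eq_of_mul_eq_one_right F.cent.z_mul_z

theorem t_sq : e 576 * e 576 = 1 := by
  rw [← F.cent.mul 576 (by norm_num) 576 (by norm_num), show mL 576 576 = 0 by decide +kernel, F.cent.e0]

theorem t_inv : (e 576)⁻¹ = e 576 := inv_eq_of_mul_eq_one_right F.t_sq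

theorem zt : z * e 576 = e 720 := by
  rw [← F.cent.z_eq, ← F.cent.mul 144 (by norm_num) 576 (by norm_num), show mL 144 576 = 720 by decide +kernel]

theorem t_d : e 576 * e 52 * e 576 = e 52 := by
  conv_lhs => arg 2; rw [← F.t_inv]
  rw [← F.cent.e_cj (by norm_num) (by norm_num), show cjL 576 52 = 52 by decide +kernel]

theorem t_a : e 576 * e 100 * e 576 = (e 100)⁻¹ := by
  conv_lhs => arg 2; rw [← F.t_inv]
  rw [← F.cent.e_cj (by norm_num) (by norm_num), show cjL 576 100 = 56 by decide +kernel, F.cent.e56]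

theorem b_z : z * (r * e 100 * r⁻¹) * z = (r * e 100 * r⁻¹)⁻¹ := by
  have h : r * e 720 * r⁻¹ = z := F.r3
  calc z * (r * e 100 * r⁻¹) * z = r * (e 720 * e 100 * e 720) * r⁻¹ := by nth_rw 1 2 [← h]; group
    _ = r * (e 720 * e 100 * (e 720)⁻¹) * r⁻¹ := by
      rw [inv_eq_of_mul_eq_one_right (show e 720 * e 720 = 1 by
        rw [← F.cent.mul 720 (by norm_num) 720 (by norm_num), show mL 720 720 = 0 by decide +kernel, F.cent.e0])]
    _ = (r * e 100 * r⁻¹)⁻¹ := by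
      rw [← F.cent.e_cj (by norm_num) (by norm_num), show cjL 720 100 = 56 by decide +kernel, F.cent.e56]
      group

theorem b_t : e 576 * (r * e 100 * r⁻¹) * e 576 = r * e 100 * r⁻¹ := by
  have h : Commute (r * z * r⁻¹) (r * e 100 * r⁻¹) := (Commute.conj_iff r).2 F.a_z.symm
  rw [F.r1] at h
  rw [h.eq, mul_assoc, F.t_sq, mul_one]

theorem c_z : z * (r * (r * e 100 * r⁻¹) * r⁻¹) * z = (r * (r * e 100 * r⁻¹) * r⁻¹)⁻¹ := by
  have hzt : e 720 * (r * e 100 * r⁻¹) * e 720 = (r * e 100 * r⁻¹)⁻¹ := by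
    conv_lhs => arg 2; rw [← F.zt]
    nth_rw 1 [← F.zt]
    rw [show z * e 576 * (r * e 100 * r⁻¹) * (z * e 576) = z * (e 576 * (r * e 100 * r⁻¹) * z * e 576) by group,
      show e 576 * (r * e 100 * r⁻¹) * z * e 576 = e 576 * (r * e 100 * r⁻¹) * (z * e 576) by group,
      (show Commute z (e 576) from (F.cent.e_z (by norm_num)).symm).eq,
      show e 576 * (r * e 100 * r⁻¹) * (e 576 * z) = e 576 * (r * e 100 * r⁻¹) * e 576 * z by group, F.b_t,
      ← mul_assoc, F.b_z]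
  calc z * (r * (r * e 100 * r⁻¹) * r⁻¹) * z = r * (e 720 * (r * e 100 * r⁻¹) * e 720) * r⁻¹ := by
        nth_rw 1 2 [← F.r3]; group
    _ = _ := by rw [hzt]; exact (conj_inv).symm

theorem c_t : e 576 * (r * (r * e 100 * r⁻¹) * r⁻¹) * e 576 = (r * (r * e 100 * r⁻¹) * r⁻¹)⁻¹ := by
  calc e 576 * (r * (r * e 100 * r⁻¹) * r⁻¹) * e 576 = r * (z * (r * e 100 * r⁻¹) * z) * r⁻¹ := by
        nth_rw 1 2 [← F.r1]; group
    _ = _ := by rw [F.b_z]; exact (conj_inv).symm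

theorem d3 : e 52 ^ 3 = 1 := F.cent.d3

theorem a3 : e 100 ^ 3 = 1 := F.cent.a3

theorem b3 : (r * e 100 * r⁻¹) ^ 3 = 1 := by rw [conj_pow, F.a3]; group

theorem c3 : (r * (r * e 100 * r⁻¹) * r⁻¹) ^ 3 = 1 := by rw [conj_pow, F.b3]; group

theorem db : Commute (e 52) (r * e 100 * r⁻¹) := by
  have h := (Commute.conj_iff r).2 F.cent.da
  rwa [F.rd.eq, mul_inv_cancel_right] at h

theorem dc : Commute (e 52) (r * (r * e 100 * r⁻¹) * r⁻¹) := by
  have h := (Commute.conj_iff r).2 F.db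
  rwa [F.rd.eq, mul_inv_cancel_right] at h

theorem ev_add (u v : ℕ) : ev e r (vA u v) = ev e r u * ev e r v := by
  rw [vA_eq]
  obtain ⟨h0, h1, h2, h3⟩ := vC_parts (v0 u + v0 v) (v1 u + v1 v) (v2 u + v2 v) (v3 u + v3 v)
  unfold ev
  rw [h0, h1, h2, h3, ← pow_eq_pow_mod _ F.d3, ← pow_eq_pow_mod _ F.a3, ← pow_eq_pow_mod _ F.b3,
    ← pow_eq_pow_mod _ F.c3, pow_add, pow_add, pow_add, pow_add]
  set d := e 52
  set a := e 100
  set b := r * a * r⁻¹
  set c := r * b * r⁻¹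
  have p1 : ∀ i j : ℕ, Commute (d ^ i) (a ^ j) := fun i j => F.cent.da.pow_pow i j
  have p2 : ∀ i j : ℕ, Commute (d ^ i) (b ^ j) := fun i j => F.db.pow_pow i j
  have p3 : ∀ i j : ℕ, Commute (d ^ i) (c ^ j) := fun i j => F.dc.pow_pow i j
  have p4 : ∀ i j : ℕ, Commute (a ^ i) (b ^ j) := fun i j => F.ab.pow_pow i j
  have p5 : ∀ i j : ℕ, Commute (a ^ i) (c ^ j) := fun i j => F.ac.pow_pow i j
  have p6 : ∀ i j : ℕ, Commute (b ^ i) (c ^ j) := fun i j => F.bc.pow_pow i j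
  symm
  calc d ^ v0 u * a ^ v1 u * b ^ v2 u * c ^ v3 u * (d ^ v0 v * a ^ v1 v * b ^ v2 v * c ^ v3 v)
      = d ^ v0 u * (a ^ v1 u * b ^ v2 u * c ^ v3 u * d ^ v0 v) * a ^ v1 v * b ^ v2 v * c ^ v3 v := by group
    _ = d ^ v0 u * (d ^ v0 v * (a ^ v1 u * b ^ v2 u * c ^ v3 u)) * a ^ v1 v * b ^ v2 v * c ^ v3 v := by
      rw [(((p1 (v0 v) (v1 u)).mul_right (p2 _ (v2 u))).mul_right (p3 _ (v3 u))).eq]
    _ = d ^ v0 u * d ^ v0 v * a ^ v1 u * (b ^ v2 u * c ^ v3 u * a ^ v1 v) * b ^ v2 v * c ^ v3 v := by group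
    _ = d ^ v0 u * d ^ v0 v * a ^ v1 u * (a ^ v1 v * (b ^ v2 u * c ^ v3 u)) * b ^ v2 v * c ^ v3 v := by
      rw [((p4 (v1 v) (v2 u)).mul_right (p5 _ (v3 u))).eq]
    _ = d ^ v0 u * d ^ v0 v * (a ^ v1 u * a ^ v1 v) * b ^ v2 u * (c ^ v3 u * b ^ v2 v) * c ^ v3 v := by group
    _ = d ^ v0 u * d ^ v0 v * (a ^ v1 u * a ^ v1 v) * b ^ v2 u * (b ^ v2 v * c ^ v3 u) * c ^ v3 v := by
      rw [(p6 (v2 v) (v3 u)).eq]
    _ = _ := by group

theorem ev_zero : ev e r 0 = 1 := by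
  rw [ev, show v0 0 = 0 from rfl, show v1 0 = 0 from rfl, show v2 0 = 0 from rfl, show v3 0 = 0 from rfl]
  simp

theorem ev_mul : ∀ (k v : ℕ), ev e r (vS k v) = ev e r v ^ k := by
  intro k v
  induction k with
  | zero => rw [pow_zero, vS_eq, zero_mul, zero_mul, zero_mul, zero_mul, show vC 0 0 0 0 = 0 from rfl, F.ev_zero]
  | succ k ih =>
    rw [pow_succ, ← ih, ← F.ev_add]
    congr 1
    obtain ⟨q0, q1, q2, q3⟩ := vC_parts (k * v0 v) (k * v1 v) (k * v2 v) (k * v3 v)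
    rw [vA_eq, vS_eq, vS_eq k v, q0, q1, q2, q3]
    simp only [vC, add_mul, one_mul, Nat.mod_add_mod]

theorem ev_basis : ev e r 1 = e 52 ∧ ev e r 3 = e 100 ∧ ev e r 9 = r * e 100 * r⁻¹ ∧
    ev e r 27 = r * (r * e 100 * r⁻¹) * r⁻¹ := by
  refine ⟨?_, ?_, ?_, ?_⟩ <;> simp [ev, v0, v1, v2, v3]

theorem ev_three (v : ℕ) : ev e r v ^ 3 = 1 := by
  rw [← F.ev_mul, vS_eq, show vC (3 * v0 v) (3 * v1 v) (3 * v2 v) (3 * v3 v) = 0 by simp only [vC]; omega, F.ev_zero]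

theorem ev_inv (v : ℕ) : (ev e r v)⁻¹ = ev e r (vS 2 v) := by
  rw [F.ev_mul, pow_two, inv_of_three (F.ev_three v)]

/-- The elementary group. -/
def E : Subgroup G where
  carrier := {g | ∃ v < 81, ev e r v = g}
  one_mem' := ⟨0, by norm_num, F.ev_zero⟩
  mul_mem' := by
    rintro _ _ ⟨u, -, rfl⟩ ⟨v, -, rfl⟩
    exact ⟨_, vA_lt u v, F.ev_add u v⟩
  inv_mem' := by
    rintro _ ⟨v, -, rfl⟩
    exact ⟨_, vS_lt 2 v, (F.ev_inv v).symm⟩

theorem gen_mem : e 52 ∈ F.E ∧ e 100 ∈ F.E ∧ r * e 100 * r⁻¹ ∈ F.E ∧ r * (r * e 100 * r⁻¹) * r⁻¹ ∈ F.E := by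
  obtain ⟨h1, h2, h3, h4⟩ := F.ev_basis
  exact ⟨⟨1, by norm_num, h1⟩, ⟨3, by norm_num, h2⟩, ⟨9, by norm_num, h3⟩, ⟨27, by norm_num, h4⟩⟩

theorem E_comm {g h : G} (hg : g ∈ F.E) (hh : h ∈ F.E) : Commute g h := by
  obtain ⟨u, -, rfl⟩ := hg
  obtain ⟨v, -, rfl⟩ := hh
  show _ * _ = _ * _
  rw [← F.ev_add, ← F.ev_add, vA_eq, vA_eq, add_comm (v0 u), add_comm (v1 u), add_comm (v2 u), add_comm (v3 u)]

/-- The effect of an involution of `W` on a code. -/
theorem ev_conj {g : G} (hg : g * g = 1) {i j : ℕ} (hd : g * e 52 * g = e 52) (ha : g * e 100 * g = e 100 ^ i)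
    (hb : g * (r * e 100 * r⁻¹) * g = (r * e 100 * r⁻¹) ^ j) {k : ℕ}
    (hc : g * (r * (r * e 100 * r⁻¹) * r⁻¹) * g = (r * (r * e 100 * r⁻¹) * r⁻¹) ^ k) (v : ℕ) :
    g * ev e r v * g = ev e r (vC (v0 v) (i * v1 v) (j * v2 v) (k * v3 v)) := by
  obtain ⟨h0, h1, h2, h3⟩ := vC_parts (v0 v) (i * v1 v) (j * v2 v) (k * v3 v)
  have hgi : g⁻¹ = g := inv_eq_of_mul_eq_one_right hg
  unfold ev
  rw [h0, h1, h2, h3, ← pow_eq_pow_mod _ F.d3, ← pow_eq_pow_mod _ F.a3, ← pow_eq_pow_mod _ F.b3,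
    ← pow_eq_pow_mod _ F.c3, pow_mul, pow_mul, pow_mul, ← ha, ← hb, ← hc]
  have hm : ∀ x y : G, g * (x * y) * g = g * x * g * (g * y * g) := fun x y => by
    rw [show g * x * g * (g * y * g) = g * x * (g * g) * y * g by group, hg]; group
  have hp : ∀ (x : G) (n : ℕ), (g * x * g) ^ n = g * x ^ n * g := fun x n => by
    have := conj_pow (a := g) (b := x) (i := n)
    rwa [hgi] at this
  conv_rhs => arg 1; arg 1; arg 1; rw [← hd]
  rw [hp, hp, hp, hp, ← hm, ← hm, ← hm]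

theorem z_act (v : ℕ) : z * ev e r v * z = ev e r (vC (v0 v) (1 * v1 v) (2 * v2 v) (2 * v3 v)) :=
  F.ev_conj F.cent.z_mul_z (by rw [F.d_z.symm.eq, mul_assoc, F.cent.z_mul_z, mul_one])
    (by rw [F.a_z.symm.eq, mul_assoc, F.cent.z_mul_z, mul_one, pow_one])
    (by rw [F.b_z, pow_two, inv_of_three F.b3]) (by rw [F.c_z, pow_two, inv_of_three F.c3]) v

theorem t_act (v : ℕ) : e 576 * ev e r v * e 576 = ev e r (vC (v0 v) (2 * v1 v) (1 * v2 v) (2 * v3 v)) :=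
  F.ev_conj F.t_sq F.t_d (by rw [F.t_a, pow_two, inv_of_three F.a3]) (by rw [F.b_t, pow_one])
    (by rw [F.c_t, pow_two, inv_of_three F.c3]) v

theorem ev_inj {u v : ℕ} (hu : u < 81) (hv : v < 81) (h : ev e r u = ev e r v) : u = v := by
  have key : ∀ w < 81, ev e r w = 1 → w = 0 := by
    intro w hw h1
    have hz := F.z_act w
    have ht := F.t_act w
    rw [h1, mul_one, F.cent.z_mul_z] at hz
    rw [h1, mul_one, F.t_sq] at ht
    have s1 : ∀ x y, ev e r x = 1 → ev e r y = 1 → ev e r (vA x y) = 1 := fun x y hx hy => by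
      rw [F.ev_add, hx, hy, one_mul]
    have k1 := s1 _ _ h1 hz.symm
    have k2 := s1 _ _ h1 (s1 _ _ hz.symm hz.symm)
    -- the part in `⟨d, a⟩`
    have hPd : ∀ x < 81, v2 x = 0 → v3 x = 0 → ev e r x = 1 → x = 0 := by
      intro x hx h2 h3 hx1
      rw [ev, h2, h3, pow_zero, pow_zero, mul_one, mul_one] at hx1
      have hx' : e 52 ^ v0 x = (e 100 ^ v1 x)⁻¹ := eq_inv_of_mul_eq_one_left hx1
      have : ∀ i < 3, ∀ j < 3, e 52 ^ i * e 100 ^ j = 1 → i = 0 ∧ j = 0 := by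
        intro i hi j hj hij
        have hn : ∀ i < 3, ∀ j < 3, ∃ n < 1152, e 52 ^ i * e 100 ^ j = e n ∧ (n = 0 → i = 0 ∧ j = 0) := by
          intro i hi j hj
          have m52 : ∀ i < 3, e 52 ^ i = e ([0, 52, 104].getD i 0) := by
            intro i hi
            interval_cases i
            · simp [F.cent.e0]
            · simp
            · simp [pow_two, inv_of_three F.d3, F.cent.e104]
          have m100 : ∀ j < 3, e 100 ^ j = e ([0, 100, 56].getD j 0) := by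
            intro j hj
            interval_cases j
            · simp [F.cent.e0]
            · simp
            · simp [pow_two, inv_of_three F.a3, F.cent.e56]
          have key : ∀ i < 3, ∀ j < 3, ([0, 52, 104].getD i 0) < 1152 ∧ ([0, 100, 56].getD j 0) < 1152 ∧
              (mL ([0, 52, 104].getD i 0) ([0, 100, 56].getD j 0) = 0 → i = 0 ∧ j = 0) := by decide +kernel
          obtain ⟨k1, k2, k3⟩ := key i hi j hj
          exact ⟨_, mL_lt _ _, by rw [m52 i hi, m100 j hj, F.cent.mul _ k1 _ k2], k3⟩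
        obtain ⟨n, hn', en, hn0⟩ := hn i hi j hj
        exact hn0 (F.cent.inj n hn' 0 (by norm_num) (by rw [← en, hij, F.cent.e0]))
      obtain ⟨i0, j0⟩ := this (v0 x) (Nat.mod_lt _ (by norm_num)) (v1 x) (Nat.mod_lt _ (by norm_num)) hx1
      exact (sgn_codes x hx).2.2.2.2.2.1 h2 h3 i0 j0
    -- the parts of `b` and of `c`
    obtain ⟨-, f2, f5, f6, f7, -, -⟩ := sgn_codes w hw
    rw [f2] at k2
    have hb : ∀ q, ev e r (vC 0 0 q 0) = 1 → q % 3 = 0 := by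
      intro q hq
      rw [ev, (vC_parts _ _ _ _).1, (vC_parts _ _ _ _).2.1, (vC_parts _ _ _ _).2.2.1, (vC_parts _ _ _ _).2.2.2] at hq
      simp only [Nat.zero_mod, pow_zero, one_mul, mul_one, conj_pow, mul_inv_eq_one, mul_eq_left] at hq
      have := (show ∀ i < 3, e 100 ^ i = 1 → i = 0 from fun i hi h => by
        by_contra h0
        have h100 : e 100 = 1 := by
          interval_cases i
          · exact absurd rfl h0
          · rwa [pow_one] at h
          · exact eq_one_of_pow_three (by rwa [← pow_two]) F.a3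
        exact absurd (F.cent.inj 100 (by norm_num) 0 (by norm_num) (h100.trans F.cent.e0.symm)) (by norm_num))
        (q % 3) (Nat.mod_lt _ (by norm_num)) hq
      exact this
    have hc : ∀ q, ev e r (vC 0 0 0 q) = 1 → q % 3 = 0 := by
      intro q hq
      apply hb
      rw [ev, (vC_parts _ _ _ _).1, (vC_parts _ _ _ _).2.1, (vC_parts _ _ _ _).2.2.1, (vC_parts _ _ _ _).2.2.2] at hq ⊢
      simp only [Nat.zero_mod, pow_zero, one_mul, mul_one] at hq ⊢
      rwa [conj_pow, mul_inv_eq_one, mul_eq_left] at hq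
    have k4 := F.t_act (vC 0 0 (2 * v2 w) (2 * v3 w))
    rw [k2, mul_one, F.t_sq] at k4
    have k5 := s1 _ _ k2 k4.symm
    rw [f5] at k5
    have b0 : v2 w = 0 := f6 (hb _ k5)
    rw [b0, mul_zero] at k2
    have c0 : v3 w = 0 := f7 (hc _ k2)
    exact hPd w hw b0 c0 h1
  have h' : ev e r (vA u (vS 2 v)) = 1 := by rw [F.ev_add, ← F.ev_inv, h, mul_inv_cancel]
  exact sub_codes u hu v hv (key _ (vA_lt _ _) h')

theorem E_CP {g : G} (hg : g ∈ F.E) : g ∈ F.cent.CP :=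
  F.cent.mem_CP.2 ⟨F.E_comm hg F.gen_mem.1, F.E_comm hg F.gen_mem.2.1⟩

theorem E_odd {g : G} (hg : g ∈ F.E) : Odd (orderOf g) := by
  obtain ⟨v, -, rfl⟩ := hg
  exact (by decide : Odd 3).of_dvd_nat (orderOf_dvd_of_pow_eq_one (F.ev_three v))

/-- The centralizer of `d` and `a`. -/
theorem cp_spec [Finite G] : (∀ g ∈ F.cent.CP, g ∈ F.E ∨ g * z ∈ F.E) ∧
    ∀ g ∈ F.cent.CP, Odd (orderOf g) → g ∈ F.E := by
  classical
  obtain ⟨K, hKCP, hKodd, hKcov, hKodd'⟩ := F.cent.exists_complement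
  have hEK : F.E ≤ K := fun g hg => hKodd' g (F.E_CP hg) (F.E_odd hg)
  have hodd : ∀ v ∈ K, Odd (orderOf v) := fun v hv => hKodd.of_dvd_nat (Subgroup.orderOf_dvd_natCard K hv)
  have hconj : ∀ s : G, s * s = 1 → (∀ x ∈ F.cent.CP, s * x * s ∈ F.cent.CP) → ∀ v ∈ K, s * v * s ∈ K := by
    intro s hs hCP v hv
    refine hKodd' _ (hCP v (hKCP hv)) ?_
    have : s * v * s = MulAut.conj s v := by rw [MulAut.conj_apply, inv_eq_of_mul_eq_one_right hs]
    rw [this, (MulAut.conj s).orderOf_eq]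
    exact hodd v hv
  have hzn : ∀ x ∈ F.cent.CP, z * x * z ∈ F.cent.CP := fun x hx =>
    mul_mem (mul_mem F.cent.z_mem_CP hx) F.cent.z_mem_CP
  have htn : ∀ x ∈ F.cent.CP, e 576 * x * e 576 ∈ F.cent.CP := fun x hx => by
    obtain ⟨h1, h2⟩ := F.cent.mem_CP.1 hx
    have k1 := (Commute.conj_iff (e 576)).2 h1
    have k2 := (Commute.conj_iff (e 576)).2 h2
    rw [F.t_inv] at k1 k2
    rw [F.t_d] at k1
    rw [F.t_a] at k2
    exact F.cent.mem_CP.2 ⟨k1, Commute.inv_right_iff.1 k2⟩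
  have hz2 := F.cent.z_mul_z
  -- the elements fixed by `z`, by `t` and by `z t`
  have hPE : ∀ v ∈ K, Commute v z → v ∈ F.cent.P := fun v hv hc => by
    obtain ⟨n, hn, en⟩ := F.cent.odd_cd hc (F.cent.mem_CP.1 (hKCP hv)).1 (hodd v hv)
    exact ⟨n, hn, en⟩
  have hPle : F.cent.P ≤ F.E := by
    rintro g ⟨n, hn, rfl⟩
    have key : ∀ n ∈ pL, ∃ i ∈ [0, 52, 104], ∃ j ∈ [0, 100, 56], n = mL i j := by decide +kernel
    obtain ⟨i, hi, j, hj, rfl⟩ := key n hn
    have hlt : ∀ i ∈ [0, 52, 104, 100, 56], i < 1152 ∧ e i ∈ F.E := by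
      intro i hi
      simp only [List.mem_cons, List.not_mem_nil, or_false] at hi
      rcases hi with rfl | rfl | rfl | rfl | rfl
      · exact ⟨by norm_num, F.cent.e0.symm ▸ F.E.one_mem⟩
      · exact ⟨by norm_num, F.gen_mem.1⟩
      · exact ⟨by norm_num, F.cent.e104.symm ▸ F.E.inv_mem F.gen_mem.1⟩
      · exact ⟨by norm_num, F.gen_mem.2.1⟩
      · exact ⟨by norm_num, F.cent.e56.symm ▸ F.E.inv_mem F.gen_mem.2.1⟩
    obtain ⟨hi', ei⟩ := hlt i ((show ∀ i ∈ [0, 52, 104], i ∈ [0, 52, 104, 100, 56] by decide) i hi)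
    obtain ⟨hj', ej⟩ := hlt j ((show ∀ j ∈ [0, 100, 56], j ∈ [0, 52, 104, 100, 56] by decide) j hj)
    rw [F.cent.mul i hi' j hj']
    exact mul_mem ei ej
  have hPK : F.cent.P ≤ K := hPle.trans hEK
  have hcen : ∀ v ∈ K, ∀ p ∈ F.cent.P, Commute v p := by
    intro v hv p hp
    obtain ⟨h1, h2⟩ := F.cent.mem_CP.1 (hKCP hv)
    obtain ⟨w, hw, ew⟩ := hPle hp
    have hzp := (F.cent.P_comm hp).2.2.1
    rw [← ew] at hzp
    have hzw := F.z_act w
    rw [mul_assoc, hzp.eq, ← mul_assoc, hz2, one_mul] at hzw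
    have e1 := F.ev_inj hw (vC_lt _ _ _ _) hzw
    have e2 : v2 w = 0 ∧ v3 w = 0 := (sgn_codes w hw).2.2.2.2.2.2 e1.symm
    rw [← ew, ev, e2.1, e2.2, pow_zero, pow_zero, mul_one, mul_one]
    exact (h1.pow_right _).mul_right (h2.pow_right _)
  obtain ⟨hinv, hab⟩ := inverted_mod K F.cent.P hz2 hKodd (hconj z hz2 hzn) hPE hPK
    (fun p hp => (F.cent.P_comm hp).2.2.1) hcen
  -- an element fixed by `t` or by `z t` is in the group
  have hP : ∀ m : G, Commute m z → Commute m (e 52) → Odd (orderOf m) → ∃ i j : ℕ, m = e 52 ^ i * e 100 ^ j := by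
    intro m h1 h2 h3
    obtain ⟨n, hn, en⟩ := F.cent.odd_cd h1 h2 h3
    obtain ⟨w, hw, ew⟩ := hPle ⟨n, hn, en⟩
    have hzw := F.z_act w
    rw [← ew] at h1
    rw [mul_assoc, h1.eq, ← mul_assoc, hz2, one_mul] at hzw
    have e1 := F.ev_inj hw (vC_lt _ _ _ _) hzw
    have e2 : v2 w = 0 ∧ v3 w = 0 := (sgn_codes w hw).2.2.2.2.2.2 e1.symm
    exact ⟨v0 w, v1 w, by rw [← ew, ev, e2.1, e2.2, pow_zero, pow_zero, mul_one, mul_one]⟩
  have hrinv : r⁻¹ * e 52 * r = e 52 := by rw [mul_assoc, ← F.rd.eq, inv_mul_cancel_left]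
  have hdown : ∀ (m s : G), Commute m s → Commute (r⁻¹ * m * r) (r⁻¹ * s * r) := fun m s h => by
    have h' := (Commute.conj_iff r⁻¹).2 h
    rwa [inv_inv] at h'
  have hord : ∀ m : G, orderOf (r⁻¹ * m * r) = orderOf m := fun m => by
    rw [show r⁻¹ * m * r = MulAut.conj r⁻¹ m by simp, (MulAut.conj r⁻¹).orderOf_eq]
  have hup : ∀ i : ℕ, r * e 52 ^ i * r⁻¹ = e 52 ^ i := fun i => by
    rw [(F.rd.pow_right i).eq, mul_inv_cancel_right]
  have htfix : ∀ m ∈ K, Commute m (e 576) → m ∈ F.E := by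
    intro m hm hmt
    have h1 := hdown m _ hmt
    rw [show r⁻¹ * e 576 * r = z by rw [← F.r1]; group] at h1
    have h2 := hdown m _ (F.cent.mem_CP.1 (hKCP hm)).1
    rw [hrinv] at h2
    obtain ⟨i, j, hij⟩ := hP _ h1 h2 (by rw [hord]; exact hodd m hm)
    rw [show m = r * (r⁻¹ * m * r) * r⁻¹ by group, hij,
      show r * (e 52 ^ i * e 100 ^ j) * r⁻¹ = r * e 52 ^ i * r⁻¹ * (r * e 100 * r⁻¹) ^ j by rw [conj_pow]; group, hup]
    exact mul_mem (pow_mem F.gen_mem.1 _) (pow_mem F.gen_mem.2.2.1 _)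
  have hztfix : ∀ m ∈ K, Commute m (e 720) → m ∈ F.E := by
    intro m hm hmt
    have h1 := hdown m _ hmt
    rw [show r⁻¹ * e 720 * r = e 576 by rw [← F.r2]; group] at h1
    have h2 := hdown m _ (F.cent.mem_CP.1 (hKCP hm)).1
    rw [hrinv] at h2
    have h1' := hdown _ _ h1
    rw [show r⁻¹ * e 576 * r = z by rw [← F.r1]; group] at h1'
    have h2' := hdown _ _ h2
    rw [hrinv] at h2'
    obtain ⟨i, j, hij⟩ := hP _ h1' h2' (by rw [hord, hord]; exact hodd m hm)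
    rw [show m = r * (r * (r⁻¹ * (r⁻¹ * m * r) * r) * r⁻¹) * r⁻¹ by group, hij,
      show r * (r * (e 52 ^ i * e 100 ^ j) * r⁻¹) * r⁻¹ =
        r * (r * e 52 ^ i * r⁻¹) * r⁻¹ * (r * (r * e 100 * r⁻¹) * r⁻¹) ^ j by rw [conj_pow, conj_pow]; group, hup, hup]
    exact mul_mem (pow_mem F.gen_mem.1 _) (pow_mem F.gen_mem.2.2.2 _)
  -- a product `v · s v s` is in the group
  have hhalf : ∀ s : G, s * s = 1 → (∀ x ∈ F.cent.CP, s * x * s ∈ F.cent.CP) → (∀ x ∈ F.E, s * x * s ∈ F.E) →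
      (∀ m ∈ K, Commute m s → m ∈ F.E) → ∀ v ∈ K, v * (s * v * s) ∈ F.E := by
    intro s hs hCP hsE hfix v hv
    have hw := hconj s hs hCP v hv
    set w := s * v * s with hwdef
    set q := (v * w)⁻¹ * (w * v) with hq
    have hqE : q ∈ F.E := hPle (by
      have := hab w⁻¹ (K.inv_mem hw) v⁻¹ (K.inv_mem hv)
      rw [hq]; simpa [mul_assoc] using this)
    have hqs : s * (v * w) * s = v * w * q := by
      rw [hq, hwdef, show s * (v * (s * v * s)) * s = s * v * s * v * (s * s) by group, hs, mul_one]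
      group
    have hss : ∀ x y : G, s * (x * y) * s = s * x * s * (s * y * s) := fun x y => by
      rw [show s * x * s * (s * y * s) = s * x * (s * s) * y * s by group, hs]; group
    have hsq : s * q * s = q⁻¹ := by
      have h1 : v * w = v * w * q * (s * q * s) := by
        rw [← hqs, ← hss, ← hqs, show s * (s * (v * w) * s) * s = (s * s) * (v * w) * (s * s) by group, hs, one_mul,
          mul_one]
      rw [mul_assoc (v * w)] at h1
      exact eq_inv_of_mul_eq_one_right (left_eq_mul.1 h1)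
    have hq2 : q * q = q⁻¹ := by
      obtain ⟨u, -, eu⟩ := hqE
      exact inv_of_three (eu ▸ F.ev_three u)
    have hfixed : Commute (v * w * q⁻¹) s := by
      have : s * (v * w * q⁻¹) * s = v * w * q⁻¹ := by
        have hsqi : s * q⁻¹ * s = q := by
          rw [← inv_inj, show (s * q⁻¹ * s)⁻¹ = s⁻¹ * q * s⁻¹ by group, inv_eq_of_mul_eq_one_right hs, hsq]
        rw [hss, hqs, hsqi, mul_assoc (v * w), hq2]
      show v * w * q⁻¹ * s = s * (v * w * q⁻¹)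
      calc v * w * q⁻¹ * s = s * (v * w * q⁻¹) * s * s := by rw [this]
        _ = s * (v * w * q⁻¹) * (s * s) := by group
        _ = _ := by rw [hs, mul_one]
    have := mul_mem (hfix _ (mul_mem (mul_mem hv hw) (K.inv_mem (hEK hqE))) hfixed) hqE
    rwa [inv_mul_cancel_right] at this
  have htE : ∀ x ∈ F.E, e 576 * x * e 576 ∈ F.E := by
    rintro x ⟨u, -, rfl⟩
    exact ⟨_, vC_lt _ _ _ _, (F.t_act u).symm⟩
  have hzE : ∀ x ∈ F.E, z * x * z ∈ F.E := by
    rintro x ⟨u, -, rfl⟩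
    exact ⟨_, vC_lt _ _ _ _, (F.z_act u).symm⟩
  have hzt' : ∀ x : G, e 720 * x * e 720 = z * (e 576 * x * e 576) * z := fun x => by
    conv_lhs => rw [← F.zt]
    nth_rw 2 [(show Commute z (e 576) from (F.cent.e_z (by norm_num)).symm).eq]
    group
  have hzt2 : e 720 * e 720 = 1 := by
    rw [← F.cent.mul 720 (by norm_num) 720 (by norm_num), show mL 720 720 = 0 by decide +kernel, F.cent.e0]
  have hmain : ∀ v ∈ K, v ∈ F.E := by
    intro v hv
    have hA := hhalf (e 576) F.t_sq htn htE htfix v hv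
    have hB := hhalf (e 720) hzt2 (fun x hx => hzt' x ▸ hzn _ (htn x hx)) (fun x hx => hzt' x ▸ hzE _ (htE x hx))
      hztfix v hv
    have hw := hconj (e 576) F.t_sq htn v hv
    rw [hzt'] at hB
    set w := e 576 * v * e 576
    -- `z w z` is the inverse of `w` modulo `⟨d, a⟩`
    have hB' : v * w⁻¹ ∈ F.E := by
      have h1 := mul_mem (F.E.inv_mem (hPle (hinv w hw))) hB
      have hq : v * (z * w * z) = z * w * z * w * (v * w⁻¹) := by
        rw [← mul_assoc (z * w * z * w), ← (hcen v hv _ (hinv w hw)).eq]; group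
      rwa [hq, inv_mul_cancel_left] at h1
    have hA' : w * v ∈ F.E := by
      have h1 := mul_mem (hPle (hab w hw v hv)) hA
      rwa [show w * v * w⁻¹ * v⁻¹ * (v * w) = w * v by group] at h1
    have h2 := mul_mem hB' hA'
    rw [show v * w⁻¹ * (w * v) = v ^ 2 by rw [pow_two]; group] at h2
    obtain ⟨k, hk⟩ := hodd v hv
    have hpow : v = (v ^ 2) ^ (k + 1) := by
      rw [← pow_mul, show 2 * (k + 1) = (2 * k + 1) + 1 by ring, pow_succ, ← hk, pow_orderOf_eq_one, one_mul]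
    rw [hpow]
    exact pow_mem h2 _
  exact ⟨fun g hg => (hKcov g hg).imp (hmain g) (hmain _), fun g hg ho => hmain g (hKodd' g hg ho)⟩

/-- The group is its own centralizer. -/
theorem self_cent [Finite G] {g : G} (hg : ∀ v < 81, Commute g (ev e r v)) : g ∈ F.E := by
  obtain ⟨h1, h2, h3, h4⟩ := F.ev_basis
  have hCP : g ∈ F.cent.CP := F.cent.mem_CP.2 ⟨h1 ▸ hg 1 (by norm_num), h2 ▸ hg 3 (by norm_num)⟩
  rcases (F.cp_spec).1 g hCP with h | h
  · exact h
  · exfalso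
    have hb : Commute (g * z) (r * e 100 * r⁻¹) := F.E_comm h F.gen_mem.2.2.1
    have hgb : Commute g (r * e 100 * r⁻¹) := h3 ▸ hg 9 (by norm_num)
    have hzb : Commute z (r * e 100 * r⁻¹) := by
      have := hgb.inv_left.mul_left hb
      rwa [inv_mul_cancel_left] at this
    have h5 := F.b_z
    rw [hzb.eq, mul_assoc, F.cent.z_mul_z, mul_one, eq_inv_iff_mul_eq_one] at h5
    have h6 := eq_one_of_pow_three h5 F.b3
    rw [mul_inv_eq_one, mul_eq_left] at h6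
    exact absurd (F.cent.inj 100 (by norm_num) 0 (by norm_num) (h6.trans F.cent.e0.symm)) (by norm_num)

/-- The group of order 81. -/
theorem E_card : Nat.card ↥F.E = 81 := by
  let f : Fin 81 → ↥F.E := fun v => ⟨ev e r v.1, v.1, v.2, rfl⟩
  have hb : Function.Bijective f :=
    ⟨fun u v h => Fin.ext (F.ev_inj u.2 v.2 (congrArg Subtype.val h)),
      fun g => by obtain ⟨v, hv, h⟩ := g.2; exact ⟨⟨v, hv⟩, Subtype.ext h⟩⟩
  rw [← Nat.card_congr (Equiv.ofBijective f hb), Nat.card_eq_fintype_card, Fintype.card_fin]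

end Frm

end Cfsg.Agent.Spor.UFourType
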