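import Cfsg.Agent.Lib.Spor.UFourType.Points

/-!
The geometry of 112 points: the orbit of the base point under the subgroup generated by the normalizer and the element
moving it along a line, with the adjacency of the table.
-/

set_option autoImplicit false
set_option maxRecDepth 100000
set_option synthInstance.maxSize 1024

namespace Cfsg.Agent.Spor.UFourType

variable {G : Type*} [Group G] {z : G} {e : ℕ → G} {r r' : G}

/-- The points on the lines through the base point. -/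
def ptN (M : Subgroup G) (e : ℕ → G) (r : G) (kk : ℕ → G) (i c : ℕ) : G ⧸ M :=
  ev e r (wL i c) • kk i • cs M (e 12)

/-- The opposite points. -/
def ptD (M : Subgroup G) (e : ℕ → G) (r : G) (v : ℕ) : G ⧸ M := ev e r v • cs M (e 13)

/-- The points. -/
def pt (M : Subgroup G) (e : ℕ → G) (r : G) (kk : ℕ → G) (n : Fin 112) : G ⧸ M :=
  if n.1 = 0 then cs M 1 else if n.1 < 31 then ptN M e r kk ((n.1 - 1) / 3) ((n.1 - 1) % 3) else ptD M e r (n.1 - 31)

theorem Adj.smul {M : Subgroup G} {f : G} {P Q : G ⧸ M} (h : Adj M f P Q) (g : G) : Adj M f (g • P) (g • Q) := by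
  obtain ⟨x, h1, h2⟩ := h
  exact ⟨g * x, by rw [mul_smul, h1], by rw [mul_smul, h2]⟩

/-- Representatives in the stabilizer for the ten lines. -/
structure Reps [Finite G] {W : Two z e r r'} {R : Subgroup G} (L : Line W R) (kk : ℕ → G) : Prop where
  mem : ∀ i < 10, kk i ∈ L.K
  act : ∀ i < 10, Act e r (kk i) (lineA.getD i 0)

theorem Line.exists_reps [Finite G] {W : Two z e r r'} {R : Subgroup G} (L : Line W R) : ∃ kk, Reps L kk := by
  have h : ∀ i, ∃ k, i < 10 → k ∈ L.K ∧ Act e r k (lineA.getD i 0) := fun i => by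
    by_cases hi : i < 10
    · obtain ⟨k, hk, kA⟩ := L.K_real _ (lineA_spec i hi).1
      exact ⟨k, fun _ => ⟨hk, kA⟩⟩
    · exact ⟨1, fun h => absurd h hi⟩
  choose kk hkk using h
  exact ⟨kk, fun i hi => (hkk i hi).1, fun i hi => (hkk i hi).2⟩

namespace Reps

variable [Finite G] {W : Two z e r r'} {R : Subgroup G} {L : Line W R} {kk : ℕ → G} (H : Reps L kk)
include H

theorem zero : kk 0 = 1 :=
  L.K_inj (H.mem 0 (by norm_num)) (one_mem _) (H.act 0 (by norm_num))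
    (by rw [(lineA_spec 0 (by norm_num)).2.2.2.1 rfl]; exact W.fst.act_one)

theorem kk_M {i : ℕ} (hi : i < 10) : kk i ∈ W.M := (L.mem_K.1 (H.mem i hi)).1

theorem pull {i : ℕ} (hi : i < 10) {u : ℕ} (hu : u < 81) : ∃ v < 81, ap (lineA.getD i 0) v = u ∧
    ev e r u * kk i = kk i * ev e r v := by
  obtain ⟨B, -, hB⟩ := W.M.inv_mem (H.kk_M hi)
  refine ⟨ap B u, ap_lt _ _, ?_, ?_⟩
  · refine W.fst.ev_inj (ap_lt _ _) hu ?_
    rw [← (H.act i hi).2 _ (ap_lt _ _), ← hB.2 u hu]; group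
  · rw [← hB.2 u hu]; group

theorem perp_fix {i : ℕ} (hi : i < 10) {u : ℕ} (hu : u < 81) (h : qB (lC i) u = 0) :
    ev e r u • kk i • cs W.M (e 12) = kk i • cs W.M (e 12) := by
  obtain ⟨v, hv, e1, e2⟩ := H.pull hi hu
  have h4 : qB 4 v = 0 := by
    have := lineA_perp i hi v hv
    rw [e1, h] at this
    exact Nat.eq_of_beq_eq_true this.symm
  rw [← mul_smul, e2, mul_smul, L.R_fix (L.perp_R hv h4)]

theorem trans {i : ℕ} (hi : i < 10) {u : ℕ} (hu : u < 81) :
    ev e r u • kk i • cs W.M (e 12) = ptN W.M e r kk i (qB (lC i) u) := by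
  have hc : qB (lC i) u < 3 := Nat.mod_lt _ (by norm_num)
  obtain ⟨hw, ew⟩ := wL_spec i hi _ hc
  set w := wL i (qB (lC i) u) with hwdef
  have hd := List.all_eq_true.1 (List.all_eq_true.1 (List.all_eq_true.1 qB_diff i (List.mem_range.2 hi)) u
    (List.mem_range.2 hu)) w (List.mem_range.2 hw)
  have h0 : qB (lC i) (vA u (vS 2 w)) = 0 := by rw [Nat.eq_of_beq_eq_true hd, ew]; omega
  have h1 := H.perp_fix hi (vA_lt _ _) h0
  rw [ptN, ← hwdef]
  conv_lhs => rw [show ev e r u = ev e r w * ev e r (vA u (vS 2 w)) by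
    rw [W.fst.ev_add, ← W.fst.ev_inv, (W.fst.E_comm (show ev e r u ∈ W.fst.E from ⟨u, hu, rfl⟩)
      (W.fst.E.inv_mem (show ev e r w ∈ W.fst.E from ⟨w, hw, rfl⟩))).eq]; group]
  rw [mul_smul, h1]

theorem perp_conv {i : ℕ} (hi : i < 10) {u : ℕ} (hu : u < 81)
    (h : ev e r u • kk i • cs W.M (e 12) = kk i • cs W.M (e 12)) : qB (lC i) u = 0 := by
  obtain ⟨v, hv, e1, e2⟩ := H.pull hi hu
  rw [← mul_smul, e2, mul_smul] at h
  have h' := MulAction.injective (kk i) h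
  obtain ⟨h0, -⟩ := four_coset v hv
  have hfix := L.R_fix (L.perp_R (vA_lt _ _) h0)
  have hsplit : ev e r (vA v (vS 2 (vS (qB 4 v) 3))) = (ev e r 3 ^ qB 4 v)⁻¹ * ev e r v := by
    rw [W.fst.ev_add, ← W.fst.ev_inv, W.fst.ev_mul]
    exact (W.fst.E_comm (show ev e r v ∈ W.fst.E from ⟨v, hv, rfl⟩)
      (W.fst.E.inv_mem (pow_mem (show ev e r 3 ∈ W.fst.E from ⟨3, by norm_num, rfl⟩) _))).eq
  rw [hsplit, mul_smul, h', inv_smul_eq_iff, eq_comm, W.fst.ev_basis.2.1] at hfix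
  have hc : qB 4 v = 0 := by
    by_contra hne
    have hc3 : qB 4 v = 1 ∨ qB 4 v = 2 := by
      have : qB 4 v < 3 := Nat.mod_lt _ (by norm_num)
      omega
    have C := W.fst.cent
    rcases hc3 with h2 | h2 <;> rw [h2] at hfix
    · rw [pow_one, cs_smul, ← C.mul 100 (by norm_num) 12 (by norm_num), eq_comm,
        L.num_eq (by norm_num) (mL_lt _ _)] at hfix
      exact absurd hfix (by decide +kernel)
    · rw [pow_two, inv_of_three W.fst.a3, ← C.e56, cs_smul, ← C.mul 56 (by norm_num) 12 (by norm_num), eq_comm,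
        L.num_eq (by norm_num) (mL_lt _ _)] at hfix
      exact absurd hfix (by decide +kernel)
  have := lineA_perp i hi v hv
  rw [e1, hc] at this
  exact Nat.eq_of_beq_eq_true this

theorem conj_line {i : ℕ} (hi : i < 10) :
    kk i * e 8 * (kk i)⁻¹ = ev e r (lC i) ∨ kk i * e 8 * (kk i)⁻¹ = (ev e r (lC i))⁻¹ := by
  rw [← W.ev_four, (H.act i hi).2 4 (by norm_num)]
  rcases (lineA_spec i hi).2.2.1 with h | h
  · left; rw [h]
  · right; rw [h, W.fst.ev_inv]

/-- A member of the stabilizer carries the first line to one of the ten. -/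
theorem K_pt {k : G} (hk : k ∈ L.K) : ∃ i < 10, k • cs W.M (e 12) = kk i • cs W.M (e 12) ∧
    (k * e 8 * k⁻¹ = ev e r (lC i) ∨ k * e 8 * k⁻¹ = (ev e r (lC i))⁻¹) := by
  obtain ⟨A, hA, kA⟩ := (L.mem_K.1 hk).1
  obtain ⟨i, hi, hl⟩ : ∃ i < 10, ap A 4 = lC i ∨ ap A 4 = vS 2 (lC i) := by
    rcases xT_line.1 A hA with h | h
    · obtain ⟨i, hi, hl⟩ := List.mem_iff_getElem.1 h
      exact ⟨i, hi, Or.inl (by rw [lC, List.getD_eq_getElem _ _ hi, hl])⟩
    · obtain ⟨i, hi, hl⟩ := List.mem_iff_getElem.1 h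
      refine ⟨i, hi, Or.inr ?_⟩
      rw [lC, List.getD_eq_getElem _ _ hi, hl]
      exact ((show ∀ x < 81, vS 2 (vS 2 x) = x by decide +kernel) _ (ap_lt A 4)).symm
  have hk8 : k * e 8 * k⁻¹ = ev e r (lC i) ∨ k * e 8 * k⁻¹ = (ev e r (lC i))⁻¹ := by
    rw [← W.ev_four, kA.2 4 (by norm_num), W.fst.ev_inv]
    exact hl.imp (congrArg _) (congrArg _)
  refine ⟨i, hi, ?_, hk8⟩
  have hd := L.K_line (mul_mem (L.K.inv_mem (H.mem i hi)) hk) (by
    have hgoal : (kk i)⁻¹ * k * e 8 * ((kk i)⁻¹ * k)⁻¹ = (kk i)⁻¹ * (k * e 8 * k⁻¹) * kk i := by group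
    rw [hgoal]
    rcases hk8 with h | h <;> rcases H.conj_line hi with h' | h' <;> rw [h]
    · left; rw [← h']; group
    · right; rw [← inv_inv (ev e r (lC i)), ← h']; group
    · right; rw [← h']; group
    · left; rw [← h']; group)
  conv_lhs => rw [show k = kk i * ((kk i)⁻¹ * k) by group]
  rw [mul_smul, hd]

/-- The images of the point of the first line under the normalizer. -/
theorem M_pt {m : G} (hm : m ∈ W.M) : ∃ i < 10, ∃ c < 3, m • cs W.M (e 12) = ptN W.M e r kk i c := by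
  obtain ⟨u, hu, k, hk, rfl⟩ := (L.M_split hm).1
  obtain ⟨i, hi, e1, -⟩ := H.K_pt hk
  exact ⟨i, hi, qB (lC i) u, Nat.mod_lt _ (by norm_num), by rw [mul_smul, e1, H.trans hi hu]⟩

theorem ptN_def (i c : ℕ) : ptN W.M e r kk i c = (ev e r (wL i c) * kk i) • cs W.M (e 12) :=
  (mul_smul _ _ _).symm

theorem ptN_M {i c : ℕ} (hi : i < 10) (hc : c < 3) : ev e r (wL i c) * kk i ∈ W.M :=
  mul_mem (W.E_le ⟨_, (wL_spec i hi c hc).1, rfl⟩) (H.kk_M hi)

theorem smul_D {m : G} (hm : m ∈ W.M) {v : ℕ} (hv : v < 81) : ∃ u < 81, m • ptD W.M e r v = ptD W.M e r u := by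
  obtain ⟨u, hu, k, hk, e1⟩ := (L.M_split (mul_mem hm (W.E_le ⟨v, hv, rfl⟩))).1
  refine ⟨u, hu, ?_⟩
  rw [ptD, ← mul_smul, e1, mul_smul, (L.mem_K.1 hk).2]
  rfl

theorem f_base : e 12 • cs W.M 1 = cs W.M (e 12) ∧ e 12 • cs W.M (e 12) = cs W.M 1 := by
  refine ⟨by rw [cs_smul, mul_one], ?_⟩
  rw [cs_smul, ← W.fst.cent.mul 12 (by norm_num) 12 (by norm_num), pt_nums.1, W.fst.cent.z_eq]
  exact (cs_eq.2 (by rw [inv_one, one_mul]; exact W.z_mem)).symm

theorem adj_symm {P Q : G ⧸ W.M} (h : Adj W.M (e 12) P Q) : Adj W.M (e 12) Q P := by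
  obtain ⟨g, h1, h2⟩ := h
  exact ⟨g * e 12, by rw [mul_smul, H.f_base.1, h2], by rw [mul_smul, H.f_base.2, h1]⟩

/-- The neighbours of the base point. -/
theorem adj_base {y : G ⧸ W.M} :
    Adj W.M (e 12) (cs W.M 1) y ↔ ∃ i < 10, ∃ c < 3, y = ptN W.M e r kk i c := by
  constructor
  · rintro ⟨g, h1, rfl⟩
    exact H.M_pt (L.fix_base.1 h1)
  · rintro ⟨i, hi, c, hc, rfl⟩
    exact ⟨_, L.fix_base.2 (H.ptN_M hi hc), (H.ptN_def i c).symm⟩

theorem pow_a {c : ℕ} (hc : c < 3) : ev e r (vS c 3) = e ([0, 100, 56].getD c 0) ∧ vS c 3 < 81 ∧ qB (lC 0) (vS c 3) = c := by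
  refine ⟨?_, vS_lt _ _, (show ∀ c < 3, qB (lC 0) (vS c 3) = c by decide +kernel) c hc⟩
  rw [W.fst.ev_mul, W.fst.ev_basis.2.1]
  interval_cases c
  · rw [pow_zero]; exact W.fst.cent.e0.symm
  · rw [pow_one]; rfl
  · rw [pow_two, inv_of_three W.fst.a3, ← W.fst.cent.e56]; rfl

theorem ptN_zero {c : ℕ} (hc : c < 3) : ptN W.M e r kk 0 c = cs W.M (e (mL ([0, 100, 56].getD c 0) 12)) := by
  obtain ⟨h1, h2, h3⟩ := H.pow_a hc
  rw [← h3, ← H.trans (by norm_num) h2, h3, H.zero, one_smul, cs_smul, h1, W.fst.cent.mul _ (by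
    interval_cases c <;> decide) 12 (by norm_num)]

theorem num_pt {p n : ℕ} (hp : p < 1152) (hn : n < 1152) (hP : npP n = true) :
    cs W.M (e (mL p n)) = cs W.M (e p) := by
  rw [W.fst.cent.mul p hp n hn]; exact cs_mem (W.np_mem hn hP)

theorem num_D {p : ℕ} (hp : p ∈ pL) : ∃ v < 81, cs W.M (e (mL p 13)) = ptD W.M e r v := by
  obtain ⟨v, hv, ev'⟩ := W.p_mem hp
  exact ⟨v, hv, by rw [ptD, ev', W.fst.cent.mul p (p_nums.1 p hp).1 13 (by norm_num), cs_smul]⟩

/-- The neighbours of the point of the first line. -/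
theorem adj_first {y : G ⧸ W.M} (h : Adj W.M (e 12) (cs W.M (e 12)) y) :
    y = cs W.M 1 ∨ (∃ c < 3, c ≠ 0 ∧ y = ptN W.M e r kk 0 c) ∨ ∃ v < 81, y = ptD W.M e r v := by
  obtain ⟨g, h1, rfl⟩ := h
  have C := W.fst.cent
  have hm : (e 12)⁻¹ * g ∈ W.M := L.fix_base.1 (by rw [mul_smul, h1, inv_smul_eq_iff, H.f_base.1])
  set m := (e 12)⁻¹ * g with hmdef
  rw [show g = e 12 * m by rw [hmdef, mul_inv_cancel_left], mul_smul]
  obtain ⟨i, hi, c, hc, e1⟩ := H.M_pt hm
  by_cases hi0 : i = 0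
  · subst hi0
    rw [e1, H.ptN_zero hc, cs_smul, ← C.mul 12 (by norm_num) _ (mL_lt _ _)]
    have hassoc : ∀ c < 3, mL 12 (mL ([0, 100, 56].getD c 0) 12) = mL (mL 12 ([0, 100, 56].getD c 0)) 12 := by
      decide +kernel
    rw [hassoc c hc]
    by_cases hc0 : c = 0
    · subst hc0
      left
      show cs W.M (e (mL (mL 12 0) 12)) = _
      rw [show mL (mL 12 0) 12 = 144 by decide +kernel, C.z_eq]
      exact (cs_eq.2 (by rw [inv_one, one_mul]; exact W.z_mem)).symm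
    · right; left
      have hd0 : ([0, 100, 56] : List ℕ).getD c 0 ∈ [100, 56] :=
        (show ∀ c < 3, c ≠ 0 → ([0, 100, 56] : List ℕ).getD c 0 ∈ [100, 56] by decide) c hc hc0
      obtain ⟨d, hd, n, hn, hP, en⟩ := walk.1 _ hd0
      refine ⟨if d = 100 then 1 else 2, by split <;> norm_num, by split <;> norm_num, ?_⟩
      rw [H.ptN_zero (by split <;> norm_num), en, H.num_pt (mL_lt _ _) hn hP,
        (show ∀ d ∈ [100, 56], ([0, 100, 56] : List ℕ).getD (if d = 100 then 1 else 2) 0 = d by decide) d hd]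
  · right; right
    obtain ⟨w, hw, hwT⟩ := (lineA_spec i hi).2.2.2.2 hi0
    obtain ⟨τ, hτ, τA⟩ := L.onto w hw
    have hτt : Act e r (τ * e 576) (lineA.getD i 0) := hwT ▸ W.fst.act_mul τA W.fst.act_t
    have hτM : τ * e 576 ∈ W.M := mul_mem (L.le hτ) W.t_mem
    obtain ⟨B, -, hB⟩ := W.M.inv_mem hτM
    have k1 := W.fst.act_mul hB hτt
    rw [inv_mul_cancel] at k1
    have k2 := W.fst.act_mul hB (H.act i hi)
    rw [W.fst.act_inj k1 W.fst.act_one] at k2
    obtain ⟨x, hx, ex⟩ := W.fst.mem_of_act k2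
    set w' := wL i c
    have hw' : w' < 81 := (wL_spec i hi c hc).1
    have hu : (τ * e 576)⁻¹ * ev e r w' * (τ * e 576) = ev e r (ap B w') := by rw [← hB.2 _ hw']; group
    have e2 : m • cs W.M (e 12) = (τ * e 576) • ev e r (vA (ap B w') x) • cs W.M (e 12) := by
      rw [e1, H.ptN_def, ← mul_smul, W.fst.ev_add, ← hu, ex]
      congr 1
      show ev e r w' * kk i = _
      group
    rw [e2]
    set u := vA (ap B w') x with hudef
    have hu' : u < 81 := vA_lt _ _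
    have e3 : ev e r u • cs W.M (e 12) = cs W.M (e (mL ([0, 100, 56].getD (qB (lC 0) u) 0) 12)) := by
      rw [← H.ptN_zero (c := qB (lC 0) u) (Nat.mod_lt _ (by norm_num)), ← H.trans (by norm_num) hu', H.zero, one_smul]
    rw [e3]
    set d := ([0, 100, 56] : List ℕ).getD (qB (lC 0) u) 0 with hddef
    have hd : d ∈ [0, 100, 56] := (show ∀ c < 3, ([0, 100, 56] : List ℕ).getD c 0 ∈ [0, 100, 56] by decide) _
      (Nat.mod_lt _ (by norm_num))
    have hd' : d < 1152 := (show ∀ d ∈ [0, 100, 56], d < 1152 by decide) d hd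
    obtain ⟨p, hp, n, hn, hP, en⟩ := walk.2.1 d hd
    obtain ⟨v, hv, evD⟩ := H.num_D hp
    have hτ' : e 12 * τ * (e 12)⁻¹ ∈ W.M := L.le (L.conj _ L.f_comm τ hτ)
    obtain ⟨v', hv', ev'⟩ := H.smul_D hτ' hv
    refine ⟨v', hv', ?_⟩
    rw [← ev', ← evD, ← H.num_pt (mL_lt p 13) hn hP, ← en, C.mul _ (mL_lt _ _) 12 (by norm_num),
      C.mul _ (mL_lt _ _) d hd', C.mul 12 (by norm_num) 576 (by norm_num), C.mul d hd' 12 (by norm_num)]
    simp only [cs_smul]
    congr 1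
    group

/-- Points on one line are collinear. -/
theorem adj_step {d : ℕ} (hd : d ∈ [100, 56]) : Adj W.M (e 12) (cs W.M (e 12)) (cs W.M (e (mL d 12))) := by
  obtain ⟨c, hc, n, hn, hP, en⟩ := walk.2.2.2.2.2.2 d hd
  have hd' : d < 1152 ∧ c < 1152 := ⟨(show ∀ d ∈ [100, 56], d < 1152 by decide) d hd,
    (show ∀ d ∈ [100, 56], d < 1152 by decide) c hc⟩
  have hcM : e c ∈ W.M := W.np_mem hd'.2 ((show ∀ d ∈ [100, 56], npP d = true by decide +kernel) c hc)
  refine ⟨e 12 * e c, ?_, ?_⟩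
  · rw [mul_smul, L.fix_base.2 hcM, H.f_base.1]
  · rw [cs_smul, ← H.num_pt (mL_lt d 12) hn hP, ← en, W.fst.cent.mul _ (mL_lt _ _) 12 (by norm_num),
      W.fst.cent.mul 12 (by norm_num) c hd'.2]

theorem adj_opp : Adj W.M (e 12) (cs W.M (e 12)) (cs W.M (e 13)) := by
  obtain ⟨n, hn, hP, en⟩ := walk.2.2.2.2.1
  refine ⟨e 12 * e 576, ?_, ?_⟩
  · rw [mul_smul, L.fix_base.2 W.t_mem, H.f_base.1]
  · rw [cs_smul, ← H.num_pt (show (13 : ℕ) < 1152 by norm_num) hn hP, ← en, W.fst.cent.mul _ (mL_lt _ _) 12 (by norm_num),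
      W.fst.cent.mul 12 (by norm_num) 576 (by norm_num)]

/-- The neighbours of the opposite point. -/
theorem adj_p {y : G ⧸ W.M} : Adj W.M (e 12) (cs W.M (e 13)) y ↔
    (∃ i < 10, y = kk i • cs W.M (e 12)) ∨
      ∃ i < 10, y = ptD W.M e r (lC i) ∨ y = ptD W.M e r (vS 2 (lC i)) := by
  have C := W.fst.cent
  have hlift : ∀ {k : G}, k ∈ L.K → ∀ p ∈ [48, 96], ∃ i < 10,
      k • e p • cs W.M (e 13) = ptD W.M e r (lC i) ∨ k • e p • cs W.M (e 13) = ptD W.M e r (vS 2 (lC i)) := by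
    intro k hk p hp
    have htK : e 576 ∈ L.K := L.d8_K (by decide)
    have hk3 := mul_mem hk htK
    obtain ⟨i, hi, -, hl⟩ := H.K_pt hk3
    have hp8 : e 576 * e p * e 576 = e 8 ∨ e 576 * e p * e 576 = (e 8)⁻¹ := by
      have key : cjL 576 48 = 8 ∨ cjL 576 48 = 4 := by decide +kernel
      have key' : cjL 576 96 = 8 ∨ cjL 576 96 = 4 := by decide +kernel
      have h4 : e 4 = (e 8)⁻¹ := by rw [← C.e_inv (by norm_num)]; congr 1
      have hgen : ∀ p < 1152, cjL 576 p = 8 ∨ cjL 576 p = 4 →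
          e 576 * e p * e 576 = e 8 ∨ e 576 * e p * e 576 = (e 8)⁻¹ := by
        intro p hp h
        have e1 := C.e_cj (show (576 : ℕ) < 1152 by norm_num) hp
        rw [W.fst.t_inv] at e1
        rcases h with h | h <;> rw [h] at e1
        exacts [Or.inl e1.symm, Or.inr (h4 ▸ e1.symm)]
      simp only [List.mem_cons, List.not_mem_nil, or_false] at hp
      rcases hp with rfl | rfl
      exacts [hgen 48 (by norm_num) key, hgen 96 (by norm_num) key']
    refine ⟨i, hi, ?_⟩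
    have e1 : k • e p • cs W.M (e 13) = (k * e 576 * (e 576 * e p * e 576) * (k * e 576)⁻¹) • cs W.M (e 13) := by
      conv_rhs => rw [show (k * e 576)⁻¹ = (e 576)⁻¹ * k⁻¹ from mul_inv_rev _ _, W.fst.t_inv]
      rw [show k * e 576 * (e 576 * e p * e 576) * (e 576 * k⁻¹) = k * (e 576 * e 576) * e p * (e 576 * e 576) * k⁻¹ by
        group, W.fst.t_sq, mul_one, mul_one, ← mul_smul, mul_smul (k * e p) k⁻¹,
        inv_smul_eq_iff.2 (L.mem_K.1 hk).2.symm]
    rw [e1, ptD, ptD, ← W.fst.ev_inv]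
    rcases hp8 with h | h <;> rw [h]
    · exact hl.imp (fun h => by rw [h]) (fun h => by rw [h])
    · rw [show k * e 576 * (e 8)⁻¹ * (k * e 576)⁻¹ = (k * e 576 * e 8 * (k * e 576)⁻¹)⁻¹ by group]
      rcases hl with h | h
      · right; rw [h]
      · left; rw [h, inv_inv]
  constructor
  · rintro ⟨g, h1, rfl⟩
    have hm : e 13 * g ∈ W.M := by
      refine L.fix_base.1 ?_
      rw [mul_smul, h1, cs_smul, L.q_sq]
    obtain ⟨u, hu, k, hk, ek⟩ := (L.M_split hm).2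
    have hkq := L.K_q hk
    have hg : g = e 13 * k * e 13 * (e 13 * ev e r u) := by
      rw [show e 13 * k * e 13 * (e 13 * ev e r u) = e 13 * k * (e 13 * e 13) * ev e r u by group, L.q_sq, mul_one,
        mul_assoc, ← ek, ← mul_assoc, L.q_sq, one_mul]
    have e3 : ev e r u • cs W.M (e 12) = cs W.M (e (mL ([0, 100, 56].getD (qB (lC 0) u) 0) 12)) := by
      rw [← H.ptN_zero (c := qB (lC 0) u) (Nat.mod_lt _ (by norm_num)), ← H.trans (by norm_num) hu, H.zero, one_smul]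
    rw [hg, mul_smul, mul_smul (e 13), e3]
    have hc : qB (lC 0) u < 3 := Nat.mod_lt _ (by norm_num)
    set c := qB (lC 0) u
    have hassoc : ∀ c < 3, mL 13 (mL ([0, 100, 56].getD c 0) 12) = mL (mL 13 ([0, 100, 56].getD c 0)) 12 := by
      decide +kernel
    rw [cs_smul (M := W.M) (e 13), ← C.mul 13 (by norm_num) _ (mL_lt _ _), hassoc c hc]
    by_cases hc0 : c = 0
    · rw [hc0]
      left
      obtain ⟨n, hn, hP, en⟩ := walk.2.2.1
      show ∃ i < 10, (e 13 * k * e 13) • cs W.M (e (mL (mL 13 0) 12)) = _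
      rw [show mL (mL 13 0) 12 = mL 13 12 by decide +kernel, en, H.num_pt (mL_lt _ _) hn hP,
        C.mul 576 (by norm_num) 12 (by norm_num), ← cs_smul, ← mul_smul]
      obtain ⟨i, hi, e4, -⟩ := H.K_pt (mul_mem hkq (L.d8_K (show 576 ∈ d8L by decide)))
      exact ⟨i, hi, e4⟩
    · right
      have hd0 : ([0, 100, 56] : List ℕ).getD c 0 ∈ [100, 56] :=
        (show ∀ c < 3, c ≠ 0 → ([0, 100, 56] : List ℕ).getD c 0 ∈ [100, 56] by decide) c hc hc0
      obtain ⟨p, hp, n, hn, hP, en⟩ := walk.2.2.2.1 _ hd0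
      have hp' : p < 1152 := (show ∀ p ∈ [48, 96], p < 1152 by decide) p hp
      obtain ⟨i, hi, hcase⟩ := hlift hkq p hp
      refine ⟨i, hi, ?_⟩
      have e5 : cs W.M (e (mL p 13)) = e p • cs W.M (e 13) := by rw [cs_smul, ← C.mul p hp' 13 (by norm_num)]
      rw [← e5, ← H.num_pt (mL_lt p 13) hn hP, ← en] at hcase
      exact hcase
  · intro h
    have hfix : ∀ i < 10, kk i • cs W.M (e 13) = cs W.M (e 13) := fun i hi => (L.mem_K.1 (H.mem i hi)).2
    rcases h with ⟨i, hi, rfl⟩ | ⟨i, hi, h⟩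
    · have := (H.adj_symm H.adj_opp).smul (kk i)
      rwa [hfix i hi] at this
    · have hp : ∀ p ∈ [48, 96], Adj W.M (e 12) (cs W.M (e 13)) (e p • cs W.M (e 13)) := by
        intro p hp
        obtain ⟨c, hc, n, hn, hP, en⟩ := walk.2.2.2.2.2.1 p hp
        have hc' : c < 1152 := (show ∀ d ∈ [100, 56], d < 1152 by decide) c hc
        have hcM : e c ∈ W.M := W.np_mem hc' ((show ∀ d ∈ [100, 56], npP d = true by decide +kernel) c hc)
        refine ⟨e 13 * e c, ?_, ?_⟩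
        · rw [mul_smul, L.fix_base.2 hcM, cs_smul, mul_one]
        · rw [cs_smul, cs_smul, ← C.mul p ((show ∀ p ∈ [48, 96], p < 1152 by decide) p hp) 13 (by norm_num),
            ← H.num_pt (mL_lt p 13) hn hP, ← en, C.mul _ (mL_lt _ _) 12 (by norm_num), C.mul 13 (by norm_num) c hc']
      have hk3 : kk i * e 576 ∈ L.K := mul_mem (H.mem i hi) (L.d8_K (by decide))
      have hp8 : e 576 * e 8 * e 576 = e 48 ∨ e 576 * e 8 * e 576 = e 96 := by
        have key : cjL 576 8 = 48 ∨ cjL 576 8 = 96 := by decide +kernel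
        have e1 := C.e_cj (show (576 : ℕ) < 1152 by norm_num) (show (8 : ℕ) < 1152 by norm_num)
        rw [W.fst.t_inv] at e1
        rcases key with h | h <;> rw [h] at e1
        exacts [Or.inl e1.symm, Or.inr e1.symm]
      have h48 : e 96 = (e 48)⁻¹ := by rw [← C.e_inv (by norm_num)]; congr 1
      have hboth : ∀ x : G, x = e 8 ∨ x = (e 8)⁻¹ →
          Adj W.M (e 12) (cs W.M (e 13)) ((kk i * x * (kk i)⁻¹) • cs W.M (e 13)) := by
        intro x hx
        obtain ⟨p, hp', ep⟩ : ∃ p ∈ [48, 96], e 576 * x * e 576 = e p := by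
          have hinv : e 576 * (e 8)⁻¹ * e 576 = (e 576 * e 8 * e 576)⁻¹ := by
            conv_rhs => rw [mul_inv_rev, mul_inv_rev, W.fst.t_inv]
            group
          rcases hx with rfl | rfl <;> rcases hp8 with h | h
          · exact ⟨48, by simp, h⟩
          · exact ⟨96, by simp, h⟩
          · exact ⟨96, by simp, by rw [hinv, h, h48]⟩
          · exact ⟨48, by simp, by rw [hinv, h, h48, inv_inv]⟩
        have h1 := (hp p hp').smul (kk i * e 576)
        rw [(L.mem_K.1 hk3).2] at h1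
        have e1 : (kk i * x * (kk i)⁻¹) • cs W.M (e 13) = (kk i * e 576) • e p • cs W.M (e 13) := by
          conv_lhs => rw [show kk i * x * (kk i)⁻¹ = kk i * x * (kk i)⁻¹ from rfl, mul_smul,
            inv_smul_eq_iff.2 (hfix i hi).symm]
          rw [← ep, ← mul_smul,
            show kk i * e 576 * (e 576 * x * e 576) = kk i * (e 576 * e 576) * x * e 576 by group, W.fst.t_sq, mul_one,
            mul_smul (kk i * x) (e 576), (L.mem_K.1 (L.d8_K (show 576 ∈ d8L by decide))).2]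
        rwa [e1]
      have hh := H.conj_line hi
      rcases hh with hh | hh <;> rcases h with rfl | rfl <;> rw [ptD]
      · rw [← hh]; exact hboth _ (Or.inl rfl)
      · rw [← W.fst.ev_inv, ← hh, show (kk i * e 8 * (kk i)⁻¹)⁻¹ = kk i * (e 8)⁻¹ * (kk i)⁻¹ by group]
        exact hboth _ (Or.inr rfl)
      · rw [← inv_inv (ev e r (lC i)), ← hh, show (kk i * e 8 * (kk i)⁻¹)⁻¹ = kk i * (e 8)⁻¹ * (kk i)⁻¹ by group]
        exact hboth _ (Or.inr rfl)
      · rw [← W.fst.ev_inv, ← hh]; exact hboth _ (Or.inl rfl)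

end Reps

end Cfsg.Agent.Spor.UFourType
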