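import Mathlib

/-! Tables for `SL₂(3)`: index `p + 4 t + 12 s` is `(-1) ^ s` times the `p`-th of `1, i, j, k` times `X ^ t`. -/

set_option autoImplicit false
set_option maxRecDepth 100000

namespace Cfsg.Agent.Spor.UFourType

/-- The entries of the elements, by rows. -/
def entT : List (List ℕ) :=
  [[1, 0, 0, 1], [0, 2, 1, 0], [1, 1, 1, 2], [2, 1, 1, 1], [1, 1, 0, 1], [0, 2, 1, 1], [1, 2, 1, 0], [2, 0, 1, 2], [1, 2, 0, 1], [0, 2, 1, 2], [1, 0, 1, 1], [2, 2, 1, 0], [2, 0, 0, 2], [0, 1, 2, 0], [2, 2, 2, 1], [1, 2, 2, 2], [2, 2, 0, 2], [0, 1, 2, 2], [2, 1, 2, 0], [1, 0, 2, 1], [2, 1, 0, 2], [0, 1, 2, 1], [2, 0, 2, 2], [1, 1, 2, 0]]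

/-- The product. -/
def mulT : List (List ℕ) :=
  [ [0, 1, 2, 3, 4, 5, 6, 7, 8, 9, 10, 11, 12, 13, 14, 15, 16, 17, 18, 19, 20, 21, 22, 23],
    [1, 12, 3, 14, 5, 16, 7, 18, 9, 20, 11, 22, 13, 0, 15, 2, 17, 4, 19, 6, 21, 8, 23, 10],
    [2, 15, 12, 1, 6, 19, 16, 5, 10, 23, 20, 9, 14, 3, 0, 13, 18, 7, 4, 17, 22, 11, 8, 21],
    [3, 2, 13, 12, 7, 6, 17, 16, 11, 10, 21, 20, 15, 14, 1, 0, 19, 18, 5, 4, 23, 22, 9, 8],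
    [4, 6, 7, 5, 8, 10, 11, 9, 0, 2, 3, 1, 16, 18, 19, 17, 20, 22, 23, 21, 12, 14, 15, 13],
    [5, 7, 18, 16, 9, 11, 22, 20, 1, 3, 14, 12, 17, 19, 6, 4, 21, 23, 10, 8, 13, 15, 2, 0],
    [6, 16, 5, 19, 10, 20, 9, 23, 2, 12, 1, 15, 18, 4, 17, 7, 22, 8, 21, 11, 14, 0, 13, 3],
    [7, 17, 16, 6, 11, 21, 20, 10, 3, 13, 12, 2, 19, 5, 4, 18, 23, 9, 8, 22, 15, 1, 0, 14],
    [8, 11, 9, 10, 0, 3, 1, 2, 4, 7, 5, 6, 20, 23, 21, 22, 12, 15, 13, 14, 16, 19, 17, 18],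
    [9, 22, 20, 11, 1, 14, 12, 3, 5, 18, 16, 7, 21, 10, 8, 23, 13, 2, 0, 15, 17, 6, 4, 19],
    [10, 9, 23, 20, 2, 1, 15, 12, 6, 5, 19, 16, 22, 21, 11, 8, 14, 13, 3, 0, 18, 17, 7, 4],
    [11, 20, 10, 21, 3, 12, 2, 13, 7, 16, 6, 17, 23, 8, 22, 9, 15, 0, 14, 1, 19, 4, 18, 5],
    [12, 13, 14, 15, 16, 17, 18, 19, 20, 21, 22, 23, 0, 1, 2, 3, 4, 5, 6, 7, 8, 9, 10, 11],
    [13, 0, 15, 2, 17, 4, 19, 6, 21, 8, 23, 10, 1, 12, 3, 14, 5, 16, 7, 18, 9, 20, 11, 22],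
    [14, 3, 0, 13, 18, 7, 4, 17, 22, 11, 8, 21, 2, 15, 12, 1, 6, 19, 16, 5, 10, 23, 20, 9],
    [15, 14, 1, 0, 19, 18, 5, 4, 23, 22, 9, 8, 3, 2, 13, 12, 7, 6, 17, 16, 11, 10, 21, 20],
    [16, 18, 19, 17, 20, 22, 23, 21, 12, 14, 15, 13, 4, 6, 7, 5, 8, 10, 11, 9, 0, 2, 3, 1],
    [17, 19, 6, 4, 21, 23, 10, 8, 13, 15, 2, 0, 5, 7, 18, 16, 9, 11, 22, 20, 1, 3, 14, 12],
    [18, 4, 17, 7, 22, 8, 21, 11, 14, 0, 13, 3, 6, 16, 5, 19, 10, 20, 9, 23, 2, 12, 1, 15],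
    [19, 5, 4, 18, 23, 9, 8, 22, 15, 1, 0, 14, 7, 17, 16, 6, 11, 21, 20, 10, 3, 13, 12, 2],
    [20, 23, 21, 22, 12, 15, 13, 14, 16, 19, 17, 18, 8, 11, 9, 10, 0, 3, 1, 2, 4, 7, 5, 6],
    [21, 10, 8, 23, 13, 2, 0, 15, 17, 6, 4, 19, 9, 22, 20, 11, 1, 14, 12, 3, 5, 18, 16, 7],
    [22, 21, 11, 8, 14, 13, 3, 0, 18, 17, 7, 4, 10, 9, 23, 20, 2, 1, 15, 12, 6, 5, 19, 16],
    [23, 8, 22, 9, 15, 0, 14, 1, 19, 4, 18, 5, 11, 20, 10, 21, 3, 12, 2, 13, 7, 16, 6, 17]]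

/-- The inverse. -/
def invT : List ℕ := [0, 13, 14, 15, 8, 23, 21, 22, 4, 18, 19, 17, 12, 1, 2, 3, 20, 11, 9, 10, 16, 6, 7, 5]

/-- The outer automorphism fixing `i` and taking `j` to `k`. -/
def phiT : List ℕ := [0, 1, 3, 14, 11, 22, 20, 21, 17, 4, 18, 19, 12, 13, 15, 2, 23, 10, 8, 9, 5, 16, 6, 7]

end Cfsg.Agent.Spor.UFourType
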