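import Cfsg.Agent.Lib.Spor.UFourType.Radical

/-!
The centralizer written on the numbers below 1152: `n = a + 12 c + 288 i + 576 j` stands for
`x a * y c * b ^ i * u ^ j`, with `a < 12`, `c < 24`.
-/

set_option autoImplicit false
set_option maxRecDepth 100000

namespace Cfsg.Agent.Spor.UFourType

/-- The first index. -/
def pA (n : ℕ) : ℕ := n % 12

/-- The second index. -/
def pC (n : ℕ) : ℕ := n / 12 % 24

/-- The exponent of `b`. -/
def pI (n : ℕ) : ℕ := n / 288 % 2

/-- The exponent of `u`. -/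
def pJ (n : ℕ) : ℕ := n / 576 % 2

/-- The number of a product. -/
def enc (a c i j : ℕ) : ℕ :=
  bif Nat.blt a 12 then a + 12 * c + 288 * i + 576 * j else (a - 12) + 12 * sMul c 12 + 288 * i + 576 * j

/-- The first index after moving past `u ^ j` and `b ^ i`. -/
def tw1 (i j a c : ℕ) : ℕ :=
  bif Nat.beq j 0 then (bif Nat.beq i 0 then a else sPhi a) else (bif Nat.beq i 0 then c else sPhi c)

/-- The second index after moving past `u ^ j` and `b ^ i`. -/
def tw2 (i j a c : ℕ) : ℕ :=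
  bif Nat.beq j 0 then (bif Nat.beq i 0 then c else sPhi (sConj 1 c))
  else (bif Nat.beq i 0 then a else sPhi (sConj 1 a))

/-- The power of `x 1 * y 1` met on the way. -/
def extra (i j i' a : ℕ) : ℕ := bif Nat.beq ((i * i' + j * i') % 2) 0 then a else sMul a 1

/-- The product. -/
def mL (n m : ℕ) : ℕ :=
  enc (extra (pI n) (pJ n) (pI m) (sMul (pA n) (tw1 (pI n) (pJ n) (pA m) (pC m))))
    (extra (pI n) (pJ n) (pI m) (sMul (pC n) (tw2 (pI n) (pJ n) (pA m) (pC m))))
    ((pI n + pI m) % 2) ((pJ n + pJ m) % 2)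

/-- The inverse. -/
def iL (n : ℕ) : ℕ :=
  mL (enc 0 0 0 (pJ n)) (mL (enc (extra (pI n) 0 (pI n) 0) (extra (pI n) 0 (pI n) 0) (pI n) 0)
    (enc (sInv (pA n)) (sInv (pC n)) 0 0))

/-- Conjugation. -/
def cjL (h n : ℕ) : ℕ := mL (mL h n) (iL h)

variable {G : Type*} [Group G] {z : G} {x y : ℕ → G} {s b u : G}

/-- The element of four indices. -/
def el (x y : ℕ → G) (b u : G) (a c i j : ℕ) : G := x a * y c * b ^ i * u ^ j

/-- The element of a number. -/
def eN (x y : ℕ → G) (b u : G) (n : ℕ) : G := el x y b u (pA n) (pC n) (pI n) (pJ n)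

theorem parts_lt (n : ℕ) : pA n < 24 ∧ pC n < 24 ∧ pI n < 2 ∧ pJ n < 2 :=
  ⟨(Nat.mod_lt n (by norm_num : 12 > 0)).trans (by norm_num), Nat.mod_lt _ (by norm_num), Nat.mod_lt _ (by norm_num),
    Nat.mod_lt _ (by norm_num)⟩

theorem neg12 : ∀ a < 24, sMul a 12 = if a < 12 then a + 12 else a - 12 := by decide +kernel

theorem enc_lt {a c i j : ℕ} (ha : a < 24) (hc : c < 24) (hi : i < 2) (hj : j < 2) : enc a c i j < 1152 := by
  have hc' := sMul_lt c hc 12 (by norm_num)
  unfold enc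
  rcases Nat.lt_or_ge a 12 with h | h
  · rw [show Nat.blt a 12 = true from Nat.ble_eq_true_of_le h, cond_true]; omega
  · rw [show Nat.blt a 12 = false from Bool.eq_false_iff.2 (fun e => absurd (Nat.le_of_ble_eq_true e) (by omega)), cond_false]
    omega

theorem decomp {n : ℕ} (hn : n < 1152) : n = pA n + 12 * pC n + 288 * pI n + 576 * pJ n ∧ pA n < 12 := by
  unfold pA pC pI pJ
  omega

/-- Products of the powers of two elements with square `P` and one. -/
theorem powers_mul {b u P : G} (b2 : b * b = P) (u2 : u * u = 1) (hP2 : P * P = 1) (bP : Commute b P)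
    (hbu : u * b = b * (P * u)) {i j i' j' : ℕ} (hi : i < 2) (hj : j < 2) (hi' : i' < 2) (hj' : j' < 2) :
    b ^ i * u ^ j * (b ^ i' * u ^ j') = P ^ ((i * i' + j * i') % 2) * (b ^ ((i + i') % 2) * u ^ ((j + j') % 2)) := by
  have hbb : ∀ v, b * (b * v) = P * v := fun v => by rw [← mul_assoc, b2]
  have huu : ∀ v, u * (u * v) = v := fun v => by rw [← mul_assoc, u2, one_mul]
  have hub : ∀ v, u * (b * v) = b * (P * (u * v)) := fun v => by rw [← mul_assoc, hbu]; simp only [mul_assoc]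
  have hPb : ∀ v, P * (b * v) = b * (P * v) := fun v => by rw [← mul_assoc, ← bP.eq, mul_assoc]
  have hPP : ∀ v, P * (P * v) = v := fun v => by rw [← mul_assoc, hP2, one_mul]
  interval_cases i <;> interval_cases j <;> interval_cases i' <;> interval_cases j' <;>
    norm_num [mul_assoc, hbb, huu, hub, hPb, hPP, hbu, u2, b2, hP2, bP.eq.symm]

namespace Frame

variable (F : Frame z x y s b u)
include F

theorem el_enc {a c i j : ℕ} (ha : a < 24) (hc : c < 24) (hi : i < 2) (hj : j < 2) :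
    eN x y b u (enc a c i j) = el x y b u a c i j := by
  have hc' := sMul_lt c hc 12 (by norm_num)
  unfold eN enc
  rcases Nat.lt_or_ge a 12 with h | h
  · rw [show Nat.blt a 12 = true from Nat.ble_eq_true_of_le h, cond_true,
      show pA (a + 12 * c + 288 * i + 576 * j) = a by unfold pA; omega,
      show pC (a + 12 * c + 288 * i + 576 * j) = c by unfold pC; omega,
      show pI (a + 12 * c + 288 * i + 576 * j) = i by unfold pI; omega,
      show pJ (a + 12 * c + 288 * i + 576 * j) = j by unfold pJ; omega]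
  · rw [show Nat.blt a 12 = false from Bool.eq_false_iff.2 (fun e => absurd (Nat.le_of_ble_eq_true e) (by omega)), cond_false,
      show pA (a - 12 + 12 * sMul c 12 + 288 * i + 576 * j) = a - 12 by unfold pA; omega,
      show pC (a - 12 + 12 * sMul c 12 + 288 * i + 576 * j) = sMul c 12 by unfold pC; omega,
      show pI (a - 12 + 12 * sMul c 12 + 288 * i + 576 * j) = i by unfold pI; omega,
      show pJ (a - 12 + 12 * sMul c 12 + 288 * i + 576 * j) = j by unfold pJ; omega]
    have e : x (a - 12) * y (sMul c 12) = x a * y c :=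
      ((F.sw.raw.eqP_iff ha hc (by omega) hc').2 (Or.inr ⟨by rw [neg12 a ha, if_neg (by omega)], rfl⟩)).symm
    unfold el
    rw [e]

theorem uy {a : ℕ} (ha : a < 24) : u * y a * u = x a := by
  rw [← F.ux a ha, show u * (u * x a * u) * u = u * u * x a * (u * u) by group, F.u2, one_mul, mul_one]

theorem uinv : u⁻¹ = u := inv_eq_of_mul_eq_one_right F.u2

theorem bP : Commute b (x 1 * y 1) := F.b2 ▸ (Commute.refl b).mul_right (Commute.refl b)

theorem by_act {a : ℕ} (ha : a < 24) : b * y a * b⁻¹ = y (sPhi (sConj 1 a)) := by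
  have R := F.sw.raw
  have hP : (x 1 * y 1) * x a * (x 1 * y 1)⁻¹ = x (sConj 1 a) := by
    have := R.conjP (show (1 : ℕ) < 24 by norm_num) (show (1 : ℕ) < 24 by norm_num) ha (show (0 : ℕ) < 24 by norm_num)
    rwa [R.hy.one, mul_one, show sConj 1 0 = 0 by decide, R.hy.one, mul_one] at this
  have hc := sConj_lt (show (1 : ℕ) < 24 by norm_num) ha
  have e : b = u * (b * (x 1 * y 1)) * u := by
    rw [← F.ub, show u * (u * b * u) * u = u * u * b * (u * u) by group, F.u2, one_mul, mul_one]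
  conv_lhs => rw [e, ← F.ux a ha]
  rw [show u * (b * (x 1 * y 1)) * u * (u * x a * u) * (u * (b * (x 1 * y 1)) * u)⁻¹ =
    u * (b * ((x 1 * y 1) * ((u * u) * x a * (u * u⁻¹)) * (x 1 * y 1)⁻¹) * b⁻¹) * u⁻¹ by group,
    F.u2, one_mul, mul_inv_cancel, mul_one, hP, F.bx _ hc, F.uinv, F.ux _ (sPhi_spec _ hc).1]

/-- Moving a pair past `b ^ i * u ^ j`. -/
theorem move {i j a c : ℕ} (hi : i < 2) (hj : j < 2) (ha : a < 24) (hc : c < 24) :
    b ^ i * u ^ j * (x a * y c) = x (tw1 i j a c) * y (tw2 i j a c) * (b ^ i * u ^ j) := by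
  have R := F.sw.raw
  have hb : ∀ a c, a < 24 → c < 24 → b * (x a * y c) = x (sPhi a) * y (sPhi (sConj 1 c)) * b := fun a c ha hc => by
    rw [← F.bx a ha, ← F.by_act hc]; group
  have hu : ∀ a c, a < 24 → c < 24 → u * (x a * y c) = x c * y a * u := fun a c ha hc => by
    rw [(R.comm c hc a ha).eq, ← F.ux a ha, ← F.uy hc,
      show u * x a * u * (u * y c * u) * u = u * x a * (u * u) * y c * (u * u) by group, F.u2]
    group
  interval_cases i <;> interval_cases j
  · simp [tw1, tw2]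
  · show b ^ 0 * u ^ 1 * _ = x c * y a * (b ^ 0 * u ^ 1)
    rw [pow_zero, one_mul, pow_one, hu a c ha hc]
  · show b ^ 1 * u ^ 0 * _ = x (sPhi a) * y (sPhi (sConj 1 c)) * (b ^ 1 * u ^ 0)
    rw [pow_zero, pow_one, mul_one, hb a c ha hc]
  · show b ^ 1 * u ^ 1 * _ = x (sPhi c) * y (sPhi (sConj 1 a)) * (b ^ 1 * u ^ 1)
    rw [pow_one, pow_one, mul_assoc, hu a c ha hc, ← mul_assoc, hb c a hc ha, mul_assoc]

theorem tw_lt {i j a c : ℕ} (ha : a < 24) (hc : c < 24) : tw1 i j a c < 24 ∧ tw2 i j a c < 24 := by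
  have h1 := fun k (hk : k < 24) => (sPhi_spec k hk).1
  have h2 := fun k (hk : k < 24) => sConj_lt (show (1 : ℕ) < 24 by norm_num) hk
  unfold tw1 tw2
  cases Nat.beq j 0 <;> cases Nat.beq i 0 <;> simp only [cond_true, cond_false] <;>
    exact ⟨by first | assumption | exact h1 _ (by assumption), by first | assumption | exact h1 _ (h2 _ (by assumption))⟩

/-- Collecting the powers. -/
theorem collect {i j i' j' a c : ℕ} (hi : i < 2) (hj : j < 2) (hi' : i' < 2) (hj' : j' < 2) (ha : a < 24) (hc : c < 24) :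
    x a * y c * (b ^ i * u ^ j) * (b ^ i' * u ^ j') =
      el x y b u (extra i j i' a) (extra i j i' c) ((i + i') % 2) ((j + j') % 2) := by
  have R := F.sw.raw
  have lt : (1 : ℕ) < 24 := by norm_num
  have hP2 : (x 1 * y 1) * (x 1 * y 1) = 1 := F.sw.w_sq (Or.inr (Or.inr (Or.inl rfl)))
  have hbu : u * b = b * ((x 1 * y 1) * u) := by
    rw [← mul_assoc, ← F.ub, mul_assoc (u * b) u u, F.u2, mul_one]
  have hkey := powers_mul F.b2 F.u2 hP2 F.bP hbu hi hj hi' hj'
  rw [mul_assoc (x a * y c), hkey, ← mul_assoc (x a * y c)]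
  unfold el extra
  rcases Nat.mod_two_eq_zero_or_one (i * i' + j * i') with h | h <;> rw [h]
  · simp [mul_assoc]
  · simp only [show Nat.beq 1 0 = false from rfl, cond_false, pow_one, R.mulP ha hc lt lt, mul_assoc]

theorem mul_spec {n m : ℕ} (_hn : n < 1152) (_hm : m < 1152) :
    eN x y b u (mL n m) = eN x y b u n * eN x y b u m ∧ mL n m < 1152 := by
  have R := F.sw.raw
  obtain ⟨ha, hc, hi, hj⟩ := parts_lt n
  obtain ⟨ha', hc', hi', hj'⟩ := parts_lt m
  obtain ⟨t1, t2⟩ := F.tw_lt (i := pI n) (j := pJ n) ha' hc'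
  have s1 := sMul_lt _ ha _ t1
  have s2 := sMul_lt _ hc _ t2
  have hex : ∀ k, k < 24 → extra (pI n) (pJ n) (pI m) k < 24 := fun k hk => by
    unfold extra
    cases Nat.beq ((pI n * pI m + pJ n * pI m) % 2) 0
    · exact sMul_lt k hk 1 (by norm_num)
    · exact hk
  have hlt : (pI n + pI m) % 2 < 2 ∧ (pJ n + pJ m) % 2 < 2 := ⟨Nat.mod_lt _ (by norm_num), Nat.mod_lt _ (by norm_num)⟩
  refine ⟨?_, enc_lt (hex _ s1) (hex _ s2) hlt.1 hlt.2⟩
  show eN x y b u (enc _ _ _ _) = _
  rw [F.el_enc (hex _ s1) (hex _ s2) hlt.1 hlt.2, ← F.collect hi hj hi' hj' s1 s2, ← R.mulP ha hc t1 t2]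
  show _ = x (pA n) * y (pC n) * b ^ pI n * u ^ pJ n * (x (pA m) * y (pC m) * b ^ pI m * u ^ pJ m)
  rw [show x (pA n) * y (pC n) * b ^ pI n * u ^ pJ n * (x (pA m) * y (pC m) * b ^ pI m * u ^ pJ m) =
      x (pA n) * y (pC n) * (b ^ pI n * u ^ pJ n * (x (pA m) * y (pC m))) * (b ^ pI m * u ^ pJ m) by group,
    F.move hi hj ha' hc']
  group

theorem eN_zero : eN x y b u 0 = 1 := by
  show x 0 * y 0 * b ^ 0 * u ^ 0 = 1
  rw [F.sw.raw.hx.one, F.sw.raw.hy.one]
  group

theorem eN_comm {n : ℕ} : Commute (eN x y b u n) z := by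
  obtain ⟨ha, hc, -, -⟩ := parts_lt n
  exact ((F.sw.raw.inC_P ha hc).mul_left (F.bz.pow_left _)).mul_left (F.uz.pow_left _)

theorem eN_inj {n m : ℕ} (hn : n < 1152) (hm : m < 1152) (e : eN x y b u n = eN x y b u m) : n = m := by
  have R := F.sw.raw
  obtain ⟨ha, hc, hi, hj⟩ := parts_lt n
  obtain ⟨ha', hc', hi', hj'⟩ := parts_lt m
  have lt : (1 : ℕ) < 24 := by norm_num
  have hjj : ∀ a c i a' c' i', a < 24 → c < 24 → i < 2 → a' < 24 → c' < 24 → i' < 2 →
      el x y b u a c i 0 ≠ el x y b u a' c' i' 1 := fun a c i a' c' i' ha hc hi ha' hc' hi' e => by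
    have h : ∀ (a c i : ℕ), a < 24 → c < 24 → i < 2 →
        (∃ k < 24, el x y b u a c i 0 * x 1 * (el x y b u a c i 0)⁻¹ = x k) ∧
        ∃ k ∈ o4L, el x y b u a c i 1 * x 1 * (el x y b u a c i 1)⁻¹ = y k := fun a c i ha hc hi => by
      have hk : ∀ k < 24, (x a * y c) * x k * (x a * y c)⁻¹ = x (sConj a k) ∧
          (x a * y c) * y k * (x a * y c)⁻¹ = y (sConj c k) := fun k hk => by
        have h1 := R.conjP ha hc hk (show (0 : ℕ) < 24 by norm_num)
        have h2 := R.conjP ha hc (show (0 : ℕ) < 24 by norm_num) hk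
        rw [R.hy.one, mul_one, (show ∀ r < 24, sConj r 0 = 0 by decide +kernel) c hc, R.hy.one, mul_one] at h1
        rw [R.hx.one, one_mul, (show ∀ r < 24, sConj r 0 = 0 by decide +kernel) a ha, R.hx.one, one_mul] at h2
        exact ⟨h1, h2⟩
      have hcl : ∀ r < 24, sConj r 1 ∈ o4L := by decide +kernel
      have hcl2 : ∀ r < 24, sConj r (sPhi (sConj 1 1)) ∈ o4L := by decide +kernel
      have e1 : u * x 1 * u⁻¹ = y 1 := by rw [F.uinv, F.ux 1 lt]
      interval_cases i
      · exact ⟨⟨_, sConj_lt ha lt, by unfold el; rw [pow_zero, pow_zero, mul_one, mul_one]; exact (hk 1 lt).1⟩,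
          _, hcl c hc, by
            unfold el
            rw [pow_zero, pow_one, mul_one, show x a * y c * u * x 1 * (x a * y c * u)⁻¹ =
              (x a * y c) * (u * x 1 * u⁻¹) * (x a * y c)⁻¹ by group, e1]
            exact (hk 1 lt).2⟩
      · refine ⟨⟨_, sConj_lt ha (sPhi_spec 1 lt).1, ?_⟩, _, hcl2 c hc, ?_⟩
        · unfold el
          rw [pow_zero, pow_one, mul_one, show x a * y c * b * x 1 * (x a * y c * b)⁻¹ =
            (x a * y c) * (b * x 1 * b⁻¹) * (x a * y c)⁻¹ by group, F.bx 1 lt]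
          exact (hk _ (sPhi_spec 1 lt).1).1
        · unfold el
          rw [pow_one, pow_one, show x a * y c * b * u * x 1 * (x a * y c * b * u)⁻¹ =
            (x a * y c) * (b * (u * x 1 * u⁻¹) * b⁻¹) * (x a * y c)⁻¹ by group, e1, F.by_act lt]
          exact (hk _ (sPhi_spec _ (sConj_lt lt lt)).1).2
    obtain ⟨⟨k, hk, e1⟩, -⟩ := h a c i ha hc hi
    obtain ⟨-, k', hk', e2⟩ := h a' c' i' ha' hc' hi'
    rw [e] at e1
    rcases R.sep k hk k' (mem_o4L_lt k' hk') (e1.symm.trans e2) with rfl | rfl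
    · rw [R.hx.one] at e1
      rw [e1, ← R.hy.one] at e2
      exact absurd (R.hy.inj 0 (by norm_num) k' (mem_o4L_lt k' hk') e2) fun h => by subst h; exact absurd hk' (by decide)
    · rw [R.x12] at e1
      rw [e1, ← R.y12] at e2
      exact absurd (R.hy.inj 12 (by norm_num) k' (mem_o4L_lt k' hk') e2) fun h => by subst h; exact absurd hk' (by decide)
  have hii : ∀ a c a' c', a < 24 → c < 24 → a' < 24 → c' < 24 → el x y b u a c 0 0 ≠ el x y b u a' c' 1 0 :=
    fun a c a' c' ha hc ha' hc' e => by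
      simp only [el, pow_zero, pow_one, mul_one] at e
      have eb : b = x (sMul (sInv a') a) * y (sMul (sInv c') c) := by
        rw [← R.mulP (sInv_lt a' ha').1 (sInv_lt c' hc').1 ha hc, ← R.invP ha' hc', e]; group
      have l1 := sMul_lt _ (sInv_lt a' ha').1 a ha
      have l2 := sMul_lt _ (sInv_lt c' hc').1 c hc
      have hk : ∀ k < 24, x (sConj (sMul (sInv a') a) k) = x (sPhi k) := fun k hk => by
        have h1 := R.conjP l1 l2 hk (show (0 : ℕ) < 24 by norm_num)
        rw [R.hy.one, mul_one, (show ∀ r < 24, sConj r 0 = 0 by decide +kernel) _ l2, R.hy.one, mul_one, ← eb,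
          F.bx k hk] at h1
        exact h1.symm
      have key : ∀ g < 24, sConj g 1 = sPhi 1 → sConj g 2 = sPhi 2 → False := by decide +kernel
      exact key _ l1 (R.hx.inj _ (sConj_lt l1 lt) _ (sPhi_spec 1 lt).1 (hk 1 lt))
        (R.hx.inj _ (sConj_lt l1 (by norm_num)) _ (sPhi_spec 2 (by norm_num)).1 (hk 2 (by norm_num)))
  have e' : el x y b u (pA n) (pC n) (pI n) (pJ n) = el x y b u (pA m) (pC m) (pI m) (pJ m) := e
  have hJ : pJ n = pJ m := by
    by_contra h
    rcases (show pJ n = 0 ∧ pJ m = 1 ∨ pJ n = 1 ∧ pJ m = 0 by omega) with ⟨h1, h2⟩ | ⟨h1, h2⟩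
    · rw [h1, h2] at e'; exact hjj _ _ _ _ _ _ ha hc hi ha' hc' hi' e'
    · rw [h1, h2] at e'; exact hjj _ _ _ _ _ _ ha' hc' hi' ha hc hi e'.symm
  rw [hJ] at e'
  have e0 : ∀ a c i, el x y b u a c i (pJ m) = el x y b u a c i 0 * u ^ pJ m := fun a c i => by unfold el; group
  rw [e0, e0] at e'
  have e'' := mul_right_cancel e'
  have hI : pI n = pI m := by
    by_contra h
    rcases (show pI n = 0 ∧ pI m = 1 ∨ pI n = 1 ∧ pI m = 0 by omega) with ⟨h1, h2⟩ | ⟨h1, h2⟩
    · rw [h1, h2] at e''; exact hii _ _ _ _ ha hc ha' hc' e''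
    · rw [h1, h2] at e''; exact hii _ _ _ _ ha' hc' ha hc e''.symm
  rw [hI] at e''
  unfold el at e''
  obtain ⟨hd, hA⟩ := decomp hn
  obtain ⟨hd', hA'⟩ := decomp hm
  rcases (R.eqP_iff ha hc ha' hc').1 (mul_right_cancel (mul_right_cancel e'')) with ⟨h1, h2⟩ | ⟨h1, -⟩
  · omega
  · rw [neg12 _ ha, if_pos hA] at h1
    omega

theorem eN_cen [Finite G] (g : G) : Commute g z ↔ ∃ n < 1152, eN x y b u n = g := by
  refine ⟨fun hg => ?_, ?_⟩
  · let f : Fin 1152 → ↥(Subgroup.centralizer ({z} : Set G)) := fun n =>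
      ⟨eN x y b u n.1, Subgroup.mem_centralizer_singleton_iff.2 F.eN_comm.eq⟩
    have hf : Function.Injective f := fun n m e => Fin.ext (F.eN_inj n.2 m.2 (congrArg Subtype.val e))
    have hb : Function.Bijective f :=
      hf.bijective_of_nat_card_le (by rw [F.sw.raw.cardH, Nat.card_eq_fintype_card, Fintype.card_fin])
    obtain ⟨n, hn⟩ := hb.2 ⟨g, Subgroup.mem_centralizer_singleton_iff.2 hg.eq⟩
    exact ⟨n.1, n.2, congrArg Subtype.val hn⟩
  · rintro ⟨n, -, rfl⟩
    exact F.eN_comm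

end Frame

end Cfsg.Agent.Spor.UFourType
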