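import Cfsg.Agent.Lib.Spor.UFourType.MSub
import Cfsg.Agent.Lib.Invol.BrauerSuzuki

/-!
The centralizer of a singular element of the elementary group: modulo its odd core it is the centralizer of `z`, and
the 3-part of the core lies in the known normalizer.
-/

set_option autoImplicit false
set_option maxRecDepth 100000
set_option synthInstance.maxSize 1024

namespace Cfsg.Agent.Spor.UFourType

variable {G : Type*} [Group G] {z : G} {e : ℕ → G} {r r' : G}

theorem x_inv_spec : (∀ n < 1152, mL n 8 = mL 8 n → n ≠ 0 → mL n n = 0 → n = 144) ∧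
    (∀ n < 1152, mL n 8 = mL 8 n →
      mL (mL n (mL n n)) (mL (mL n (mL n n)) (mL n (mL n n))) = 0 → n ∈ [0, 4, 8] ∨ ∃ h ∈ [12, 24, 36],
        mL h 8 = mL 8 h ∧ mL (cjL h n) (iL n) ≠ 0 ∧
          mL (mL (mL (cjL h n) (iL n)) (mL (cjL h n) (iL n))) (mL (mL (cjL h n) (iL n)) (mL (cjL h n) (iL n))) = 0) := by
  decide +kernel

theorem w_closed : (∀ A ∈ xW, ∀ B ∈ xW, mM A B ∈ xW) ∧ mI ∈ xW ∧ mK 33 61 9 31 ∈ xW ∧ mK 15 25 13 27 ∈ xW ∧
    (∀ A ∈ xW, mM (mM (mM (xGen.getD 0 0) A) (xGen.getD 0 0)) (mM A A) = A) ∧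
    (∀ A ∈ xT, ap A 4 = 4 → A ∈ xW ∨ mM A A = mI) ∧ (∀ A ∈ xT, mM A mI = A) := by decide +kernel

/-- The matrix determined by the image of `d`. -/
def mX (v : ℕ) : ℕ :=
  mK v (vA 4 (vS 2 v)) (vA (ap (mK 15 25 13 27) v) (vA (vS 2 v) 4)) (vA (ap (mK 33 61 9 31) v) (vA (vS 2 v) 4))

/-- A matrix commuting with two of the unipotent matrices and inverted by `z` is one of them. -/
theorem w_max : ∀ v < 81, mM (mM (mM (xGen.getD 0 0) (mX v)) (xGen.getD 0 0)) (mX v) = mI →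
    mM (mX v) (mK 33 61 9 31) = mM (mK 33 61 9 31) (mX v) →
    mM (mX v) (mK 15 25 13 27) = mM (mK 15 25 13 27) (mX v) → mX v ∈ xW := by decide +kernel

theorem w_basis : vA 4 (vS 2 1) = 3 ∧ ap (mK 15 25 13 27) 1 = 15 ∧ ap (mK 33 61 9 31) 1 = 33 ∧
    vA 15 (vA (vS 2 1) 4) = 9 ∧ vA 33 (vA (vS 2 1) 4) = 27 ∧ ap mI 4 = 4 := by decide +kernel

namespace Two

variable [Finite G] (W : Two z e r r')
include W

theorem ev_four : ev e r 4 = e 8 := by
  rw [ev, show v0 4 = 1 from rfl, show v1 4 = 1 from rfl, show v2 4 = 0 from rfl, show v3 4 = 0 from rfl, pow_one,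
    pow_one, pow_zero, pow_zero, mul_one, mul_one, ← W.fst.cent.mul 52 (by norm_num) 100 (by norm_num),
    show mL 52 100 = 8 by decide +kernel]

theorem x_z : Commute (e 8) z := W.fst.cent.e_z (by norm_num)

theorem x_three : e 8 ^ 3 = 1 := W.ev_four ▸ W.fst.ev_three 4

/-- The 3-part of the odd core of the centralizer of the singular element. -/
theorem exists_line_group : ∃ R : Subgroup G, R ≤ W.M ∧
    (∀ g : G, Commute g (e 8) → ∀ τ ∈ R, g * τ * g⁻¹ ∈ R) ∧
    (∀ A ∈ xW, ∃ τ ∈ R, Act e r τ A) ∧ (∀ τ ∈ R, ∃ A ∈ xW, Act e r τ A) ∧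
    e 8 ∈ R ∧ ev e r 9 ∈ R ∧ ev e r 27 ∈ R := by
  classical
  haveI : Fact (Nat.Prime 2) := ⟨Nat.prime_two⟩
  haveI : Fact (Nat.Prime 3) := ⟨Nat.prime_three⟩
  have C := W.fst.cent
  have F := W.fst
  set C1 : Subgroup G := Subgroup.centralizer ({e 8} : Set G) with hC1
  have memC : ∀ g : G, g ∈ C1 ↔ Commute g (e 8) := fun g => Subgroup.mem_centralizer_singleton_iff
  have hzC : z ∈ C1 := (memC z).2 W.x_z.symm
  set zc : ↥C1 := ⟨z, hzC⟩ with hzc
  have hzc2 : orderOf zc = 2 := by rw [Subgroup.orderOf_mk, C.orderOf_z]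
  -- the Sylow 2-subgroup has one involution
  have hinv : ∀ g : ↥C1, Commute (g : G) z → orderOf g = 2 → g = zc := fun g hg ho => by
    obtain ⟨n, hn, en⟩ := (C.cen _).1 hg
    have hg8 : Commute (e n) (e 8) := en ▸ (memC _).1 g.2
    have h2 : mL n n = 0 := C.inj _ (mL_lt _ _) 0 (by norm_num) (by
      rw [C.mul n hn n hn, en, C.e0, ← pow_two, ← Subgroup.coe_pow]
      rw [← ho, pow_orderOf_eq_one]; rfl)
    have h0 : n ≠ 0 := fun h => by
      subst h
      rw [C.e0] at en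
      rw [show g = 1 from Subtype.ext en.symm, orderOf_one] at ho
      exact absurd ho (by norm_num)
    refine Subtype.ext ?_
    show (g : G) = z
    rw [← en, x_inv_spec.1 n hn ((C.e_comm hn (by norm_num)).1 hg8) h0 h2, C.z_eq]
  have h2r : Cfsg.Agent.BS.TwoRankOne ↥C1 := by
    have hzp : IsPGroup 2 ↥(Subgroup.zpowers zc) := IsPGroup.of_card (n := 1) (by rw [Nat.card_zpowers, hzc2, pow_one])
    obtain ⟨S, hS⟩ := hzp.exists_le_sylow
    refine Cfsg.Agent.BS.twoRankOne_of_sylow S fun u hu v hv ou ov => ?_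
    have hzS : zc ∈ (S : Subgroup ↥C1) := hS (Subgroup.mem_zpowers _)
    haveI : Nontrivial ↥(S : Subgroup ↥C1) := Nontrivial.mk ⟨⟨zc, hzS⟩, 1, fun h => by
      have h' : zc = 1 := congrArg Subtype.val h
      rw [h', orderOf_one] at hzc2; exact absurd hzc2 (by norm_num)⟩
    haveI : Nontrivial ↥(Subgroup.center ↥(S : Subgroup ↥C1)) := S.2.center_nontrivial
    have hp : IsPGroup 2 ↥(Subgroup.center ↥(S : Subgroup ↥C1)) := S.2.to_subgroup _
    obtain ⟨c, hc⟩ := exists_prime_orderOf_dvd_card' (G := ↥(Subgroup.center ↥(S : Subgroup ↥C1))) 2 (by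
      obtain ⟨k, hk⟩ := IsPGroup.iff_card.1 hp
      rw [hk]
      rcases k with _ | k
      · exact absurd hk (Finite.one_lt_card_iff_nontrivial.2 inferInstance).ne'
      · exact dvd_pow_self 2 (Nat.succ_ne_zero k))
    rw [← Subgroup.orderOf_coe, ← Subgroup.orderOf_coe] at hc
    have hcom : ∀ q (hq : q ∈ (S : Subgroup ↥C1)), Commute ((c : ↥(S : Subgroup ↥C1)) : ↥C1) q := fun q hq =>
      congrArg Subtype.val (Subgroup.mem_center_iff.1 c.2 ⟨q, hq⟩).symm
    have hcz : ((c : ↥(S : Subgroup ↥C1)) : ↥C1) = zc :=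
      hinv _ (congrArg Subtype.val (hcom zc hzS)) hc
    have hall : ∀ q ∈ (S : Subgroup ↥C1), Commute ((q : ↥C1) : G) z := fun q hq => by
      have h := hcom q hq
      rw [hcz] at h
      exact congrArg Subtype.val h.symm
    exact (hinv u (hall u hu) ou).trans (hinv v (hall v hv) ov).symm
  set O : Subgroup G := (Cfsg.pPrimeCore 2 ↥C1).map C1.subtype with hO
  have hOC : O ≤ C1 := Subgroup.map_subtype_le _
  have hOodd : Odd (Nat.card ↥O) := by
    rw [hO, Nat.card_congr ((Cfsg.pPrimeCore 2 ↥C1).equivMapOfInjective _ C1.subtype_injective).toEquiv.symm]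
    exact Cfsg.Agent.BS.odd_iff_coprime_two.2 Cfsg.Agent.Grp.pPrimeCore_coprime
  have hcomm : ∀ g ∈ C1, z * g * z * g⁻¹ ∈ O := fun g hg =>
    ⟨_, Cfsg.Agent.BS.commutator_mem_oddCore _ ↥C1 rfl h2r zc hzc2 ⟨g, hg⟩, by
      show z * g * z⁻¹ * g⁻¹ = z * g * z * g⁻¹
      rw [F.z_inv]⟩
  have hOn : ∀ g ∈ C1, ∀ o ∈ O, g * o * g⁻¹ ∈ O := by
    rintro g hg _ ⟨o, ho, rfl⟩
    exact ⟨(⟨g, hg⟩ : ↥C1) * o * (⟨g, hg⟩ : ↥C1)⁻¹,
      (Cfsg.Agent.Grp.pPrimeCore_isNormal (p := 2) (G := ↥C1)).conj_mem o ho _, rfl⟩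
  have hx : e 8 ∈ O := by
    have hN : (Subgroup.zpowers (⟨e 8, (memC _).2 (Commute.refl _)⟩ : ↥C1)).Normal := ⟨fun n hn g => by
      obtain ⟨k, rfl⟩ := Subgroup.mem_zpowers_iff.1 hn
      have hc : Commute g (⟨e 8, (memC _).2 (Commute.refl _)⟩ : ↥C1) := Subtype.ext ((memC _).1 g.2).eq
      rw [(hc.zpow_right k).eq, mul_inv_cancel_right]
      exact zpow_mem (Subgroup.mem_zpowers _) k⟩
    refine ⟨_, Cfsg.Agent.Grp.le_pPrimeCore hN (Cfsg.Agent.BS.odd_iff_coprime_two.1 ?_) (Subgroup.mem_zpowers _), rfl⟩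
    rw [Nat.card_zpowers, Subgroup.orderOf_mk]
    exact (by decide : Odd 3).of_dvd_nat (orderOf_dvd_of_pow_eq_one W.x_three)
  have hodd : ∀ o ∈ O, Odd (orderOf o) := fun o ho => hOodd.of_dvd_nat (Subgroup.orderOf_dvd_natCard O ho)
  -- the fixed points of `z` in the core
  have hfix : ∀ o ∈ O, Commute o z → o ∈ Subgroup.zpowers (e 8) := by
    intro o ho hoz
    obtain ⟨n, hn, rfl⟩ := (C.cen o).1 hoz
    have h8 : mL n 8 = mL 8 n := (C.e_comm hn (by norm_num)).1 ((memC _).1 (hOC ho))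
    have h9 : e n ^ 9 = 1 := by
      refine orderOf_dvd_iff_pow_eq_one.1 ?_
      have hd : orderOf (e n) ∣ 2 ^ 7 * 3 ^ 2 := by
        have := Subgroup.orderOf_dvd_natCard _
          (show e n ∈ Subgroup.centralizer ({z} : Set G) from Subgroup.mem_centralizer_singleton_iff.2 (C.e_z hn).eq)
        rw [C.card_cent] at this
        simpa using this
      simpa using ((Nat.coprime_two_right.2 (hodd _ ho)).pow_right 7).dvd_of_dvd_mul_left hd
    have hn9 : mL (mL n (mL n n)) (mL (mL n (mL n n)) (mL n (mL n n))) = 0 := C.inj _ (mL_lt _ _) 0 (by norm_num) (by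
      rw [C.mul _ (mL_lt _ _) _ (mL_lt _ _), C.mul _ (mL_lt _ _) _ (mL_lt _ _), C.mul n hn _ (mL_lt _ _),
        C.mul n hn n hn, C.e0, ← h9]
      simp only [pow_succ, pow_zero, one_mul, mul_assoc])
    rcases x_inv_spec.2 n hn h8 hn9 with h | ⟨k, hk, hk8, hne, h4⟩
    · simp only [List.mem_cons, List.not_mem_nil, or_false] at h
      rcases h with rfl | rfl | rfl
      · rw [C.e0]; exact one_mem _
      · refine Subgroup.mem_zpowers_iff.2 ⟨2, ?_⟩
        rw [show (2 : ℤ) = ((2 : ℕ) : ℤ) from rfl, zpow_natCast, pow_two, ← C.mul 8 (by norm_num) 8 (by norm_num),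
          show mL 8 8 = 4 by decide +kernel]
      · exact Subgroup.mem_zpowers _
    · exfalso
      have hk' : k < 1152 := (show ∀ h ∈ [12, 24, 36], h < 1152 by decide) k hk
      set m := mL (cjL k n) (iL n) with hm
      have hmO : e m ∈ O := by
        rw [hm, C.mul (cjL k n) (mL_lt _ _) (iL n) (iL_ok n hn).1, C.e_cj hk' hn, C.e_inv hn]
        exact mul_mem (hOn _ ((memC _).2 ((C.e_comm hk' (by norm_num)).2 hk8)) _ ho) (inv_mem ho)
      have h44 : e m ^ (2 ^ 2) = 1 := by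
        have hml : m < 1152 := mL_lt _ _
        show e m ^ 4 = 1
        rw [← C.e0, ← h4, C.mul _ (mL_lt m m) _ (mL_lt m m), C.mul m hml m hml]
        simp only [pow_succ, pow_zero, one_mul, mul_assoc]
      have h1 : orderOf (e m) = 1 := Nat.eq_one_of_dvd_coprimes
        ((Nat.coprime_two_right.2 (hodd _ hmO)).pow_right 2) dvd_rfl (orderOf_dvd_of_pow_eq_one h44)
      exact hne (C.inj m (mL_lt _ _) 0 (by norm_num) ((orderOf_eq_one_iff.1 h1).trans C.e0.symm))
  have hxz : ∀ p ∈ Subgroup.zpowers (e 8), Commute p z := fun p hp => by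
    obtain ⟨k, rfl⟩ := Subgroup.mem_zpowers_iff.1 hp
    exact W.x_z.zpow_left k
  have hxc : ∀ g ∈ C1, ∀ p ∈ Subgroup.zpowers (e 8), Commute g p := fun g hg p hp => by
    obtain ⟨k, rfl⟩ := Subgroup.mem_zpowers_iff.1 hp
    exact ((memC g).1 hg).zpow_right k
  have hzO : ∀ o ∈ O, z * o * z ∈ O := fun o ho => by
    have := hOn z hzC o ho
    rwa [F.z_inv] at this
  obtain ⟨hinvO, habO⟩ := inverted_mod O (Subgroup.zpowers (e 8)) C.z_mul_z hOodd hzO hfix
    ((Subgroup.zpowers_le).2 hx) hxz (fun v hv => hxc v (hOC hv))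
  -- the 3-part
  have hx3 : ∀ p ∈ Subgroup.zpowers (e 8), p ^ 3 = 1 := fun p hp => by
    obtain ⟨k, rfl⟩ := Subgroup.mem_zpowers_iff.1 hp
    rw [← zpow_natCast, ← zpow_mul, mul_comm, zpow_mul, zpow_natCast, W.x_three, one_zpow]
  have hpow : ∀ g ∈ O, ∀ h ∈ O, ∀ n : ℕ, ∃ p ∈ Subgroup.zpowers (e 8), (g * h) ^ n = g ^ n * h ^ n * p := by
    intro g hg h hh n
    induction n with
    | zero => exact ⟨1, one_mem _, by simp⟩
    | succ n ih =>
      obtain ⟨p, hp, ep⟩ := ih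
      have hq := habO (h ^ n) (pow_mem hh n) g hg
      refine ⟨h⁻¹ * (h ^ n * g * (h ^ n)⁻¹ * g⁻¹) * h * p, ?_, ?_⟩
      · refine mul_mem ?_ hp
        rw [mul_assoc h⁻¹, ← (hxc h (hOC hh) _ hq).eq, inv_mul_cancel_left]
        exact hq
      · have c1 : Commute g (h ^ n * g * (h ^ n)⁻¹ * g⁻¹) := hxc g (hOC hg) _ hq
        have c3 : Commute h (h ^ n * g * (h ^ n)⁻¹ * g⁻¹) := hxc h (hOC hh) _ hq
        rw [mul_assoc h⁻¹, ← c3.eq, inv_mul_cancel_left, pow_succ, ep, mul_assoc (g ^ n * h ^ n) p,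
          ← (hxc (g * h) (hOC (mul_mem hg hh)) p hp).eq]
        set q := h ^ n * g * (h ^ n)⁻¹ * g⁻¹ with hq'
        have e1 : h ^ n * g = q * g * h ^ n := by rw [hq']; group
        rw [pow_succ, pow_succ, ← c1.eq] at *
        calc g ^ n * h ^ n * (g * h * p) = g ^ n * (h ^ n * g) * h * p := by group
          _ = g ^ n * (g * q * h ^ n) * h * p := by rw [e1]
          _ = g ^ n * g * (q * (h ^ n * h)) * p := by group
          _ = g ^ n * g * ((h ^ n * h) * q) * p := by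
            rw [((hxc (h ^ n * h) (hOC (mul_mem (pow_mem hh n) hh)) _ hq)).symm.eq]
          _ = g ^ n * g * (h ^ n * h) * (q * p) := by group
  let R : Subgroup G :=
    { carrier := {g | g ∈ O ∧ ∃ k, g ^ 3 ^ k = 1}
      one_mem' := ⟨one_mem _, 0, one_pow _⟩
      mul_mem' := by
        rintro g h ⟨hg, i, ei⟩ ⟨hh, j, ej⟩
        refine ⟨mul_mem hg hh, i + j + 1, ?_⟩
        obtain ⟨p, hp, ep⟩ := hpow g hg h hh (3 ^ (i + j))
        rw [pow_succ, pow_mul, ep, pow_add, pow_mul, ei, one_pow, mul_comm (3 ^ i) (3 ^ j), pow_mul, ej, one_pow,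
          one_mul, one_mul]
        exact hx3 p hp
      inv_mem' := by
        rintro g ⟨hg, i, ei⟩
        exact ⟨inv_mem hg, i, by rw [inv_pow, ei, inv_one]⟩ }
  have hRn : ∀ g ∈ C1, ∀ τ ∈ R, g * τ * g⁻¹ ∈ R := fun g hg τ hτ => by
    obtain ⟨ho, k, ek⟩ := hτ
    exact ⟨hOn g hg τ ho, k, by rw [conj_pow, ek]; group⟩
  -- the elements inducing the unipotent matrices
  have hP0mem : ∀ g : G, (∃ A ∈ xW, Act e r g A) → g ∈ C1 ∧ g ∈ W.M ∧ g ^ 9 = 1 := by
    rintro g ⟨A, hA, gA⟩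
    obtain ⟨hT, h4, h3, -⟩ := xW_spec.2.1 A hA
    refine ⟨(memC g).2 ?_, ⟨A, hT, gA⟩, ?_⟩
    · have := gA.2 4 (by norm_num)
      rw [h4, W.ev_four] at this
      exact mul_inv_eq_iff_eq_mul.1 this
    · have h := F.act_mul gA (F.act_mul gA gA)
      rw [h3] at h
      obtain ⟨v, -, ev'⟩ := F.mem_of_act h
      rw [show 9 = 3 * 3 from rfl, pow_mul, pow_three (g), ← ev', F.ev_three]
  let P0 : Subgroup G :=
    { carrier := {g | ∃ A ∈ xW, Act e r g A}
      one_mem' := ⟨mI, w_closed.2.1, F.act_one⟩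
      mul_mem' := by
        rintro g h ⟨A, hA, ga⟩ ⟨B, hB, hb⟩
        exact ⟨_, w_closed.1 A hA B hB, F.act_mul ga hb⟩
      inv_mem' := by
        intro g hg
        obtain ⟨A, hA, ga⟩ := hg
        have h9 := (hP0mem g ⟨A, hA, ga⟩).2.2
        have hpow : ∀ k : ℕ, ∃ B ∈ xW, Act e r (g ^ k) B := by
          intro k
          induction k with
          | zero => exact ⟨mI, w_closed.2.1, by rw [pow_zero]; exact F.act_one⟩
          | succ k ih =>
            obtain ⟨B, hB, gb⟩ := ih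
            exact ⟨_, w_closed.1 B hB A hA, by rw [pow_succ]; exact F.act_mul gb ga⟩
        rw [show g⁻¹ = g ^ 8 from (eq_inv_of_mul_eq_one_left (by rw [← pow_succ]; exact h9)).symm]
        exact hpow 8 }
  have hEP : F.E ≤ P0 := fun g hg => ⟨mI, w_closed.2.1, F.act_mem hg⟩
  -- the core meets the known normalizer in unipotent elements
  have hRM : ∀ τ ∈ R, τ ∈ W.M → τ ∈ P0 := by
    rintro τ ⟨hτ, k, ek⟩ ⟨A, hA, ga⟩
    have h4 : ap A 4 = 4 := F.ev_inj (ap_lt _ _) (by norm_num) (by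
      rw [← ga.2 4 (by norm_num), W.ev_four]
      exact mul_inv_eq_iff_eq_mul.2 ((memC τ).1 (hOC hτ)).eq)
    rcases w_closed.2.2.2.2.2.1 A hA h4 with h | h
    · exact ⟨A, h, ga⟩
    · have h2 := F.act_mul ga ga
      rw [h] at h2
      obtain ⟨v, -, ev'⟩ := F.mem_of_act h2
      have h6 : τ ^ (2 * 3) = 1 := by rw [pow_mul, pow_two, ← ev', F.ev_three]
      have hd : orderOf τ ∣ 3 :=
        (Nat.Coprime.pow_left k (by norm_num : Nat.Coprime 3 2)).coprime_dvd_left (orderOf_dvd_of_pow_eq_one ek)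
          |>.dvd_of_dvd_mul_left (orderOf_dvd_of_pow_eq_one h6)
      have hτ3 : τ * (τ * τ) = 1 := by rw [← pow_three]; exact orderOf_dvd_iff_pow_eq_one.1 hd
      have h3 := F.act_mul ga (F.act_mul ga ga)
      rw [hτ3, h, w_closed.2.2.2.2.2.2 A hA] at h3
      exact ⟨mI, w_closed.2.1, F.act_inj h3 F.act_one ▸ ga⟩
  have hRpart : ∀ g ∈ P0, z * g * z * g⁻¹ ∈ R ∧ z * g * z * g ∈ F.E := by
    intro g hg
    obtain ⟨A, hA, ga⟩ := hg
    have hz : z * g * z * g ∈ F.E := by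
      have h := F.act_mul (F.act_mul (F.act_mul F.act_z ga) F.act_z) ga
      rw [(xW_spec.2.1 A hA).2.2.2] at h
      exact F.mem_of_act h
    refine ⟨⟨hcomm g (hP0mem g ⟨A, hA, ga⟩).1, 2, ?_⟩, hz⟩
    have hP : z * g * z * g⁻¹ ∈ P0 := by
      rw [show z * g * z * g⁻¹ = z * g * z * g * (g⁻¹ * g⁻¹) by group]
      exact mul_mem (hEP hz) (mul_mem (inv_mem ⟨A, hA, ga⟩) (inv_mem ⟨A, hA, ga⟩))
    exact (hP0mem _ hP).2.2
  have hWR : ∀ A ∈ xW, ∃ τ ∈ R, Act e r τ A := by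
    intro A hA
    obtain ⟨g, ga⟩ := (F.xT_real W.snd).1 A (xW_spec.2.1 A hA).1
    refine ⟨_, (hRpart g ⟨A, hA, ga⟩).1, ?_⟩
    obtain ⟨B, hB, gb⟩ := (P0.inv_mem ⟨A, hA, ga⟩)
    have hB' : B = mM A A := by
      have h9 := F.act_mul ga (F.act_mul ga ga)
      rw [(xW_spec.2.1 A hA).2.2.1] at h9
      obtain ⟨v, hv, ev'⟩ := F.mem_of_act h9
      have h1 := F.act_mul (F.act_mem (F.E.inv_mem ⟨v, hv, rfl⟩)) (F.act_mul ga ga)
      rw [show (ev e r v)⁻¹ * (g * g) = g⁻¹ by rw [ev']; group] at h1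
      have hI : ∀ X ∈ xW, mM mI X = X := by decide +kernel
      rw [hI _ (w_closed.1 A hA A hA)] at h1
      exact F.act_inj gb h1
    have h := F.act_mul (F.act_mul (F.act_mul F.act_z ga) F.act_z) gb
    rw [hB', w_closed.2.2.2.2.1 A hA] at h
    exact h
  have hb : ∀ v < 81, z * ev e r v * z = (ev e r v)⁻¹ → ev e r v ∈ R := fun v hv hzv => by
    have h := (hRpart _ (hEP ⟨v, hv, rfl⟩)).1
    rw [hzv, ← pow_two, inv_pow, pow_two, inv_of_three (F.ev_three v), inv_inv] at h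
    exact h
  obtain ⟨-, -, e3, e4⟩ := F.ev_basis
  have hb9 : ev e r 9 ∈ R := hb 9 (by norm_num) (by rw [e3]; exact F.b_z)
  have hb27 : ev e r 27 ∈ R := hb 27 (by norm_num) (by rw [e4]; exact F.c_z)
  have hx8 : e 8 ∈ R := ⟨hx, 1, by rw [pow_one]; exact W.x_three⟩
  -- the subgroup spanned by the 3-part and `d`
  have hd8 : Commute (e 52) (e 8) := (C.e_comm (by norm_num) (by norm_num)).2 (by decide +kernel)
  let S : Subgroup G := R ⊔ Subgroup.zpowers (e 52)
  have hdn : Subgroup.zpowers (e 52) ≤ Subgroup.normalizer (R : Set G) := by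
    rw [Subgroup.zpowers_le, Subgroup.mem_normalizer_iff]
    have hdC : e 52 ∈ C1 := (memC _).2 hd8
    refine fun x => ⟨fun hx => hRn _ hdC x hx, fun hx => ?_⟩
    have := hRn _ (inv_mem hdC) _ hx
    rwa [inv_inv, show (e 52)⁻¹ * (e 52 * x * (e 52)⁻¹) * e 52 = x by group] at this
  have hS3 : IsPGroup 3 ↥S := by
    have hR3 : IsPGroup 3 ↥R := fun τ => by
      obtain ⟨-, k, ek⟩ := τ.2
      exact ⟨k, Subtype.ext ek⟩
    exact hR3.to_sup_of_normal_left' (IsPGroup.of_card (n := 1) (by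
      rw [Nat.card_zpowers, pow_one]
      exact orderOf_eq_prime W.fst.d3 fun h =>
        absurd (C.inj 52 (by norm_num) 0 (by norm_num) (h.trans C.e0.symm)) (by norm_num))) hdn
  have hES : F.E ≤ S := by
    rintro g ⟨v, hv, rfl⟩
    have hd : e 52 ∈ S := le_sup_right (a := R) (Subgroup.mem_zpowers _)
    have ha : e 100 ∈ S := by
      obtain ⟨e1, e2, -, -⟩ := F.ev_basis
      rw [← e2, ← w_basis.1, F.ev_add, F.ev_mul, e1, W.ev_four]
      exact mul_mem (le_sup_left (b := Subgroup.zpowers (e 52)) hx8) (pow_mem hd 2)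
    rw [ev, ← e4, ← e3]
    exact mul_mem (mul_mem (mul_mem (pow_mem hd _) (pow_mem ha _))
      (pow_mem (le_sup_left (b := Subgroup.zpowers (e 52)) hb9) _))
      (pow_mem (le_sup_left (b := Subgroup.zpowers (e 52)) hb27) _)
  have hPS : P0 ≤ S := by
    intro g hg
    obtain ⟨hu, hE⟩ := hRpart g hg
    have h2 : g ^ 2 ∈ S := by
      have := mul_mem (inv_mem (le_sup_left (b := Subgroup.zpowers (e 52)) hu)) (hES hE)
      rwa [show (z * g * z * g⁻¹)⁻¹ * (z * g * z * g) = g ^ 2 by rw [pow_two]; group] at this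
    have h9 := (hP0mem g hg).2.2
    rw [show g = (g ^ 2) ^ 5 by rw [← pow_mul, show 2 * 5 = 9 + 1 from rfl, pow_succ, h9, one_mul]]
    exact pow_mem h2 5
  -- the elementary group is the only abelian subgroup of its order there
  have hchar : ∀ g : G, (∀ x ∈ P0, g * x * g⁻¹ ∈ P0) → ∀ v < 81, g * ev e r v * g⁻¹ ∈ F.E := by
    intro g hg v hv
    have hB : ∀ u : ℕ, u < 81 → ∃ B ∈ xW, Act e r (g * ev e r u * g⁻¹) B := fun u hu => hg _ (hEP ⟨u, hu, rfl⟩)
    choose B hBW hBA using hB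
    by_contra hne
    have hAne : B v hv ≠ mI := fun h => hne (F.mem_of_act (h ▸ hBA v hv))
    have hfixed : ∀ u (hu : u < 81) w, w < 81 → ev e r w ∈ (fun x => g * x * g⁻¹) '' (F.E : Set G) →
        ap (B u hu) w = w := by
      intro u hu w hw hwim
      obtain ⟨x, hxE, ex⟩ := hwim
      refine F.ev_inj (ap_lt _ _) hw ?_
      rw [← (hBA u hu).2 w hw]
      have hc : Commute (g * ev e r u * g⁻¹) (ev e r w) :=
        ex ▸ (Commute.conj_iff g).2 (F.E_comm ⟨u, hu, rfl⟩ hxE)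
      exact mul_inv_eq_iff_eq_mul.2 hc.eq
    let f : Fin 81 → ℕ := fun u => B u.1 u.2
    have hfib : ∀ b ∈ Finset.univ.image f, ∀ (ms : List ℕ), (∀ m ∈ ms, ∃ u hu, B u hu = m) →
        (Finset.univ.filter fun u : Fin 81 => f u = b).card ≤
          ((List.range 81).filter fun w => ms.all fun m => Nat.beq (ap m w) w).length := by
      intro b hb ms hms
      obtain ⟨u0, -, hu0⟩ := Finset.mem_image.1 hb
      have hdiff : ∀ u : Fin 81, f u = b →
          ∃ w < 81, ev e r w = g * ev e r u.1 * g⁻¹ * (g * ev e r u0.1 * g⁻¹)⁻¹ := by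
        intro u hu
        have k1 := hBA u.1 u.2
        have k0 := hBA u0.1 u0.2
        obtain ⟨D, -, kD⟩ := W.M.inv_mem ⟨_, (xW_spec.2.1 _ (hBW u0.1 u0.2)).1, k0⟩
        have k2 := F.act_mul k1 kD
        have k3 := F.act_mul k0 kD
        rw [mul_inv_cancel] at k3
        have : mM (B u.1 u.2) D = mI := by
          rw [show B u.1 u.2 = B u0.1 u0.2 from hu.trans hu0.symm]
          exact F.act_inj k3 F.act_one
        rw [this] at k2
        exact F.mem_of_act k2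
      choose! w hw ew using hdiff
      rw [← List.toFinset_card_of_nodup (List.nodup_range.filter _)]
      refine Finset.card_le_card_of_injOn w (fun u hu => ?_) ?_
      · have hu' := (Finset.mem_filter.1 (Finset.mem_coe.1 hu)).2
        rw [Finset.mem_coe, List.mem_toFinset, List.mem_filter, List.mem_range, List.all_eq_true]
        refine ⟨hw u hu', fun m hm => ?_⟩
        obtain ⟨u1, hu1, rfl⟩ := hms m hm
        rw [hfixed u1 hu1 _ (hw u hu') ⟨ev e r u.1 * (ev e r u0.1)⁻¹,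
          mul_mem ⟨u.1, u.2, rfl⟩ (F.E.inv_mem ⟨u0.1, u0.2, rfl⟩), by rw [ew u hu']; group⟩]
        exact Nat.beq_refl _
      · intro u hu u' hu' huu
        have e1 := ew u (Finset.mem_filter.1 (Finset.mem_coe.1 hu)).2
        have e2 := ew u' (Finset.mem_filter.1 (Finset.mem_coe.1 hu')).2
        rw [huu, e2] at e1
        exact Fin.ext (F.ev_inj u.2 u'.2 (mul_left_cancel (mul_right_cancel (mul_right_cancel e1))).symm)
    have hcard : ∀ n k : ℕ, (∀ b ∈ Finset.univ.image f, (Finset.univ.filter fun u : Fin 81 => f u = b).card ≤ n) →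
        (Finset.univ.image f).card ≤ k → 81 ≤ n * k := by
      intro n k h1 h2
      have h := Finset.card_le_mul_card_image (Finset.univ : Finset (Fin 81)) n h1
      rw [Finset.card_univ, Fintype.card_fin] at h
      exact h.trans (Nat.mul_le_mul_left n h2)
    obtain ⟨hfix1, hfix2⟩ := xW_fix (B v hv) (hBW v hv) hAne
    by_cases hsub : Finset.univ.image f ⊆ [mI, B v hv, mM (B v hv) (B v hv)].toFinset
    · have := hcard 9 3 (fun b hb => (hfib b hb [B v hv] (fun m hm => ⟨v, hv, (List.mem_singleton.1 hm).symm⟩)).trans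
        (by simpa using hfix1)) ((Finset.card_le_card hsub).trans (List.toFinset_card_le _))
      omega
    · obtain ⟨b1, hb1, hb1n⟩ := Finset.not_subset.1 hsub
      obtain ⟨u1, -, rfl⟩ := Finset.mem_image.1 hb1
      simp only [List.mem_toFinset, List.mem_cons, List.not_mem_nil, or_false, not_or] at hb1n
      have hle := hfix2 _ (hBW u1.1 u1.2) hb1n.1 hb1n.2.1 hb1n.2.2
      have := hcard 3 9 (fun b hb => (hfib b hb [B v hv, B u1.1 u1.2] (fun m hm => by
          simp only [List.mem_cons, List.not_mem_nil, or_false] at hm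
          rcases hm with rfl | rfl
          exacts [⟨v, hv, rfl⟩, ⟨u1.1, u1.2, rfl⟩])).trans (by simpa using hle))
        ((Finset.card_le_card (show Finset.univ.image f ⊆ xW.toFinset from fun b hb => by
          obtain ⟨u, -, rfl⟩ := Finset.mem_image.1 hb
          exact List.mem_toFinset.2 (hBW u.1 u.2))).trans
          ((List.toFinset_card_le _).trans xW_spec.2.2.2.2.1.le))
      omega
  -- hence the 3-part is in the known normalizer
  have hSP : S ≤ P0 := by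
    by_contra hne
    have hlt : P0 < S := lt_of_le_of_ne hPS fun h => hne h.ge
    haveI := hS3.isNilpotent
    have hlt' : P0.subgroupOf S < ⊤ :=
      lt_top_iff_ne_top.2 fun h => hne (Subgroup.subgroupOf_eq_top.1 h)
    obtain ⟨g, hg, hgP⟩ := SetLike.exists_of_lt (Group.normalizerCondition_of_isNilpotent _ hlt')
    have hnorm : ∀ x ∈ P0, (g : G) * x * (g : G)⁻¹ ∈ P0 := fun x hx =>
      (Subgroup.mem_normalizer_iff.1 hg ⟨x, hPS hx⟩).1 hx
    obtain ⟨τ, hτ, p, hp, hgp⟩ : ∃ τ ∈ R, ∃ p ∈ Subgroup.zpowers (e 52), τ * p = (g : G) := by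
      have hmem : (g : G) ∈ ((R ⊔ Subgroup.zpowers (e 52) : Subgroup G) : Set G) := g.2
      rw [Subgroup.coe_mul_of_right_le_normalizer_left _ _ hdn] at hmem
      exact Set.mem_mul.1 hmem
    have hpE : p ∈ F.E := Subgroup.zpowers_le.2 F.gen_mem.1 hp
    have hτn : ∀ x ∈ P0, τ * x * τ⁻¹ ∈ P0 := fun x hx => by
      have hpi := hEP (F.E.inv_mem hpE)
      have := hnorm (p⁻¹ * x * p) (mul_mem (mul_mem hpi hx) (hEP hpE))
      rwa [← hgp, show τ * p * (p⁻¹ * x * p) * (τ * p)⁻¹ = τ * x * τ⁻¹ by group] at this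
    obtain ⟨m1, m2, m3, m4⟩ := F.gen_mem
    have him : ∀ x ∈ F.E, τ * x * τ⁻¹ ∈ F.E := by
      rintro x ⟨v, hv, rfl⟩
      exact hchar τ hτn v hv
    obtain ⟨a, ha, ea⟩ := him _ m1
    obtain ⟨b, hb', eb⟩ := him _ m2
    obtain ⟨c, hc, ec⟩ := him _ m3
    obtain ⟨d, hd, ed⟩ := him _ m4
    have ga := F.act_of_basis ha hb' hc hd ea.symm eb.symm ec.symm ed.symm
    set A := mK a b c d with hAdef
    have h4 : ap A 4 = 4 := F.ev_inj (ap_lt _ _) (by norm_num) (by
      rw [← ga.2 4 (by norm_num), W.ev_four]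
      exact mul_inv_eq_iff_eq_mul.2 ((memC τ).1 (hOC hτ.1)).eq)
    have hcomW : ∀ N ∈ xW, mM A N = mM N A := by
      intro N hN
      obtain ⟨σ, hσ, gσ⟩ := hWR N hN
      have hq : τ * σ * τ⁻¹ * σ⁻¹ ∈ F.E := (Subgroup.zpowers_le.2 (W.p_mem (by decide)))
        (habO τ hτ.1 σ hσ.1)
      have h1 := F.act_mul (F.act_mem hq) (F.act_mul gσ ga)
      rw [show τ * σ * τ⁻¹ * σ⁻¹ * (σ * τ) = τ * σ by group] at h1
      have h2 := F.act_inj (F.act_mul ga gσ) h1
      have h3 := F.act_mul F.act_one (F.act_mul gσ ga)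
      rw [one_mul] at h3
      rw [h2]
      exact F.act_inj h3 (F.act_mul gσ ga)
    have hz : mM (mM (mM (xGen.getD 0 0) A) (xGen.getD 0 0)) A = mI := by
      have h := F.act_mul (F.act_mul (F.act_mul F.act_z ga) F.act_z) ga
      exact F.act_inj h (F.act_mem ((Subgroup.zpowers_le.2 (W.p_mem (by decide))) (hinvO τ hτ.1)))
    -- the matrix is determined by the image of `d`
    obtain ⟨e1, e2, -, -⟩ := F.ev_basis
    have hlin : ∀ x < 81, ∀ y < 81, ap A (vA x y) = vA (ap A x) (ap A y) := fun x hx y hy =>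
      F.ev_inj (ap_lt _ _) (vA_lt _ _) (by
        rw [← ga.2 _ (vA_lt _ _), F.ev_add, F.ev_add, ← ga.2 x hx, ← ga.2 y hy]; group)
    have hsm : ∀ x < 81, ap A (vS 2 x) = vS 2 (ap A x) := fun x hx =>
      F.ev_inj (ap_lt _ _) (vS_lt _ _) (by
        rw [← ga.2 _ (vS_lt _ _), F.ev_mul, F.ev_mul, ← ga.2 x hx, conj_pow])
    obtain ⟨w1, w2, w3, w4, w5, -⟩ := w_basis
    obtain ⟨-, -, hN1, hN2, -⟩ := w_closed
    have hA : A = mX a := by
      obtain ⟨a1, a2, a3, a4⟩ := ap_basis A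
      obtain ⟨k1, k2, k3, k4⟩ := mK_cols ha hb' hc hd
      have hap : ∀ N, mM A N = mM N A → ap A (mC N 0) = ap N (mC A 0) := fun N h => by
        rw [← mM_cols A N 0 (by norm_num), h, mM_cols N A 0 (by norm_num)]
      have c1 : ap A 3 = vA 4 (vS 2 a) := by
        rw [← w1, hlin 4 (by norm_num) _ (vS_lt _ _), hsm 1 (by norm_num), h4, a1, hAdef, k1]
      have c2 : ap A 9 = vA (ap (mK 15 25 13 27) a) (vA (vS 2 a) 4) := by
        rw [← w4, hlin 15 (by norm_num) _ (vA_lt _ _), hlin _ (vS_lt _ _) 4 (by norm_num), hsm 1 (by norm_num), h4, a1,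
          show (15 : ℕ) = mC (mK 15 25 13 27) 0 by decide +kernel, hap _ (hcomW _ hN2),
          ← show (15 : ℕ) = mC (mK 15 25 13 27) 0 by decide +kernel, hAdef, k1]
      have c3 : ap A 27 = vA (ap (mK 33 61 9 31) a) (vA (vS 2 a) 4) := by
        rw [← w5, hlin 33 (by norm_num) _ (vA_lt _ _), hlin _ (vS_lt _ _) 4 (by norm_num), hsm 1 (by norm_num), h4, a1,
          show (33 : ℕ) = mC (mK 33 61 9 31) 0 by decide +kernel, hap _ (hcomW _ hN1),
          ← show (33 : ℕ) = mC (mK 33 61 9 31) 0 by decide +kernel, hAdef, k1]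
      rw [mX, ← c1, ← c2, ← c3, a2, a3, a4]
      conv_lhs => rw [← mK_self ga.1]
      rw [hAdef, k1]
    have hτP : τ ∈ P0 := by
      refine ⟨A, ?_, ga⟩
      rw [hA]
      exact w_max a ha (hA ▸ hz) (hA ▸ hcomW _ hN1) (hA ▸ hcomW _ hN2)
    refine hgP ?_
    show (g : G) ∈ P0
    rw [← hgp]
    exact mul_mem hτP (hEP hpE)
  refine ⟨R, fun τ hτ => ?_, fun g hg τ hτ => hRn g ((memC g).2 hg) τ hτ, hWR, fun τ hτ => ?_, hx8, hb9, hb27⟩
  · exact (hP0mem τ (hSP (le_sup_left (b := Subgroup.zpowers (e 52)) hτ))).2.1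
  · exact hSP (le_sup_left (b := Subgroup.zpowers (e 52)) hτ)

end Two

end Cfsg.Agent.Spor.UFourType
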