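import Cfsg.Agent.Lib.Spor.UFourType.ULocal
import Cfsg.Agent.Lib.Spor.UFourType.PsiData
import Cfsg.Agent.Lib.Spor.Cos.Act

/-! Renumbering the centralizer by the automorphism exchanging the two diagonal elements of order three. -/

set_option autoImplicit false
set_option maxRecDepth 100000
set_option synthInstance.maxSize 1024

namespace Cfsg.Agent.Spor.UFourType

/-- The automorphism. -/
def psi (n : ℕ) : ℕ := (psiT.getD (n / 32) []).getD (n % 32) 0

/-- The inverse automorphism. -/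
def psiInv (n : ℕ) : ℕ := (psiI.getD (n / 32) []).getD (n % 32) 0

/-- The automorphism respects multiplication by the generators. -/
noncomputable def chkPsi (n : ℕ) : Bool :=
  Nat.blt (psi n) 1152 && Nat.blt (psiInv n) 1152 && Nat.beq (psiInv (psi n)) n && Nat.beq (psi (psiInv n)) n &&
    [1, 4, 288, 576].all fun g => Cos.force (mL n g) fun m => Nat.beq (psi m) (mL (psi n) (psi g))

theorem chkPsi_ok : ∀ n < 1152, chkPsi n = true :=
  Cos.of_blocks (size := 64) (b := 18) (by decide) (by decide) fun j hj => by interval_cases j <;> decide +kernel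

/-- The number of a product of two indices and two exponents. -/
def word (a c i j : ℕ) : ℕ :=
  mL (mL (mL (enc a 0 0 0) (mL (mL 576 (enc c 0 0 0)) 576)) (288 * i)) (576 * j)

theorem psi_lt (n : ℕ) (hn : n < 1152) : psi n < 1152 := by
  have h := chkPsi_ok n hn
  simp only [chkPsi, Bool.and_eq_true] at h
  exact Nat.le_of_ble_eq_true h.1.1.1.1

theorem psi_inv (n : ℕ) (hn : n < 1152) : psiInv (psi n) = n ∧ psi (psiInv n) = n ∧ psiInv n < 1152 := by
  have h := chkPsi_ok n hn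
  simp only [chkPsi, Bool.and_eq_true] at h
  exact ⟨Nat.eq_of_beq_eq_true h.1.1.2, Nat.eq_of_beq_eq_true h.1.2, Nat.le_of_ble_eq_true h.1.1.1.2⟩

theorem psi_inj {n m : ℕ} (hn : n < 1152) (hm : m < 1152) (h : psi n = psi m) : n = m := by
  rw [← (psi_inv n hn).1, h, (psi_inv m hm).1]

theorem psi_zero : psi 0 = 0 := by decide +kernel

theorem psi_gen (n : ℕ) (hn : n < 1152) (g : ℕ) (hg : g ∈ [1, 4, 288, 576]) :
    psi (mL n g) = mL (psi n) (psi g) := by
  have h := chkPsi_ok n hn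
  simp only [chkPsi, Bool.and_eq_true] at h
  have h' := List.all_eq_true.1 h.2 g hg
  rw [Cos.force_eq] at h'
  exact Nat.eq_of_beq_eq_true h'


theorem psi_inQ : ∀ n < 1152, inQn (psi n) = inQn n := by decide +kernel

theorem word_ok : ∀ n < 1152, n = word (pA n) (pC n) (pI n) (pJ n) := by decide +kernel

theorem psi_spec : psi 13 = 157 ∧ psi 144 = 144 ∧ cjL 2 13 = 157 ∧ cjL (iL 2) 157 = 13 ∧
    (∀ n ∈ uList, psi n ∈ u2List) ∧ (∀ m ∈ u2List, ∃ n ∈ uList, psi n = m) ∧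
    (∀ m ∈ u2List, cjL 2 m ∈ u2List ∧ cjL (iL 2) m ∈ u2List ∧ (inQn m = false → inQn (cjL 2 m) = false)) ∧
    (∃ k ∈ wList, cjL (iL 2) (psi 26) = mL 38 k) ∧
    psi 52 = 100 ∧ psi 100 = 52 ∧ psi 576 = 902 := by decide +kernel

namespace Cent

variable {G : Type*} [Group G] {z : G} {e : ℕ → G} (C : Cent z e)
include C

theorem psi_hom {m : ℕ} (hm : m < 1152) : ∀ n < 1152, e (psi (mL n m)) = e (psi n) * e (psi m) := by
  let M : ℕ → Prop := fun m => m < 1152 ∧ ∀ n < 1152, e (psi (mL n m)) = e (psi n) * e (psi m)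
  have hgen : ∀ g ∈ [1, 4, 288, 576], M g := fun g hg => by
    have hg' : g < 1152 := (show ∀ g ∈ [1, 4, 288, 576], g < 1152 by decide) g hg
    exact ⟨hg', fun n hn => by rw [psi_gen n hn g hg, C.mul _ (psi_lt n hn) _ (psi_lt g hg')]⟩
  have hmul : ∀ a b, M a → M b → M (mL a b) := fun a b ha hb => by
    refine ⟨mL_lt a b, fun n hn => ?_⟩
    have hassoc : mL n (mL a b) = mL (mL n a) b := C.inj _ (mL_lt _ _) _ (mL_lt _ _) (by
      rw [C.mul n hn _ (mL_lt a b), C.mul a ha.1 b hb.1, C.mul _ (mL_lt n a) b hb.1, C.mul n hn a ha.1, mul_assoc])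
    rw [hassoc, hb.2 _ (mL_lt n a), ha.2 n hn, hb.2 a ha.1, mul_assoc]
  have h0 : M 0 := ⟨by norm_num, fun n hn => by
    rw [psi_zero, C.e0, mul_one, show mL n 0 = n from C.inj _ (mL_lt n 0) n hn (by
      rw [C.mul n hn 0 (by norm_num), C.e0, mul_one])]⟩
  have hx : ∀ a < 24, M (enc a 0 0 0) := by
    let S : ℕ → Prop := fun a => M (enc a 0 0 0)
    have hS : ∀ a, a < 24 → ∀ b, b < 24 → S a → S b → S (sMul a b) := fun a ha b hb hSa hSb => by
      show M _
      rw [← (show ∀ a < 24, ∀ b < 24, mL (enc a 0 0 0) (enc b 0 0 0) = enc (sMul a b) 0 0 0 by decide +kernel) a ha b hb]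
      exact hmul _ _ hSa hSb
    have h1 : S 1 := hgen 1 (by decide)
    have h4 : S 4 := hgen 4 (by decide)
    have h8 : S 8 := by
      have := hS 4 (by norm_num) 4 (by norm_num) h4 h4; rwa [show sMul 4 4 = 8 by decide +kernel] at this
    have h00 : S 0 := h0
    have h12 : S 12 := by
      have := hS 1 (by norm_num) 1 (by norm_num) h1 h1; rwa [show sMul 1 1 = 12 by decide +kernel] at this
    have hj := sMul_lt 4 (by norm_num) 1 (by norm_num)
    have h418 : S (sMul (sMul 4 1) 8) := hS _ hj 8 (by norm_num) (hS 4 (by norm_num) 1 (by norm_num) h4 h1) h8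
    have hgen' : ∀ a < 24, ∃ p ∈ [0, 1, sMul (sMul 4 1) 8, sMul 1 (sMul (sMul 4 1) 8)], ∃ t ∈ [0, 4, 8],
        ∃ s ∈ [0, 12], a = sMul (sMul p t) s := by decide +kernel
    intro a ha
    obtain ⟨p, hp, t, ht, s, hs, rfl⟩ := hgen' a ha
    have hp' : S p ∧ p < 24 := by
      simp only [List.mem_cons, List.not_mem_nil, or_false] at hp
      rcases hp with rfl | rfl | rfl | rfl
      exacts [⟨h00, by norm_num⟩, ⟨h1, by norm_num⟩, ⟨h418, sMul_lt _ hj 8 (by norm_num)⟩,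
        ⟨hS 1 (by norm_num) _ (sMul_lt _ hj 8 (by norm_num)) h1 h418,
          sMul_lt 1 (by norm_num) _ (sMul_lt _ hj 8 (by norm_num))⟩]
    have ht' : S t ∧ t < 24 := by
      simp only [List.mem_cons, List.not_mem_nil, or_false] at ht
      rcases ht with rfl | rfl | rfl
      exacts [⟨h00, by norm_num⟩, ⟨h4, by norm_num⟩, ⟨h8, by norm_num⟩]
    have hs' : S s ∧ s < 24 := by
      simp only [List.mem_cons, List.not_mem_nil, or_false] at hs
      rcases hs with rfl | rfl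
      exacts [⟨h00, by norm_num⟩, ⟨h12, by norm_num⟩]
    exact hS _ (sMul_lt p hp'.2 t ht'.2) s hs'.2 (hS p hp'.2 t ht'.2 hp'.1 ht'.1) hs'.1
  have hpow : ∀ g ∈ [288, 576], ∀ i < 2, M (g * i) := by
    intro g hg i hi
    rcases (show i = 0 ∨ i = 1 by omega) with rfl | rfl
    · exact h0
    · rw [mul_one]; exact hgen g ((show ∀ g ∈ [288, 576], g ∈ [1, 4, 288, 576] by decide) g hg)
  obtain ⟨ha, hc, hi, hj⟩ := parts_lt m
  have hM : M m := by
    rw [word_ok m hm]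
    exact hmul _ _ (hmul _ _ (hmul _ _ (hx _ ha) (hmul _ _ (hmul _ _ (hgen 576 (by decide)) (hx _ hc))
      (hgen 576 (by decide)))) (hpow 288 (by decide) _ hi)) (hpow 576 (by decide) _ hj)
  exact hM.2

/-- The renumbered centralizer. -/
theorem symm [Finite G] (S : Swap2 z e) : Cent z (fun n => e (psi n)) where
  inj n hn m hm h := psi_inj hn hm (C.inj _ (psi_lt n hn) _ (psi_lt m hm) h)
  mul n hn m hm := C.psi_hom hm n hn
  cen g := by
    refine ⟨fun hg => ?_, fun ⟨n, hn, h⟩ => h ▸ C.e_z (psi_lt n hn)⟩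
    obtain ⟨m, hm, rfl⟩ := (C.cen g).1 hg
    exact ⟨psiInv m, (psi_inv m hm).2.2, congrArg e (psi_inv m hm).2.1⟩
  z_eq := by show e (psi 144) = z; rw [psi_spec.2.1, C.z_eq]
  inv_conj n hn h0 h2 := by
    refine C.conj_z (fun h => h0 ?_) ?_
    · exact psi_inj hn (by norm_num) ((C.inj _ (psi_lt n hn) 0 (by norm_num) (h.trans C.e0.symm)).trans psi_zero.symm)
    · show e (psi n) * e (psi n) = 1
      rw [← C.psi_hom hn n hn, h2, psi_zero, C.e0]
  qsym g := by
    have hsur : ∀ m < 1152, inQn m = true → ∃ n < 1152, inQn n = true ∧ psi n = m := fun m hm hq =>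
      ⟨psiInv m, (psi_inv m hm).2.2, by rw [← psi_inQ _ (psi_inv m hm).2.2, (psi_inv m hm).2.1]; exact hq,
        (psi_inv m hm).2.1⟩
    rintro ⟨n, hn, hq, h⟩
    obtain ⟨m, hm, hmq, h'⟩ := C.qsym g ⟨psi n, psi_lt n hn, by rw [psi_inQ n hn]; exact hq, h⟩
    obtain ⟨k, hk, hkq, ek⟩ := hsur m hm hmq
    exact ⟨k, hk, hkq, by show _ = e (psi k); rw [ek, h']⟩
  swap := by
    obtain ⟨s, hs1, hs2, hsU, hs38⟩ := S
    obtain ⟨p13, p144, q13, q157, pU, pU', pq, ⟨k₀, hk₀, e₀⟩, -, -⟩ := psi_spec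
    have hu : ∀ m ∈ u2List, m < 1152 := by decide
    have i2 : e (iL 2) = (e 2)⁻¹ := C.e_inv (by norm_num)
    have l2 : iL 2 < 1152 := (iL_ok 2 (by norm_num)).1
    have hq : (e 2)⁻¹ * z * e 2 = z := by rw [mul_assoc, ← (C.e_z (show (2 : ℕ) < 1152 by norm_num)).eq, inv_mul_cancel_left]
    have h2' : ∀ m, m < 1152 → e (cjL (iL 2) m) = (e 2)⁻¹ * e m * e 2 := fun m hm => by
      rw [C.e_cj l2 hm, i2, inv_inv]
    have step : ∀ m, m ∈ u2List → ∀ m', s * e (cjL (iL 2) m) * s⁻¹ = e m' → m' < 1152 →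
        e 2 * s * (e 2)⁻¹ * e m * (e 2 * s * (e 2)⁻¹)⁻¹ = e (cjL 2 m') := fun m hm m' h hm' => by
      rw [C.e_cj (by norm_num) hm', ← h, h2' m (hu m hm)]
      group
    refine ⟨e 2 * s * (e 2)⁻¹, ?_, ?_, fun n hn => ?_, ?_⟩
    · show _ = e (psi 13)
      rw [p13, show e 2 * s * (e 2)⁻¹ * z * (e 2 * s * (e 2)⁻¹)⁻¹ = e 2 * (s * ((e 2)⁻¹ * z * e 2) * s⁻¹) * (e 2)⁻¹ by
        group, hq, hs1, ← C.e_cj (by norm_num) (by norm_num), q13]
    · show _ * e (psi 13) * _ = z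
      rw [p13, show e 2 * s * (e 2)⁻¹ * e 157 * (e 2 * s * (e 2)⁻¹)⁻¹ =
        e 2 * (s * ((e 2)⁻¹ * e 157 * e 2) * s⁻¹) * (e 2)⁻¹ by group, ← h2' 157 (by norm_num), q157, hs2,
        (C.e_z (show (2 : ℕ) < 1152 by norm_num)).eq, mul_inv_cancel_right]
    · obtain ⟨m, hm, em⟩ := hsU _ (pq _ (pU n hn)).2.1
      obtain ⟨n', hn', en'⟩ := pU' _ (pq m hm).1
      exact ⟨n', hn', by show _ * e (psi n) * _ = e (psi n'); rw [en']; exact step _ (pU n hn) m em (hu m hm)⟩
    · obtain ⟨m, hm, hmq, em⟩ := hs38 k₀ hk₀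
      obtain ⟨n', hn', en'⟩ := pU' _ (pq m hm).1
      refine ⟨n', hn', ?_, ?_⟩
      · rw [← psi_inQ n' ((show ∀ n ∈ uList, n < 1152 by decide) n' hn'), en']
        exact (pq m hm).2.2 hmq
      · show _ * e (psi 26) * _ = e (psi n')
        rw [en']
        exact step _ (pU 26 (by decide)) m (by rw [e₀]; exact em) (hu m hm)

end Cent

end Cfsg.Agent.Spor.UFourType
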