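import Cfsg.Agent.Lib.Spor.UFourType.EGroup
import Cfsg.Agent.Lib.Spor.UFourType.Symm

/-!
The action on the elementary group of order 81: the elements inducing the matrices of the table form a subgroup of
order `81 * 360`, which contains the normalizer of `⟨d, a⟩` in the centralizer.
-/

set_option autoImplicit false
set_option maxRecDepth 100000
set_option synthInstance.maxSize 1024
set_option synthInstance.maxHeartbeats 200000

namespace Cfsg.Agent.Spor.UFourType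

variable {G : Type*} [Group G] {z : G} {e : ℕ → G} {r : G}

/-- An element induces a matrix. -/
def Act (e : ℕ → G) (r g : G) (A : ℕ) : Prop :=
  A < 43046721 ∧ ∀ v < 81, g * ev e r v * g⁻¹ = ev e r (ap A v)

/-- The numbers normalising `⟨d, a⟩`. -/
def npP (n : ℕ) : Bool :=
  Nat.blt n 1152 && (pL.contains (cjL (iL n) 52) && pL.contains (cjL (iL n) 100))

/-- The dihedral numbers. -/
def d8L : List ℕ := [0, 144, 326, 470, 576, 720, 902, 1046]

theorem np_words : ∀ n < 1152, npP n = true → ∃ k ∈ d8L, ∃ p ∈ pL, n = mL k p := by decide +kernel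

theorem np_fwd : ∀ n < 1152, cjL n 52 ∈ pL → cjL n 100 ∈ pL → npP n = true := by decide +kernel

theorem np_back : ∀ n < 1152, npP n = true → ∀ p ∈ pL, cjL (iL n) p ∈ pL := by decide +kernel

theorem d8_spec : (∀ k ∈ d8L, k < 1152 ∧ npP k = true) ∧
    ∀ k ∈ d8L, ∃ i ∈ [0, 144], ∃ j ∈ [0, 576], ∃ l ∈ [0, 326], k = mL (mL i j) l := by decide +kernel

theorem act_cols : (∀ c < 81, vS 1 c = c ∧ vS 0 c = 0 ∧ vA c 0 = c ∧ vA 0 c = c) ∧ vA 0 0 = 0 := by decide +kernel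

theorem basis_parts : (v0 1 = 1 ∧ v1 1 = 0 ∧ v2 1 = 0 ∧ v3 1 = 0) ∧ (v0 3 = 0 ∧ v1 3 = 1 ∧ v2 3 = 0 ∧ v3 3 = 0) ∧
    (v0 9 = 0 ∧ v1 9 = 0 ∧ v2 9 = 1 ∧ v3 9 = 0) ∧ (v0 27 = 0 ∧ v1 27 = 0 ∧ v2 27 = 0 ∧ v3 27 = 1) := by
  decide +kernel

theorem ap_basis (A : ℕ) : ap A 1 = mC A 0 ∧ ap A 3 = mC A 1 ∧ ap A 9 = mC A 2 ∧ ap A 27 = mC A 3 := by
  obtain ⟨⟨a0, a1, a2, a3⟩, ⟨b0, b1, b2, b3⟩, ⟨c0, c1, c2, c3⟩, ⟨d0, d1, d2, d3⟩⟩ := basis_parts
  have h := fun k => act_cols.1 (mC A k) (mC_lt A k)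
  obtain ⟨h01, h00, h0r, h0l⟩ := h 0
  obtain ⟨h11, h10, h1r, h1l⟩ := h 1
  obtain ⟨h21, h20, h2r, h2l⟩ := h 2
  obtain ⟨h31, h30, h3r, h3l⟩ := h 3
  simp only [ap_eq, a0, a1, a2, a3, b0, b1, b2, b3, c0, c1, c2, c3, d0, d1, d2, d3, h01, h00, h0r, h0l, h11, h10, h1r,
    h1l, h21, h20, h2r, h2l, h31, h30, h3r, h3l, act_cols.2, and_self]

/-- A candidate matrix fits two images. -/
def fitC (u w A : ℕ) : Bool :=
  Nat.beq (mC A 0) u && (Nat.beq (mC A 1) 3 && (((List.range 3).any fun i => (List.range 3).any fun j =>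
      Nat.beq (vA (vS i u) (vS j w)) 9 && Nat.beq (mC A 2) (vA (vS i w) (vS j 1))) &&
    (List.range 3).any fun i => (List.range 3).any fun j =>
      Nat.beq (vA (vS i u) (vS j w)) 27 && Nat.beq (mC A 3) (vA (vS i w) (vS j 1))))

/-- A pair of nonzero vectors inverted by `z`, one fixed and one inverted by a matrix. -/
def pairC (H u w : ℕ) : Bool :=
  !(Nat.beq u 0) && (!(Nat.beq w 0) && (Nat.beq (vC (v0 u) (1 * v1 u) (2 * v2 u) (2 * v3 u)) (vS 2 u) &&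
    (Nat.beq (vC (v0 w) (1 * v1 w) (2 * v2 w) (2 * v3 w)) (vS 2 w) && (Nat.beq (ap H u) u && Nat.beq (ap H w) (vS 2 w)))))

theorem pairC_ok : ([mK 2 3 27 9, mK 2 3 54 18].all fun H => (List.range 81).all fun u => (List.range 81).all fun w =>
    !(pairC H u w) || xCand.any (fitC u w)) = true := by decide +kernel

/-- The images of the second element of order three. -/
theorem cand_spec : ∀ u < 81, ∀ w < 81, u ≠ 0 → w ≠ 0 →
    vC (v0 u) (1 * v1 u) (2 * v2 u) (2 * v3 u) = vS 2 u → vC (v0 w) (1 * v1 w) (2 * v2 w) (2 * v3 w) = vS 2 w →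
    ((ap (mK 2 3 27 9) u = u ∧ ap (mK 2 3 27 9) w = vS 2 w) ∨ (ap (mK 2 3 54 18) u = u ∧ ap (mK 2 3 54 18) w = vS 2 w)) →
    ∃ A ∈ xCand, mC A 0 = u ∧ mC A 1 = 3 ∧
      (∃ i < 3, ∃ j < 3, vA (vS i u) (vS j w) = 9 ∧ mC A 2 = vA (vS i w) (vS j 1)) ∧
      ∃ i < 3, ∃ j < 3, vA (vS i u) (vS j w) = 27 ∧ mC A 3 = vA (vS i w) (vS j 1) := by
  intro u hu w hw hu0 hw0 hzu hzw hcase
  have hb : ∀ a b : ℕ, a = b → Nat.beq a b = true := fun a b h => h ▸ Nat.beq_refl a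
  obtain ⟨H, hH, h1, h2⟩ : ∃ H ∈ [mK 2 3 27 9, mK 2 3 54 18], ap H u = u ∧ ap H w = vS 2 w := by
    rcases hcase with h | h
    · exact ⟨_, List.mem_cons_self, h⟩
    · exact ⟨_, List.mem_cons_of_mem _ List.mem_cons_self, h⟩
  have h := List.all_eq_true.1 (List.all_eq_true.1 (List.all_eq_true.1 pairC_ok H hH) u (List.mem_range.2 hu)) w
    (List.mem_range.2 hw)
  have hp : pairC H u w = true := by
    simp only [pairC, Bool.and_eq_true, Bool.not_eq_true', Bool.eq_false_iff]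
    exact ⟨fun e => hu0 (Nat.eq_of_beq_eq_true e), fun e => hw0 (Nat.eq_of_beq_eq_true e), hb _ _ hzu, hb _ _ hzw,
      hb _ _ h1, hb _ _ h2⟩
  rw [hp, Bool.not_true, Bool.false_or, List.any_eq_true] at h
  obtain ⟨A, hA, hf⟩ := h
  simp only [fitC, Bool.and_eq_true, List.any_eq_true, List.mem_range] at hf
  obtain ⟨c0, c1, ⟨i, hi, j, hj, k1, k2⟩, i', hi', j', hj', k3, k4⟩ := hf
  exact ⟨A, hA, Nat.eq_of_beq_eq_true c0, Nat.eq_of_beq_eq_true c1,
    ⟨i, hi, j, hj, Nat.eq_of_beq_eq_true k1, Nat.eq_of_beq_eq_true k2⟩,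
    i', hi', j', hj', Nat.eq_of_beq_eq_true k3, Nat.eq_of_beq_eq_true k4⟩

theorem gen_cols : xGen.getD 0 0 = mK 1 3 18 54 ∧ xGen.getD 1 0 = mK 1 6 9 54 ∧ xGen.getD 2 0 = mK 2 6 27 18 ∧
    xGen.getD 3 0 = mK 1 9 27 3 ∧ mM (mK 2 6 54 9) (mK 1 3 18 54) = mK 2 6 27 18 ∧
    mM (mK 2 6 27 18) (mK 1 6 9 54) = mK 2 3 27 9 ∧ mM (mK 2 6 54 9) (mK 1 6 9 54) = mK 2 3 54 18 := by
  decide +kernel

/-- The vectors fixed by `z t` and inverted by `z`, and those fixed by `t` and inverted by `z`. -/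
theorem eig_codes : ∀ v < 81, vC (v0 v) (1 * v1 v) (2 * v2 v) (2 * v3 v) = vS 2 v →
    (vC (v0 v) (2 * v1 v) (1 * v2 v) (2 * v3 v) = v → v = 0 ∨ v = 9 ∨ v = 18) ∧
    (vC (v0 v) (2 * v1 v) (1 * v2 v) (2 * v3 v) = vS 2 v → v = 0 ∨ v = 27 ∨ v = 54) := by decide +kernel

namespace Frm

variable (F : Frm z e r)
include F

theorem ev_ne {v : ℕ} (hv : v < 81) (h0 : v ≠ 0) : ev e r v ≠ 1 := fun h =>
  h0 (F.ev_inj hv (by norm_num) (h.trans F.ev_zero.symm))

/-- A matrix from the images of the basis. -/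
theorem act_of_basis {g : G} {a b c d : ℕ} (ha : a < 81) (hb : b < 81) (hc : c < 81) (hd : d < 81)
    (h1 : g * e 52 * g⁻¹ = ev e r a) (h2 : g * e 100 * g⁻¹ = ev e r b) (h3 : g * (r * e 100 * r⁻¹) * g⁻¹ = ev e r c)
    (h4 : g * (r * (r * e 100 * r⁻¹) * r⁻¹) * g⁻¹ = ev e r d) : Act e r g (mK a b c d) := by
  refine ⟨mK_lt ha hb hc hd, fun v _ => ?_⟩
  obtain ⟨k0, k1, k2, k3⟩ := mK_cols ha hb hc hd
  rw [ap_eq, k0, k1, k2, k3, F.ev_add, F.ev_add, F.ev_add, F.ev_mul, F.ev_mul, F.ev_mul, F.ev_mul, ← h1, ← h2, ← h3,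
    ← h4]
  simp only [conj_pow (a := g)]
  unfold ev
  group

theorem act_mul {g h : G} {A B : ℕ} (hg : Act e r g A) (hh : Act e r h B) : Act e r (g * h) (mM A B) := by
  obtain ⟨b1, b2, b3, b4⟩ := ap_basis B
  obtain ⟨e1, e2, e3, e4⟩ := F.ev_basis
  have key : ∀ v < 81, g * h * ev e r v * (g * h)⁻¹ = ev e r (ap A (ap B v)) := fun v hv => by
    rw [← hg.2 _ (ap_lt B v), ← hh.2 v hv]; group
  rw [mM_eq]
  refine F.act_of_basis (ap_lt _ _) (ap_lt _ _) (ap_lt _ _) (ap_lt _ _) ?_ ?_ ?_ ?_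
  · rw [← e1, key 1 (by norm_num), b1]
  · rw [← e2, key 3 (by norm_num), b2]
  · rw [← e3, key 9 (by norm_num), b3]
  · rw [← e4, key 27 (by norm_num), b4]

theorem act_inj {g : G} {A B : ℕ} (hg : Act e r g A) (hh : Act e r g B) : A = B := by
  have h : ∀ v < 81, ap A v = ap B v := fun v hv =>
    F.ev_inj (ap_lt _ _) (ap_lt _ _) ((hg.2 v hv).symm.trans (hh.2 v hv))
  obtain ⟨a1, a2, a3, a4⟩ := ap_basis A
  obtain ⟨b1, b2, b3, b4⟩ := ap_basis B
  rw [← mK_self hg.1, ← mK_self hh.1, ← a1, ← a2, ← a3, ← a4, ← b1, ← b2, ← b3, ← b4, h 1 (by norm_num),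
    h 3 (by norm_num), h 9 (by norm_num), h 27 (by norm_num)]

theorem act_one : Act e r 1 mI := by
  obtain ⟨e1, e2, e3, e4⟩ := F.ev_basis
  exact F.act_of_basis (by norm_num) (by norm_num) (by norm_num) (by norm_num)
    (by rw [e1]; group) (by rw [e2]; group) (by rw [e3]; group) (by rw [e4]; group)

theorem act_mem {g : G} (hg : g ∈ F.E) : Act e r g mI := by
  obtain ⟨e1, e2, e3, e4⟩ := F.ev_basis
  obtain ⟨m1, m2, m3, m4⟩ := F.gen_mem
  refine F.act_of_basis (by norm_num) (by norm_num) (by norm_num) (by norm_num) ?_ ?_ ?_ ?_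
  · rw [e1, (F.E_comm hg m1).eq, mul_inv_cancel_right]
  · rw [e2, (F.E_comm hg m2).eq, mul_inv_cancel_right]
  · rw [e3, (F.E_comm hg m3).eq, mul_inv_cancel_right]
  · rw [e4, (F.E_comm hg m4).eq, mul_inv_cancel_right]

theorem mem_of_act [Finite G] {g : G} (hg : Act e r g mI) : g ∈ F.E := by
  refine F.self_cent fun v hv => ?_
  have h1 := F.act_one.2 v hv
  rw [one_mul, inv_one, mul_one] at h1
  exact mul_inv_eq_iff_eq_mul.1 ((hg.2 v hv).trans h1.symm)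

/-- An element of the centralizer normalising `⟨d, a⟩` induces a matrix. -/
theorem act_num [Finite G] {n : ℕ} (hn : n < 1152) (hP : npP n = true) : ∃ A, Act e r (e n) A := by
  have hi := (iL_ok n hn).1
  have hEE : ∀ x ∈ F.E, e n * x * (e n)⁻¹ ∈ F.E := by
    intro x hx
    obtain ⟨h1, h2⟩ := F.cent.mem_CP.1 (F.E_CP hx)
    have hxP : ∀ p ∈ pL, Commute x (e p) := by
      intro p hp
      have key : ∀ n ∈ pL, ∃ i ∈ [0, 52, 104], ∃ j ∈ [0, 100, 56], n = mL i j := by decide +kernel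
      obtain ⟨i, hi, j, hj, rfl⟩ := key p hp
      have hi' : i < 1152 ∧ Commute x (e i) := by
        simp only [List.mem_cons, List.not_mem_nil, or_false] at hi
        rcases hi with rfl | rfl | rfl
        exacts [⟨by norm_num, F.cent.e0.symm ▸ Commute.one_right _⟩, ⟨by norm_num, h1⟩,
          ⟨by norm_num, F.cent.e104.symm ▸ h1.inv_right⟩]
      have hj' : j < 1152 ∧ Commute x (e j) := by
        simp only [List.mem_cons, List.not_mem_nil, or_false] at hj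
        rcases hj with rfl | rfl | rfl
        exacts [⟨by norm_num, F.cent.e0.symm ▸ Commute.one_right _⟩, ⟨by norm_num, h2⟩,
          ⟨by norm_num, F.cent.e56.symm ▸ h2.inv_right⟩]
      rw [F.cent.mul i hi'.1 j hj'.1]
      exact hi'.2.mul_right hj'.2
    have hc : ∀ p ∈ [52, 100], Commute (e n * x * (e n)⁻¹) (e p) := by
      intro p hp
      have hp' : p ∈ pL ∧ p < 1152 := (show ∀ p ∈ [52, 100], p ∈ pL ∧ p < 1152 by decide) p hp
      have h := (Commute.conj_iff (e n)).2 (hxP _ (np_back n hn hP p hp'.1))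
      rwa [F.cent.e_cj hi hp'.2, F.cent.e_inv hn,
        show e n * ((e n)⁻¹ * e p * ((e n)⁻¹)⁻¹) * (e n)⁻¹ = e p by group] at h
    refine (F.cp_spec).2 _ (F.cent.mem_CP.2 ⟨hc 52 (by simp), hc 100 (by simp)⟩) ?_
    rw [show e n * x * (e n)⁻¹ = MulAut.conj (e n) x by simp, (MulAut.conj (e n)).orderOf_eq]
    exact F.E_odd hx
  obtain ⟨m1, m2, m3, m4⟩ := F.gen_mem
  obtain ⟨a, ha, ea⟩ := hEE _ m1
  obtain ⟨b, hb, eb⟩ := hEE _ m2
  obtain ⟨c, hc, ec⟩ := hEE _ m3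
  obtain ⟨d, hd, ed⟩ := hEE _ m4
  exact ⟨_, F.act_of_basis ha hb hc hd ea.symm eb.symm ec.symm ed.symm⟩

theorem act_z : Act e r z (xGen.getD 0 0) := by
  obtain ⟨e1, e2, e3, e4⟩ := F.ev_basis
  rw [gen_cols.1]
  refine F.act_of_basis (by norm_num) (by norm_num) (by norm_num) (by norm_num) ?_ ?_ ?_ ?_ <;> rw [F.z_inv]
  · rw [← e1, F.z_act]; congr 1
  · rw [← e2, F.z_act]; congr 1
  · rw [← e3, F.z_act]; congr 1
  · rw [← e4, F.z_act]; congr 1

theorem act_t : Act e r (e 576) (xGen.getD 1 0) := by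
  obtain ⟨e1, e2, e3, e4⟩ := F.ev_basis
  rw [gen_cols.2.1]
  refine F.act_of_basis (by norm_num) (by norm_num) (by norm_num) (by norm_num) ?_ ?_ ?_ ?_ <;> rw [F.t_inv]
  · rw [← e1, F.t_act]; congr 1
  · rw [← e2, F.t_act]; congr 1
  · rw [← e3, F.t_act]; congr 1
  · rw [← e4, F.t_act]; congr 1

/-- The cube of the element of order three commutes with `a`. -/
theorem r_cube : r ^ 3 * e 100 * (r ^ 3)⁻¹ = e 100 := by
  have h576 : Commute (r ^ 3) (e 576) := by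
    have h := (Commute.conj_iff r).2 F.r3z
    rw [F.r1] at h
    rwa [show r * r ^ 3 * r⁻¹ = r ^ 3 by group] at h
  obtain ⟨n, hn, en⟩ := (F.cent.cen _).1 F.r3z
  have h52 : Commute (r ^ 3) (e 52) := F.rd.pow_left 3
  rw [← en] at h52 h576
  have c1 := (F.cent.e_comm hn (by norm_num)).1 h52
  have c2 := (F.cent.e_comm hn (by norm_num)).1 h576
  have h3 : mL n (mL n n) = 0 := F.cent.inj _ (mL_lt _ _) 0 (by norm_num) (by
    rw [F.cent.mul n hn _ (mL_lt _ _), F.cent.mul n hn n hn, F.cent.e0, en, ← pow_three, ← pow_mul, F.r9])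
  rcases (fix_W n hn c1 c2).1 h3 with rfl | rfl | rfl
  · rw [← en, F.cent.e0]; group
  · rw [← en, F.cent.da.eq, mul_inv_cancel_right]
  · rw [← en, F.cent.e104, F.cent.da.inv_left.eq, mul_inv_cancel_right]

theorem act_r : Act e r r (xGen.getD 3 0) := by
  obtain ⟨e1, e2, e3, e4⟩ := F.ev_basis
  rw [gen_cols.2.2.2.1]
  refine F.act_of_basis (by norm_num) (by norm_num) (by norm_num) (by norm_num) ?_ e3.symm e4.symm ?_
  · rw [e1, F.rd.eq, mul_inv_cancel_right]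
  · rw [e2]; conv_rhs => rw [← F.r_cube]
    simp only [pow_three, mul_inv_rev, mul_assoc]

/-- An element inducing the matrix of `h`. -/
theorem exists_act_h [Finite G] : ∃ n ∈ [326, 470], Act e r (e n) (xGen.getD 2 0) ∧
    (Act e r (e 902) (mK 2 3 27 9) ∨ Act e r (e 902) (mK 2 3 54 18)) := by
  obtain ⟨A, hA⟩ := F.act_num (show (326 : ℕ) < 1152 by norm_num) (by decide +kernel)
  obtain ⟨e1, e2, e3, e4⟩ := F.ev_basis
  set h := e 326 with hh
  have hht : h * e 576 * h⁻¹ = e 720 := by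
    rw [hh, ← F.cent.e_cj (by norm_num) (by norm_num), show cjL 326 576 = 720 by decide +kernel]
  have hz : h * z * h⁻¹ = z := by rw [(F.cent.e_z (show (326 : ℕ) < 1152 by norm_num)).eq, mul_inv_cancel_right]
  have h2 : h * h = z := by
    rw [hh, ← F.cent.mul 326 (by norm_num) 326 (by norm_num), show mL 326 326 = 144 by decide +kernel, F.cent.z_eq]
  have hd : ev e r (mC A 0) = ev e r 2 := by
    rw [← (ap_basis A).1, ← hA.2 1 (by norm_num), e1, hh, ← F.cent.e_cj (by norm_num) (by norm_num),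
      show cjL 326 52 = 104 by decide +kernel, F.cent.e104, ← e1, F.ev_inv]
    congr 1
  have ha : ev e r (mC A 1) = ev e r 6 := by
    rw [← (ap_basis A).2.1, ← hA.2 3 (by norm_num), e2, hh, ← F.cent.e_cj (by norm_num) (by norm_num),
      show cjL 326 100 = 56 by decide +kernel, F.cent.e56, ← e2, F.ev_inv]
    congr 1
  have hk : ∀ x y, ∀ s : G, s * x * s = y → h * s * h⁻¹ * (h * x * h⁻¹) * (h * s * h⁻¹) = h * y * h⁻¹ :=
    fun x y s hxy => by rw [← hxy]; group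
  have hzts : ∀ v, e 720 * ev e r v * e 720 = z * (e 576 * ev e r v * e 576) * z := fun v => by
    conv_lhs => rw [← F.zt]
    nth_rw 2 [(show Commute z (e 576) from (F.cent.e_z (by norm_num)).symm).eq]
    group
  have hcomp : ∀ v < 81, vC (v0 (vC (v0 v) (2 * v1 v) (1 * v2 v) (2 * v3 v)))
      (1 * v1 (vC (v0 v) (2 * v1 v) (1 * v2 v) (2 * v3 v))) (2 * v2 (vC (v0 v) (2 * v1 v) (1 * v2 v) (2 * v3 v)))
      (2 * v3 (vC (v0 v) (2 * v1 v) (1 * v2 v) (2 * v3 v))) = v →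
      vC (v0 v) (1 * v1 v) (2 * v2 v) (2 * v3 v) = vS 2 v →
      vC (v0 v) (2 * v1 v) (1 * v2 v) (2 * v3 v) = vS 2 v := by decide +kernel
  have hc2 : mC A 2 = 27 ∨ mC A 2 = 54 := by
    set v := mC A 2 with hv
    have hvl : v < 81 := mC_lt _ _
    have ev' : ev e r v = h * ev e r 9 * h⁻¹ := by rw [hA.2 9 (by norm_num), (ap_basis A).2.2.1]
    have k1 := hk _ _ _ (F.z_act 9)
    rw [hz, ← ev', show vC (v0 9) (1 * v1 9) (2 * v2 9) (2 * v3 9) = vS 2 9 by decide +kernel, F.ev_mul,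
      ← conj_pow, ← ev', ← F.ev_mul, F.z_act] at k1
    have k2 := hk _ _ _ (F.t_act 9)
    rw [hht, ← ev', show vC (v0 9) (2 * v1 9) (1 * v2 9) (2 * v3 9) = 9 by decide +kernel, ← ev', hzts, F.t_act,
      F.z_act] at k2
    have q1 := F.ev_inj (vC_lt _ _ _ _) (vS_lt _ _) k1
    have q2 := F.ev_inj (vC_lt _ _ _ _) hvl k2
    rcases (eig_codes v hvl q1).2 (hcomp v hvl q2 q1) with h' | h'
    · exfalso
      rw [h', F.ev_zero, eq_comm, mul_inv_eq_one, mul_eq_left] at ev'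
      exact F.ev_ne (by norm_num) (by norm_num) ev'
    · exact h'
  have h3 : ev e r (mC A 3) = h * ev e r 27 * h⁻¹ := by rw [hA.2 27 (by norm_num), (ap_basis A).2.2.2]
  have h4 : ev e r (mC A 2) = h * ev e r 9 * h⁻¹ := by rw [hA.2 9 (by norm_num), (ap_basis A).2.2.1]
  have hhc : h * ev e r (mC A 2) * h⁻¹ = ev e r 18 := by
    rw [h4, show h * (h * ev e r 9 * h⁻¹) * h⁻¹ = (h * h) * ev e r 9 * (h * h)⁻¹ by group, h2, F.z_inv, F.z_act]
    congr 1
  have hA' : A = mK 2 6 27 18 ∨ A = mK 2 6 54 9 := by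
    have hc0 := F.ev_inj (mC_lt _ _) (by norm_num) hd
    have hc1 := F.ev_inj (mC_lt _ _) (by norm_num) ha
    rcases hc2 with hc | hc
    · rw [hc, ← h3] at hhc
      left; rw [← mK_self hA.1, hc0, hc1, hc, F.ev_inj (mC_lt _ _) (by norm_num) hhc]
    · rw [hc, show (54 : ℕ) = vS 2 27 by decide +kernel, F.ev_mul, ← conj_pow, ← h3, ← F.ev_mul] at hhc
      have q := F.ev_inj (vS_lt _ _) (by norm_num) hhc
      have : ∀ v < 81, vS 2 v = 18 → v = 9 := by decide +kernel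
      right; rw [← mK_self hA.1, hc0, hc1, hc, this _ (mC_lt _ _) q]
  have h470 : e 470 = h * z := by
    rw [hh, ← F.cent.z_eq, ← F.cent.mul 326 (by norm_num) 144 (by norm_num), show mL 326 144 = 470 by decide +kernel]
  have h902 : e 902 = h * e 576 := by
    rw [hh, ← F.cent.mul 326 (by norm_num) 576 (by norm_num), show mL 326 576 = 902 by decide +kernel]
  obtain ⟨g0, g1, g2, -, g5, g6, g7⟩ := gen_cols
  rcases hA' with rfl | rfl
  · refine ⟨326, by simp, by rw [g2]; exact hA, Or.inl ?_⟩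
    rw [h902, ← g6, ← g1]; exact F.act_mul hA F.act_t
  · refine ⟨470, by simp, ?_, Or.inr ?_⟩
    · rw [h470, g2, ← g5, ← g0]; exact F.act_mul hA F.act_z
    · rw [h902, ← g7, ← g1]; exact F.act_mul hA F.act_t

/-- An element inducing a matrix outside the two subgroups of order 24. -/
theorem exists_outside [Finite G] {r' : G} (F' : Frm z (fun n => e (psi n)) r') :
    ∃ g A, Act e r g A ∧ A ∈ xT ∧ A ∉ xA ∧ A ∉ xB := by
  obtain ⟨p52, p100, p576, p144⟩ :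
      psi 52 = 100 ∧ psi 100 = 52 ∧ psi 576 = 902 ∧ psi 144 = 144 := by decide +kernel
  have hE : ∀ x ∈ F'.E, x ∈ F.E := fun x hx => by
    refine (F.cp_spec).2 x ?_ (F'.E_odd hx)
    obtain ⟨h1, h2⟩ := F'.cent.mem_CP.1 (F'.E_CP hx)
    simp only [p52, p100] at h1 h2
    exact F.cent.mem_CP.2 ⟨h2, h1⟩
  obtain ⟨e1, e2, e3, e4⟩ := F.ev_basis
  have m3 := hE _ F'.gen_mem.2.2.1
  have m4 := hE _ F'.gen_mem.2.2.2
  have hb3 := F'.b_z
  have hbt := F'.b_t
  have hcz := F'.c_z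
  have hct := F'.c_t
  have hcube := F'.r_cube
  have hrd := F'.rd
  simp only [p52, p100, p576] at m3 m4 hb3 hbt hcz hct hcube hrd
  obtain ⟨u, hu, eu⟩ := m3
  obtain ⟨w, hw, ew⟩ := m4
  obtain ⟨n, -, -, h902⟩ := F.exists_act_h
  have hu0 : u ≠ 0 := fun h => by
    rw [h, F.ev_zero, eq_comm, mul_inv_eq_one, mul_eq_left] at eu
    exact F.ev_ne (v := 1) (by norm_num) (by norm_num) (e1.trans eu)
  have hw0 : w ≠ 0 := fun h => by
    rw [h, F.ev_zero, eq_comm, mul_inv_eq_one, mul_eq_left, mul_inv_eq_one, mul_eq_left] at ew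
    exact F.ev_ne (v := 1) (by norm_num) (by norm_num) (e1.trans ew)
  have hzu : vC (v0 u) (1 * v1 u) (2 * v2 u) (2 * v3 u) = vS 2 u :=
    F.ev_inj (vC_lt _ _ _ _) (vS_lt _ _) (by rw [← F.z_act, ← F.ev_inv, eu, hb3])
  have hzw : vC (v0 w) (1 * v1 w) (2 * v2 w) (2 * v3 w) = vS 2 w :=
    F.ev_inj (vC_lt _ _ _ _) (vS_lt _ _) (by rw [← F.z_act, ← F.ev_inv, ew, hcz])
  have ht : (e 902)⁻¹ = e 902 := inv_eq_of_mul_eq_one_right (by
    have := F'.t_sq; simpa only [p576] using this)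
  have hh : ∀ B, Act e r (e 902) B → ap B u = u ∧ ap B w = vS 2 w := fun B hB =>
    ⟨F.ev_inj (ap_lt _ _) hu (by rw [← hB.2 u hu, eu, ht, hbt]),
      F.ev_inj (ap_lt _ _) (vS_lt _ _) (by rw [← hB.2 w hw, ← F.ev_inv, ew, ht, hct])⟩
  obtain ⟨A, hA, c0, c1, ⟨i, -, j, -, k2, c2⟩, i', -, j', -, k3, c3⟩ :=
    cand_spec u hu w hw hu0 hw0 hzu hzw (h902.imp (hh _) (hh _))
  have hAlt : A < 43046721 := xT_lt A (xCand_ok A hA).1
  have hu' : r' * ev e r u * r'⁻¹ = ev e r w := by rw [eu, ew]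
  have hw' : r' * ev e r w * r'⁻¹ = ev e r 1 := by
    rw [ew, e1]
    conv_rhs => rw [← hcube]
    simp only [pow_three, mul_inv_rev, mul_assoc]
  have hbc : ∀ i j, r' * ev e r (vA (vS i u) (vS j w)) * r'⁻¹ = ev e r (vA (vS i w) (vS j 1)) := fun i j => by
    rw [F.ev_add, F.ev_add, F.ev_mul, F.ev_mul, F.ev_mul, F.ev_mul,
      show r' * (ev e r u ^ i * ev e r w ^ j) * r'⁻¹ = r' * ev e r u ^ i * r'⁻¹ * (r' * ev e r w ^ j * r'⁻¹) by group,
      ← conj_pow, ← conj_pow, hu', hw']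
  have hAct : Act e r r' A := by
    rw [← mK_self hAlt]
    refine F.act_of_basis (mC_lt _ _) (mC_lt _ _) (mC_lt _ _) (mC_lt _ _) ?_ ?_ ?_ ?_
    · rw [c0, eu]
    · rw [c1, e2, hrd.eq, mul_inv_cancel_right]
    · rw [c2, ← e3, ← k2, hbc]
    · rw [c3, ← e4, ← k3, hbc]
  obtain ⟨hAT, hcase⟩ := xCand_ok A hA
  rcases hcase with ⟨n1, n2⟩ | ⟨n0, n1, n2⟩
  · exact ⟨r', A, hAct, hAT, n1, n2⟩
  · exact ⟨r * r', _, F.act_mul F.act_r hAct, n0, n1, n2⟩

/-- Every matrix of the table is induced, and the table is closed. -/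
theorem xT_real [Finite G] {r' : G} (F' : Frm z (fun n => e (psi n)) r') :
    (∀ A ∈ xT, ∃ g, Act e r g A) ∧ ∀ A ∈ xT, ∀ B ∈ xT, mM A B ∈ xT := by
  obtain ⟨g, A, hg, hA, n1, n2⟩ := F.exists_outside F'
  obtain ⟨n, -, hn, -⟩ := F.exists_act_h
  have hreal : ∀ B ∈ xT, ∃ x, Act e r x B := xT_all (S := fun B => ∃ x, Act e r x B) ⟨1, F.act_one⟩
    (fun B C ⟨x, hx⟩ ⟨y, hy⟩ => ⟨x * y, F.act_mul hx hy⟩)
    (fun k hk => by
      interval_cases k
      · exact ⟨z, F.act_z⟩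
      · exact ⟨_, F.act_t⟩
      · exact ⟨_, hn⟩) hA n1 n2 ⟨g, hg⟩
  refine ⟨hreal, fun A hA B hB => ?_⟩
  obtain ⟨i, hi, rfl⟩ := List.mem_iff_getElem.1 hB
  suffices h : ∀ i, i < 360 → mM A (xT.getD i 0) ∈ xT by
    have := h i (xT_length ▸ hi)
    rwa [List.getD_eq_getElem _ _ hi] at this
  intro i
  induction i using Nat.strong_induction_on with
  | _ i ih =>
    intro hi'
    obtain ⟨a, ha⟩ := hreal A hA
    rcases xPar_ok i hi' with rfl | ⟨h1, h2, h3⟩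
    · rw [xT_zero]
      have := F.act_mul ha F.act_one
      rw [mul_one] at this
      rwa [F.act_inj this ha]
    · have hlt : (xPar.getD i (0, 0)).2 < xGen.length := h2
      have hgm : xGen.getD (xPar.getD i (0, 0)).2 0 ∈ xGen := by
        rw [List.getD_eq_getElem _ _ hlt]; exact List.getElem_mem _
      have hPm : xT.getD (xPar.getD i (0, 0)).1 0 ∈ xT := by
        rw [List.getD_eq_getElem _ _ (show _ < xT.length by rw [xT_length]; omega)]; exact List.getElem_mem _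
      obtain ⟨p, hp⟩ := hreal _ hPm
      obtain ⟨q, hq⟩ := hreal _ (xGen_mem _ hgm)
      have k1 := F.act_mul (F.act_mul ha hp) hq
      have k2 := F.act_mul ha (F.act_mul hp hq)
      rw [mul_assoc] at k1
      rw [← h3, F.act_inj k2 k1]
      exact xT_gen (ih _ h1 (by omega)) hgm

end Frm

end Cfsg.Agent.Spor.UFourType
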