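import Cfsg.Agent.Lib.Spor.UFourType.MGroup

/-!
The subgroup of order `81 * 360` of elements inducing the matrices of the table.
-/

set_option autoImplicit false
set_option maxRecDepth 100000
set_option synthInstance.maxSize 1024

namespace Cfsg.Agent.Spor.UFourType

variable {G : Type*} [Group G] {z : G} {e : ℕ → G} {r r' : G}

/-- The two elements of order three, for the numbering and for its twin. -/
structure Two (z : G) (e : ℕ → G) (r r' : G) : Prop where
  fst : Frm z e r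
  snd : Frm z (fun n => e (psi n)) r'

theorem Cent.exists_two [Finite G] (C : Cent z e) (S : Swap2 z e) : ∃ r r', Two z e r r' := by
  obtain ⟨r, hr⟩ := C.exists_frm
  obtain ⟨r', hr'⟩ := (C.symm S).exists_frm
  exact ⟨r, r', hr, hr'⟩

namespace Two

variable [Finite G] (W : Two z e r r')
include W

/-- The normalizer of the elementary group, as far as it is known. -/
def M : Subgroup G where
  carrier := {g | ∃ A ∈ xT, Act e r g A}
  one_mem' := ⟨mI, xI_mem, W.fst.act_one⟩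
  mul_mem' := by
    rintro g h ⟨A, hA, ga⟩ ⟨B, hB, hb⟩
    exact ⟨_, (W.fst.xT_real W.snd).2 A hA B hB, W.fst.act_mul ga hb⟩
  inv_mem' := by
    rintro g ⟨A, hA, ga⟩
    have hpow : ∀ k : ℕ, ∃ B ∈ xT, Act e r (g ^ k) B := by
      intro k
      induction k with
      | zero => exact ⟨mI, xI_mem, by rw [pow_zero]; exact W.fst.act_one⟩
      | succ k ih =>
        obtain ⟨B, hB, gb⟩ := ih
        exact ⟨_, (W.fst.xT_real W.snd).2 B hB A hA, by rw [pow_succ]; exact W.fst.act_mul gb ga⟩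
    have h : g⁻¹ = g ^ (orderOf g - 1) := (eq_inv_of_mul_eq_one_left (by
      rw [← pow_succ, Nat.sub_add_cancel (orderOf_pos g), pow_orderOf_eq_one])).symm
    rw [h]
    exact hpow _

theorem mem_M {g : G} : g ∈ W.M ↔ ∃ A ∈ xT, Act e r g A := Iff.rfl

theorem E_le : W.fst.E ≤ W.M := fun _ hg => ⟨mI, xI_mem, W.fst.act_mem hg⟩

theorem z_mem : z ∈ W.M := ⟨_, xGen_mem _ (by decide +kernel), W.fst.act_z⟩

theorem t_mem : e 576 ∈ W.M := ⟨_, xGen_mem _ (by decide +kernel), W.fst.act_t⟩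

theorem r_mem : r ∈ W.M := ⟨_, xGen_mem _ (by decide +kernel), W.fst.act_r⟩

theorem p_mem {p : ℕ} (hp : p ∈ pL) : e p ∈ W.fst.E := by
  have key : ∀ n ∈ pL, ∃ i ∈ [0, 52, 104], ∃ j ∈ [0, 100, 56], n = mL i j := by decide +kernel
  obtain ⟨i, hi, j, hj, rfl⟩ := key p hp
  have hlt : ∀ i ∈ [0, 52, 104, 100, 56], i < 1152 ∧ e i ∈ W.fst.E := by
    intro i hi
    simp only [List.mem_cons, List.not_mem_nil, or_false] at hi
    rcases hi with rfl | rfl | rfl | rfl | rfl
    · exact ⟨by norm_num, W.fst.cent.e0.symm ▸ W.fst.E.one_mem⟩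
    · exact ⟨by norm_num, W.fst.gen_mem.1⟩
    · exact ⟨by norm_num, W.fst.cent.e104.symm ▸ W.fst.E.inv_mem W.fst.gen_mem.1⟩
    · exact ⟨by norm_num, W.fst.gen_mem.2.1⟩
    · exact ⟨by norm_num, W.fst.cent.e56.symm ▸ W.fst.E.inv_mem W.fst.gen_mem.2.1⟩
  obtain ⟨hi', ei⟩ := hlt i ((show ∀ i ∈ [0, 52, 104], i ∈ [0, 52, 104, 100, 56] by decide) i hi)
  obtain ⟨hj', ej⟩ := hlt j ((show ∀ j ∈ [0, 100, 56], j ∈ [0, 52, 104, 100, 56] by decide) j hj)
  rw [W.fst.cent.mul i hi' j hj']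
  exact mul_mem ei ej

theorem np_mem {n : ℕ} (hn : n < 1152) (hP : npP n = true) : e n ∈ W.M := by
  obtain ⟨k, hk, p, hp, rfl⟩ := np_words n hn hP
  obtain ⟨i, hi, j, hj, l, hl, rfl⟩ := d8_spec.2 k hk
  have hh : e 326 ∈ W.M := by
    obtain ⟨n, hn', hA, -⟩ := W.fst.exists_act_h
    have hm : e n ∈ W.M := ⟨_, xGen_mem _ (by decide +kernel), hA⟩
    simp only [List.mem_cons, List.not_mem_nil, or_false] at hn'
    rcases hn' with rfl | rfl
    · exact hm
    · have e1 := W.fst.cent.mul 470 (by norm_num) 144 (by norm_num)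
      rw [show mL 470 144 = 326 by decide +kernel, W.fst.cent.z_eq] at e1
      rw [e1]
      exact mul_mem hm W.z_mem
  have hij : i < 1152 ∧ e i ∈ W.M ∧ j < 1152 ∧ e j ∈ W.M ∧ l < 1152 ∧ e l ∈ W.M := by
    simp only [List.mem_cons, List.not_mem_nil, or_false] at hi hj hl
    rcases hi with rfl | rfl <;> rcases hj with rfl | rfl <;> rcases hl with rfl | rfl <;>
      simp [W.fst.cent.e0, W.fst.cent.z_eq, W.z_mem, W.t_mem, hh]
  obtain ⟨hi', ei, hj', ej, hl', el⟩ := hij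
  rw [W.fst.cent.mul _ (mL_lt _ _) p (p_nums.1 p hp).1, W.fst.cent.mul _ (mL_lt _ _) l hl', W.fst.cent.mul i hi' j hj']
  exact mul_mem (mul_mem (mul_mem ei ej) el) (W.E_le (W.p_mem hp))

theorem ev_P {v : ℕ} (h2 : v2 v = 0) (h3 : v3 v = 0) : ∃ p ∈ pL, ev e r v = e p := by
  have m52 : ∀ i < 3, e 52 ^ i = e ([0, 52, 104].getD i 0) := by
    intro i hi
    interval_cases i
    · simp [W.fst.cent.e0]
    · simp
    · simp [pow_two, inv_of_three W.fst.d3, W.fst.cent.e104]
  have m100 : ∀ j < 3, e 100 ^ j = e ([0, 100, 56].getD j 0) := by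
    intro j hj
    interval_cases j
    · simp [W.fst.cent.e0]
    · simp
    · simp [pow_two, inv_of_three W.fst.a3, W.fst.cent.e56]
  have key : ∀ i < 3, ∀ j < 3, ([0, 52, 104].getD i 0) < 1152 ∧ ([0, 100, 56].getD j 0) < 1152 ∧
      mL ([0, 52, 104].getD i 0) ([0, 100, 56].getD j 0) ∈ pL := by decide +kernel
  have hi : v0 v < 3 := Nat.mod_lt _ (by norm_num)
  have hj : v1 v < 3 := Nat.mod_lt _ (by norm_num)
  obtain ⟨k1, k2, k3⟩ := key _ hi _ hj
  refine ⟨_, k3, ?_⟩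
  rw [ev, h2, h3, pow_zero, pow_zero, mul_one, mul_one, m52 _ hi, m100 _ hj, W.fst.cent.mul _ k1 _ k2]

theorem ev_comm_z {v : ℕ} (hv : v < 81) (h : Commute (ev e r v) z) : v2 v = 0 ∧ v3 v = 0 := by
  have hzw := W.fst.z_act v
  rw [mul_assoc, h.eq, ← mul_assoc, W.fst.cent.z_mul_z, one_mul] at hzw
  exact (sgn_codes v hv).2.2.2.2.2.2 (W.fst.ev_inj hv (vC_lt _ _ _ _) hzw).symm

/-- The elements of the subgroup commuting with `z`. -/
theorem mem_inf {g : G} (hg : g ∈ W.M) (hc : Commute g z) : ∃ n < 1152, npP n = true ∧ e n = g := by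
  obtain ⟨A, -, hA⟩ := hg
  obtain ⟨n, hn, rfl⟩ := (W.fst.cent.cen g).1 hc
  refine ⟨n, hn, ?_, rfl⟩
  have himg : ∀ m ∈ [52, 100], cjL n m ∈ pL := by
    intro m hm
    have hm' : m < 1152 ∧ m ∈ pL ∧ ∃ v < 81, ev e r v = e m := by
      simp only [List.mem_cons, List.not_mem_nil, or_false] at hm
      rcases hm with rfl | rfl
      · exact ⟨by norm_num, by decide, W.fst.gen_mem.1⟩
      · exact ⟨by norm_num, by decide, W.fst.gen_mem.2.1⟩
    obtain ⟨h1, hp, v, hv, ev'⟩ := hm'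
    have him := hA.2 v hv
    rw [ev', ← W.fst.cent.e_cj hn h1] at him
    have hcz : Commute (ev e r (ap A v)) z := him ▸ W.fst.cent.e_z (mL_lt _ _)
    obtain ⟨q2, q3⟩ := W.ev_comm_z (ap_lt _ _) hcz
    obtain ⟨p, hp', ep⟩ := W.ev_P q2 q3
    have : cjL n m = p := W.fst.cent.inj _ (mL_lt _ _) p (p_nums.1 p hp').1 (him.trans ep)
    rw [this]; exact hp'
  exact np_fwd n hn (himg 52 (by simp)) (himg 100 (by simp))

theorem card_M : Nat.card ↥W.M = 29160 := by
  classical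
  have hreal : ∀ i : Fin 360, ∃ g, Act e r g (xT.getD i.1 0) := fun i =>
    (W.fst.xT_real W.snd).1 _ (by
      rw [List.getD_eq_getElem _ _ (show i.1 < xT.length from xT_length.symm ▸ i.2)]; exact List.getElem_mem _)
  choose g hg using hreal
  have hmemT : ∀ i : Fin 360, xT.getD i.1 0 ∈ xT := fun i => by
    rw [List.getD_eq_getElem _ _ (show i.1 < xT.length from xT_length.symm ▸ i.2)]; exact List.getElem_mem _
  let f : Fin 81 × Fin 360 → ↥W.M := fun p => ⟨ev e r p.1.1 * g p.2,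
    mul_mem (W.E_le ⟨p.1.1, p.1.2, rfl⟩) ⟨_, hmemT p.2, hg p.2⟩⟩
  have hb : Function.Bijective f := by
    constructor
    · rintro ⟨u, i⟩ ⟨v, j⟩ h
      have h' : ev e r u.1 * g i = ev e r v.1 * g j := congrArg Subtype.val h
      have hij : xT.getD i.1 0 = xT.getD j.1 0 := by
        have k1 := W.fst.act_mul (W.fst.act_mem ⟨u.1, u.2, rfl⟩) (hg i)
        have k2 := W.fst.act_mul (W.fst.act_mem ⟨v.1, v.2, rfl⟩) (hg j)
        rw [h'] at k1
        have k3 := W.fst.act_inj k1 k2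
        have hI : ∀ A ∈ xT, mM mI A = A := by decide +kernel
        rwa [hI _ (hmemT i), hI _ (hmemT j)] at k3
      have hi : i = j := by
        have hl : ∀ k : Fin 360, k.1 < xT.length := fun k => xT_length.symm ▸ k.2
        rw [List.getD_eq_getElem _ _ (hl i), List.getD_eq_getElem _ _ (hl j)] at hij
        exact Fin.ext ((xT_nodup.getElem_inj_iff).1 hij)
      subst hi
      exact Prod.ext (Fin.ext (W.fst.ev_inj u.2 v.2 (mul_right_cancel h'))) rfl
    · rintro ⟨x, A, hA, hx⟩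
      obtain ⟨k, hk, rfl⟩ := List.mem_iff_getElem.1 hA
      set i : Fin 360 := ⟨k, xT_length ▸ hk⟩
      have hgi : Act e r (g i) xT[k] := by
        have := hg i
        rwa [List.getD_eq_getElem _ _ (show i.1 < xT.length from hk)] at this
      have hgM : g i ∈ W.M := ⟨_, List.getElem_mem hk, hgi⟩
      obtain ⟨B, hB, hgB⟩ := W.M.inv_mem hgM
      have k1 := W.fst.act_mul hgi hgB
      rw [mul_inv_cancel] at k1
      have k2 := W.fst.act_mul hx hgB
      rw [W.fst.act_inj k1 W.fst.act_one] at k2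
      obtain ⟨v, hv, ev'⟩ := W.fst.mem_of_act k2
      refine ⟨⟨⟨v, hv⟩, i⟩, Subtype.ext ?_⟩
      show ev e r v * g i = x
      rw [ev', inv_mul_cancel_right]
  rw [← Nat.card_congr (Equiv.ofBijective f hb), Nat.card_prod, Nat.card_eq_fintype_card, Nat.card_eq_fintype_card,
    Fintype.card_fin, Fintype.card_fin]

end Two

end Cfsg.Agent.Spor.UFourType
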