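import Cfsg.Agent.Lib.Spor.UFourType.Raw

/-!
The first consequences: the automorphisms of the product induced by the centralizer, the conjugate `z' = x 1 * y 1`
of the involution `z`, and an element exchanging the two.
-/

set_option autoImplicit false
set_option maxRecDepth 100000

namespace Cfsg.Agent.Spor.UFourType

variable {G : Type*} [Group G] {z : G} {x y : ℕ → G}

theorem q8_char : ∀ a < 24, (a ∈ q8L ↔ sMul (sMul a a) (sMul a a) = 0) := by decide +kernel

theorem eq_cases : ∀ a < 24, ∀ b < 24, (sMul a b = 0 → b = sInv a) ∧ (sMul a b = 12 → b = sMul (sInv a) 12) := by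
  decide +kernel

/-- Two pairs of indices name the same element. -/
def eqP (a b c d : ℕ) : Prop := c = a ∧ d = b ∨ c = sMul a 12 ∧ d = sMul b 12

instance (a b c d : ℕ) : Decidable (eqP a b c d) := inferInstanceAs (Decidable (_ ∨ _))

namespace Raw

section
variable (R : Raw z x y)
include R

theorem z2 : z * z = 1 := by
  rw [← R.x12, ← R.hx.mul 12 (by norm_num) 12 (by norm_num), show sMul 12 12 = 0 by decide, R.hx.one]

theorem z_ne : z ≠ 1 := fun e => by
  have h := R.hx.inj 12 (by norm_num) 0 (by norm_num) (by rw [R.x12, e, R.hx.one])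
  omega

theorem z_inv : z⁻¹ = z := inv_eq_of_mul_eq_one_right R.z2

theorem mulP {a b c d : ℕ} (ha : a < 24) (hb : b < 24) (hc : c < 24) (hd : d < 24) :
    (x a * y b) * (x c * y d) = x (sMul a c) * y (sMul b d) := by
  rw [R.hx.mul a ha c hc, R.hy.mul b hb d hd]
  exact (R.comm c hc b hb).symm.mul_mul_mul_comm _ _

theorem invP {a b : ℕ} (ha : a < 24) (hb : b < 24) : (x a * y b)⁻¹ = x (sInv a) * y (sInv b) := by
  rw [mul_inv_rev, R.hx.inv ha, R.hy.inv hb]
  exact ((R.comm a ha b hb).inv_inv).symm.eq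

theorem conjP {a b c d : ℕ} (ha : a < 24) (hb : b < 24) (hc : c < 24) (hd : d < 24) :
    (x a * y b) * (x c * y d) * (x a * y b)⁻¹ = x (sConj a c) * y (sConj b d) := by
  rw [R.invP ha hb, R.mulP ha hb hc hd,
    R.mulP (sMul_lt a ha c hc) (sMul_lt b hb d hd) (sInv_lt a ha).1 (sInv_lt b hb).1]
  rfl

theorem inC_P {a b : ℕ} (ha : a < 24) (hb : b < 24) : Commute (x a * y b) z :=
  (R.inC a ha).1.mul_left (R.inC b hb).2

theorem eqP_iff {a b c d : ℕ} (ha : a < 24) (hb : b < 24) (hc : c < 24) (hd : d < 24) :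
    x a * y b = x c * y d ↔ eqP a b c d := by
  constructor
  · intro e
    have e1 : x (sMul (sInv a) c) = y (sMul b (sInv d)) := by
      rw [R.hx.mul _ (sInv_lt a ha).1 c hc, R.hy.mul b hb _ (sInv_lt d hd).1, R.hx.inv ha, R.hy.inv hd,
        eq_mul_inv_iff_mul_eq, mul_assoc, inv_mul_eq_iff_eq_mul, e]
    have h1 := sMul_lt _ (sInv_lt a ha).1 c hc
    have h2 := sMul_lt b hb _ (sInv_lt d hd).1
    have key0 : ∀ a < 24, ∀ c < 24, (sMul (sInv a) c = 0 → c = a) ∧ (sMul (sInv a) c = 12 → c = sMul a 12) := by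
      decide +kernel
    have key1 : ∀ b < 24, ∀ d < 24, (sMul b (sInv d) = 0 → d = b) ∧ (sMul b (sInv d) = 12 → d = sMul b 12) := by
      decide +kernel
    rcases R.sep _ h1 _ h2 e1 with h | h
    · rw [h, R.hx.one] at e1
      exact Or.inl ⟨(key0 a ha c hc).1 h, (key1 b hb d hd).1 (R.hy.inj _ h2 0 (by norm_num) (e1.symm.trans R.hy.one.symm))⟩
    · rw [h, R.x12] at e1
      exact Or.inr ⟨(key0 a ha c hc).2 h, (key1 b hb d hd).2 (R.hy.inj _ h2 12 (by norm_num) (e1.symm.trans R.y12.symm))⟩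
  · rintro (⟨rfl, rfl⟩ | ⟨rfl, rfl⟩)
    · rfl
    · have e : x 12 * y 12 = 1 := by rw [R.x12, R.y12, R.z2]
      rw [← R.mulP ha hb (by norm_num) (by norm_num), e, mul_one]

theorem one_eq : (1 : G) = x 0 * y 0 := by rw [R.hx.one, R.hy.one, one_mul]

theorem z_eq : z = x 12 * y 0 := by rw [R.x12, R.hy.one, mul_one]

theorem inQ_mul {v w : G} (hv : InQ x y v) (hw : InQ x y w) : InQ x y (v * w) := by
  obtain ⟨p, hp, r, hr, rfl⟩ := hv
  obtain ⟨p', hp', r', hr', rfl⟩ := hw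
  exact ⟨_, (q8_closed p hp).1 p' hp', _, (q8_closed r hr).1 r' hr',
    R.mulP (mem_q8L_lt p hp) (mem_q8L_lt r hr) (mem_q8L_lt p' hp') (mem_q8L_lt r' hr')⟩

theorem inQ_inv {v : G} (hv : InQ x y v) : InQ x y v⁻¹ := by
  obtain ⟨p, hp, r, hr, rfl⟩ := hv
  exact ⟨_, (q8_closed p hp).2.1, _, (q8_closed r hr).2.1, R.invP (mem_q8L_lt p hp) (mem_q8L_lt r hr)⟩

theorem inQ_one : InQ x y 1 := ⟨0, by decide, 0, by decide, R.one_eq⟩

theorem inQ_z : InQ x y z := ⟨12, by decide, 0, by decide, R.z_eq⟩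

theorem inQ_comm {v : G} (hv : InQ x y v) : Commute v z := by
  obtain ⟨p, hp, r, hr, rfl⟩ := hv
  exact R.inC_P (mem_q8L_lt p hp) (mem_q8L_lt r hr)

/-- The quaternion part seen from two elements carrying `z` to the same place. -/
theorem inQ_iff {c c' : G} (e : c * z * c⁻¹ = c' * z * c'⁻¹) {v : G} :
    InQ x y (c⁻¹ * v * c) ↔ InQ x y (c'⁻¹ * v * c') := by
  have aux : ∀ d d' : G, d * z * d⁻¹ = d' * z * d'⁻¹ → InQ x y (d⁻¹ * v * d) → InQ x y (d'⁻¹ * v * d') := by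
    intro d d' e h
    have hc : Commute (d'⁻¹ * d) z := by
      show d'⁻¹ * d * z = z * (d'⁻¹ * d)
      rw [show d'⁻¹ * d * z = d'⁻¹ * (d * z * d⁻¹) * d by group, e]
      group
    have := R.normQ _ hc _ h
    rwa [show d'⁻¹ * d * (d⁻¹ * v * d) * (d'⁻¹ * d)⁻¹ = d'⁻¹ * v * d' by group] at this
  exact ⟨aux c c' e, aux c' c e.symm⟩

theorem symm_inQ (v : G) : InQ y x v ↔ InQ x y v := by
  constructor <;> rintro ⟨p, hp, r, hr, rfl⟩
  · exact ⟨r, hr, p, hp, (R.comm r (mem_q8L_lt r hr) p (mem_q8L_lt p hp)).symm.eq⟩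
  · exact ⟨r, hr, p, hp, (R.comm p (mem_q8L_lt p hp) r (mem_q8L_lt r hr)).eq⟩

/-- The two factors may be exchanged. -/
theorem symm : Raw z y x where
  hx := R.hy
  hy := R.hx
  x12 := R.y12
  y12 := R.x12
  comm a ha b hb := (R.comm b hb a ha).symm
  sep a ha b hb e := by
    have hb' := R.sep b hb a ha e.symm
    rcases hb' with rfl | rfl
    · exact Or.inl (R.hy.inj a ha 0 (by norm_num) (e.trans (R.hx.one.trans R.hy.one.symm)))
    · exact Or.inr (R.hy.inj a ha 12 (by norm_num) (e.trans (R.x12.trans R.y12.symm)))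
  inC a ha := (R.inC a ha).symm
  normK h hh a ha b hb := by
    obtain ⟨c, hc, d, hd, e⟩ := R.normK h hh b hb a ha
    exact ⟨d, hd, c, hc, by rw [← (R.comm b hb a ha).eq, e]; exact (R.comm c hc d hd).eq⟩
  normQ h hh v hv := (R.symm_inQ _).2 (R.normQ h hh v ((R.symm_inQ _).1 hv))
  self h hh hc := R.self h hh fun v hv => hc v ((R.symm_inQ _).2 hv)
  cardH := R.cardH
  moved := by simpa only [R.symm_inQ] using R.moved
  inter g h1 h2 := by
    rw [← R.inter g ((R.symm_inQ _).1 h1) h2]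
    exact Nat.card_congr (Equiv.subtypeEquivRight fun v => by rw [R.symm_inQ, R.symm_inQ])

/-- Another table for the same second factor. -/
theorem retable {y' : ℕ → G} (hy' : STab y') (h12 : y' 12 = z) (hto : ∀ a < 24, ∃ b < 24, y' a = y b)
    (hfrom : ∀ b < 24, ∃ a < 24, y' a = y b) : Raw z x y' := by
  have hq1 : ∀ a < 24, ∀ b < 24, y' a = y b → (a ∈ q8L ↔ b ∈ q8L) := fun a ha b hb e => by
    rw [q8_char a ha, q8_char b hb]
    have h4 := sMul_lt _ (sMul_lt a ha a ha) _ (sMul_lt a ha a ha)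
    have h4' := sMul_lt _ (sMul_lt b hb b hb) _ (sMul_lt b hb b hb)
    have e4 : y' (sMul (sMul a a) (sMul a a)) = y (sMul (sMul b b) (sMul b b)) := by
      rw [hy'.mul _ (sMul_lt a ha a ha) _ (sMul_lt a ha a ha), hy'.mul a ha a ha,
        R.hy.mul _ (sMul_lt b hb b hb) _ (sMul_lt b hb b hb), R.hy.mul b hb b hb, e]
    exact ⟨fun h => R.hy.inj _ h4' 0 (by norm_num) (by rw [← e4, h, hy'.one, R.hy.one]),
      fun h => hy'.inj _ h4 0 (by norm_num) (by rw [e4, h, hy'.one, R.hy.one])⟩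
  have hQ : ∀ v, InQ x y' v ↔ InQ x y v := fun v => by
    constructor <;> rintro ⟨p, hp, r, hr, rfl⟩
    · obtain ⟨b, hb, e⟩ := hto r (mem_q8L_lt r hr)
      exact ⟨p, hp, b, (hq1 r (mem_q8L_lt r hr) b hb e).1 hr, by rw [e]⟩
    · obtain ⟨a, ha, e⟩ := hfrom r (mem_q8L_lt r hr)
      exact ⟨p, hp, a, (hq1 a ha r (mem_q8L_lt r hr) e).2 hr, by rw [e]⟩
  exact {
    hx := R.hx
    hy := hy'
    x12 := R.x12
    y12 := h12
    comm := fun a ha b hb => by obtain ⟨c, hc, e⟩ := hto b hb; rw [e]; exact R.comm a ha c hc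
    sep := fun a ha b hb e => by obtain ⟨c, hc, e'⟩ := hto b hb; exact R.sep a ha c hc (e.trans e')
    inC := fun a ha => ⟨(R.inC a ha).1, by obtain ⟨c, hc, e⟩ := hto a ha; rw [e]; exact (R.inC c hc).2⟩
    normK := fun h hh a ha b hb => by
      obtain ⟨b', hb', eb⟩ := hto b hb
      obtain ⟨c, hc, d, hd, e⟩ := R.normK h hh a ha b' hb'
      obtain ⟨d', hd', ed⟩ := hfrom d hd
      exact ⟨c, hc, d', hd', by rw [eb, ed, e]⟩
    normQ := fun h hh v hv => (hQ _).2 (R.normQ h hh v ((hQ _).1 hv))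
    self := fun h hh hc => R.self h hh fun v hv => hc v ((hQ _).2 hv)
    cardH := R.cardH
    moved := by simpa only [hQ] using R.moved
    inter := fun g h1 h2 => by
      rw [← R.inter g ((hQ _).1 h1) h2]
      exact Nat.card_congr (Equiv.subtypeEquivRight fun v => by rw [hQ, hQ]) }

/-- The second factor renumbered by an inner automorphism. -/
theorem twist {g : ℕ} (hg : g < 24) : Raw z x fun a => y g * y a * (y g)⁻¹ := by
  refine R.retable (R.hy.twist hg) ?_ (fun a ha => ⟨sConj g a, sConj_lt hg ha, (R.hy.conj hg ha).symm⟩) fun b hb => ?_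
  · rw [R.y12, ((R.inC g hg).2).eq, mul_inv_cancel_right]
  · refine ⟨sConj (sInv g) b, sConj_lt (sInv_lt g hg).1 hb, ?_⟩
    rw [R.hy.conj (sInv_lt g hg).1 hb, R.hy.inv hg]
    group

/-- An element of the centralizer fixing the side of two generators keeps the two sides. -/
theorem side_of {h : G} (hh : Commute h z) {p p' : ℕ} (hp : p ∈ o4L) (hp' : p' ∈ o4L)
    (e1 : h * x 1 * h⁻¹ = x p) (e2 : h * x 2 * h⁻¹ = x p') :
    (∀ a < 24, ∃ b < 24, h * x a * h⁻¹ = x b) ∧ ∀ a < 24, ∃ b < 24, h * y a * h⁻¹ = y b := by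
  have hp24 := mem_o4L_lt p hp
  have hp'24 := mem_o4L_lt p' hp'
  have hne : sMul p p' ≠ sMul p' p := by
    intro e
    have e' : x (sMul p p') = x (sMul p' p) := by rw [e]
    rw [R.hx.mul p hp24 p' hp'24, R.hx.mul p' hp'24 p hp24, ← e1, ← e2,
      show h * x 1 * h⁻¹ * (h * x 2 * h⁻¹) = h * (x 1 * x 2) * h⁻¹ by group,
      show h * x 2 * h⁻¹ * (h * x 1 * h⁻¹) = h * (x 2 * x 1) * h⁻¹ by group,
      ← R.hx.mul 1 (by norm_num) 2 (by norm_num), ← R.hx.mul 2 (by norm_num) 1 (by norm_num)] at e'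
    exact absurd (R.hx.inj _ (by decide) _ (by decide) (mul_left_cancel (mul_right_cancel e'))) (by decide)
  have key : ∀ c < 24, ∀ p ∈ o4L, ∀ p' ∈ o4L, sMul p p' ≠ sMul p' p → sMul c p = sMul p c → sMul c p' = sMul p' c →
      c = 0 ∨ c = 12 := by decide +kernel
  have hY : ∀ a < 24, ∃ b < 24, h * y a * h⁻¹ = y b := fun a ha => by
    obtain ⟨c, hc, d, hd, e⟩ := R.normK h hh 0 (by norm_num) a ha
    rw [R.hx.one, one_mul] at e
    have hcom : ∀ q q', q' < 24 → q < 24 → h * x q * h⁻¹ = x q' → sMul c q' = sMul q' c := fun q q' hq' hq eq' => by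
      refine R.hx.inj _ (sMul_lt c hc q' hq') _ (sMul_lt q' hq' c hc) ?_
      have h1 : Commute (x c * y d) (x q') := by
        rw [← e, ← eq']
        exact (Commute.conj_iff h).2 (R.comm q hq a ha).symm
      have h2 := h1.mul_left ((R.comm q' hq' d hd).symm.inv_left)
      rw [mul_inv_cancel_right] at h2
      rw [R.hx.mul c hc q' hq', R.hx.mul q' hq' c hc]
      exact h2
    rcases key c hc p hp p' hp' hne (hcom 1 p hp24 (by norm_num) e1) (hcom 2 p' hp'24 (by norm_num) e2) with rfl | rfl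
    · exact ⟨d, hd, by rw [e, R.hx.one, one_mul]⟩
    · refine ⟨sMul 12 d, sMul_lt 12 (by norm_num) d hd, ?_⟩
      rw [e, R.hy.mul 12 (by norm_num) d hd, R.x12, R.y12]
  refine ⟨fun a ha => ?_, hY⟩
  obtain ⟨c, hc, d, hd, e⟩ := R.normK h hh a ha 0 (by norm_num)
  rw [R.hy.one, mul_one] at e
  obtain ⟨r, hr, er⟩ := hY 1 (by norm_num)
  obtain ⟨r', hr', er'⟩ := hY 2 (by norm_num)
  have hcom : ∀ q q', q' < 24 → q < 24 → h * y q * h⁻¹ = y q' → sMul d q' = sMul q' d := fun q q' hq' hq eq' => by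
    refine R.hy.inj _ (sMul_lt d hd q' hq') _ (sMul_lt q' hq' d hd) ?_
    have h1 : Commute (x c * y d) (y q') := by
      rw [← e, ← eq']
      exact (Commute.conj_iff h).2 (R.comm a ha q hq)
    have h2 := ((R.comm c hc q' hq').inv_left).mul_left h1
    rw [inv_mul_cancel_left] at h2
    rw [R.hy.mul d hd q' hq', R.hy.mul q' hq' d hd]
    exact h2
  have key' : ∀ d < 24, ∀ r ∈ o4L, ∀ r' ∈ o4L, sMul r r' ≠ sMul r' r →
      sMul d r = sMul r d → sMul d r' = sMul r' d → d = 0 ∨ d = 12 := by decide +kernel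
  have o4 : ∀ r < 24, sMul r r = 12 → r ∈ o4L := by decide +kernel
  have sq : ∀ q r, q < 24 → r < 24 → h * y q * h⁻¹ = y r → sMul q q = 12 → sMul r r = 12 := fun q r hq hr eq' h12 => by
    refine R.hy.inj _ (sMul_lt r hr r hr) 12 (by norm_num) ?_
    rw [R.hy.mul r hr r hr, ← eq', show h * y q * h⁻¹ * (h * y q * h⁻¹) = h * (y q * y q) * h⁻¹ by group,
      ← R.hy.mul q hq q hq, h12, R.y12, hh.eq, mul_inv_cancel_right]
  have hrne : sMul r r' ≠ sMul r' r := by
    intro e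
    have e' : y (sMul r r') = y (sMul r' r) := by rw [e]
    rw [R.hy.mul r hr r' hr', R.hy.mul r' hr' r hr, ← er, ← er',
      show h * y 1 * h⁻¹ * (h * y 2 * h⁻¹) = h * (y 1 * y 2) * h⁻¹ by group,
      show h * y 2 * h⁻¹ * (h * y 1 * h⁻¹) = h * (y 2 * y 1) * h⁻¹ by group,
      ← R.hy.mul 1 (by norm_num) 2 (by norm_num), ← R.hy.mul 2 (by norm_num) 1 (by norm_num)] at e'
    exact absurd (R.hy.inj _ (by decide) _ (by decide) (mul_left_cancel (mul_right_cancel e'))) (by decide)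
  rcases key' d hd r (o4 r hr (sq 1 r (by norm_num) hr er (by decide))) r'
    (o4 r' hr' (sq 2 r' (by norm_num) hr' er' (by decide))) hrne (hcom 1 r hr (by norm_num) er) (hcom 2 r' hr' (by norm_num) er') with rfl | rfl
  · exact ⟨c, hc, by rw [e, R.hy.one, mul_one]⟩
  · refine ⟨sMul c 12, sMul_lt c hc 12 (by norm_num), ?_⟩
    rw [e, R.hx.mul c hc 12 (by norm_num), R.x12, R.y12]

/-- An element of the centralizer sends an element of order four of a factor into a factor. -/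
theorem image_side {h : G} (hh : Commute h z) {q : ℕ} (hq : q ∈ o4L) :
    (∃ p ∈ o4L, h * x q * h⁻¹ = x p) ∨ ∃ p ∈ o4L, h * x q * h⁻¹ = y p := by
  have hq' := mem_o4L_lt q hq
  obtain ⟨p, hp, r, hr, e⟩ := R.normQ h hh (x q) ⟨q, mem_o4L_q8L q hq, 0, by decide, by rw [R.hy.one, mul_one]⟩
  have hp' := mem_q8L_lt p hp
  have hr' := mem_q8L_lt r hr
  have e2 : x (sMul p p) * y (sMul r r) = x 12 * y 0 := by
    rw [← R.mulP hp' hr' hp' hr', ← R.z_eq, ← e,
      show h * x q * h⁻¹ * (h * x q * h⁻¹) = h * (x q * x q) * h⁻¹ by group, ← R.hx.mul q hq' q hq',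
      (show ∀ q ∈ o4L, sMul q q = 12 by decide) q hq, R.x12, hh.eq, mul_inv_cancel_right]
  have key : ∀ p ∈ q8L, ∀ r ∈ q8L, eqP (sMul p p) (sMul r r) 12 0 →
      (∃ p' ∈ o4L, eqP p r p' 0) ∨ ∃ r' ∈ o4L, eqP p r 0 r' := by decide
  rcases key p hp r hr ((R.eqP_iff (sMul_lt p hp' p hp') (sMul_lt r hr' r hr') (by norm_num) (by norm_num)).1 e2) with
    ⟨p', h', e'⟩ | ⟨r', h', e'⟩
  · refine Or.inl ⟨p', h', ?_⟩
    rw [e, (R.eqP_iff hp' hr' (mem_o4L_lt p' h') (by norm_num)).2 e', R.hy.one, mul_one]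
  · refine Or.inr ⟨r', h', ?_⟩
    rw [e, (R.eqP_iff hp' hr' (by norm_num) (mem_o4L_lt r' h')).2 e', R.hx.one, one_mul]

end

/-- The conjugate of `z` may be taken as `x 1 * y 1`. -/
theorem exists_paired [Finite G] (R : Raw z x y) :
    ∃ x' y', Raw z x' y' ∧ ∃ g : G, g * z * g⁻¹ = x' 1 * y' 1 := by
  obtain ⟨g, ⟨p, hp, r, hr, e⟩, hne⟩ := R.moved
  have hp' := mem_q8L_lt p hp
  have hr' := mem_q8L_lt r hr
  have key : ∀ p ∈ q8L, ∀ r ∈ q8L, eqP (sMul p p) (sMul r r) 0 0 → ¬ eqP p r 0 0 → ¬ eqP p r 12 0 →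
      p ∈ o4L ∧ r ∈ o4L := by decide
  have hcl : ∀ p ∈ o4L, ∃ h < 24, sConj h 1 = p := by decide +kernel
  have hpr := key p hp r hr ((R.eqP_iff (sMul_lt p hp' p hp') (sMul_lt r hr' r hr') (by norm_num) (by norm_num)).1 (by
      rw [← R.mulP hp' hr' hp' hr', ← R.one_eq, ← e, show g * z * g⁻¹ * (g * z * g⁻¹) = g * (z * z) * g⁻¹ by group,
        R.z2, mul_one, mul_inv_cancel]))
    (fun h => by
      have h1 : g * z * g⁻¹ = 1 := by rw [e, (R.eqP_iff hp' hr' (by norm_num) (by norm_num)).2 h, ← R.one_eq]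
      rw [mul_inv_eq_one, mul_eq_left] at h1
      exact R.z_ne h1)
    (fun h => hne (by rw [e, (R.eqP_iff hp' hr' (by norm_num) (by norm_num)).2 h, ← R.z_eq]))
  obtain ⟨h1, hh1, e1⟩ := hcl p hpr.1
  obtain ⟨h2, hh2, e2⟩ := hcl r hpr.2
  refine ⟨_, _, ((R.twist hh2).symm.twist hh1).symm, g, ?_⟩
  rw [e, ← e1, ← e2, R.hx.conj hh1 (by norm_num), R.hy.conj hh2 (by norm_num)]

end Raw

end Cfsg.Agent.Spor.UFourType
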