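import Cfsg.Agent.Lib.Spor.UFourType.LineGroup
import Cfsg.Agent.Lib.Spor.UFourType.GeoData

/-!
Cosets of the normalizer as points: the point `p` opposite to the base point has a stabilizer meeting the elementary
group trivially and inducing all 360 matrices.
-/

set_option autoImplicit false
set_option maxRecDepth 100000
set_option synthInstance.maxSize 1024

namespace Cfsg.Agent.Spor.UFourType

variable {G : Type*} [Group G] {z : G} {e : ℕ → G} {r r' : G}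

/-- The coset of an element. -/
def cs (M : Subgroup G) (g : G) : G ⧸ M := QuotientGroup.mk g

/-- Two points are collinear. -/
def Adj (M : Subgroup G) (f : G) (P Q : G ⧸ M) : Prop := ∃ g : G, g • cs M 1 = P ∧ g • cs M f = Q

/-- What the line group gives. -/
structure Line [Finite G] (W : Two z e r r') (R : Subgroup G) : Prop where
  le : R ≤ W.M
  conj : ∀ g : G, Commute g (e 8) → ∀ τ ∈ R, g * τ * g⁻¹ ∈ R
  onto : ∀ A ∈ xW, ∃ τ ∈ R, Act e r τ A
  act : ∀ τ ∈ R, ∃ A ∈ xW, Act e r τ A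
  x8 : e 8 ∈ R
  b9 : ev e r 9 ∈ R
  c27 : ev e r 27 ∈ R

theorem Two.exists_line [Finite G] (W : Two z e r r') : ∃ R, Line W R := by
  obtain ⟨R, h1, h2, h3, h4, h5, h6, h7⟩ := W.exists_line_group
  exact ⟨R, h1, h2, h3, h4, h5, h6, h7⟩

theorem cs_smul (M : Subgroup G) (g h : G) : g • cs M h = cs M (g * h) := rfl

theorem cs_eq {M : Subgroup G} {g h : G} : cs M g = cs M h ↔ g⁻¹ * h ∈ M := QuotientGroup.eq

theorem cs_mem {M : Subgroup G} {g h : G} (hh : h ∈ M) : cs M (g * h) = cs M g :=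
  cs_eq.2 (by rw [mul_inv_rev, inv_mul_cancel_right]; exact M.inv_mem hh)

namespace Line

variable [Finite G] {W : Two z e r r'} {R : Subgroup G} (L : Line W R)
include L

theorem num_eq {n m : ℕ} (hn : n < 1152) (hm : m < 1152) :
    cs W.M (e n) = cs W.M (e m) ↔ npP (mL (iL n) m) = true := by
  have C := W.fst.cent
  have hi := (iL_ok n hn).1
  rw [cs_eq, ← C.e_inv hn, ← C.mul _ hi m hm]
  refine ⟨fun h => ?_, fun h => W.np_mem (mL_lt _ _) h⟩
  obtain ⟨k, hk, hP, ek⟩ := W.mem_inf h (C.e_z (mL_lt _ _))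
  rwa [← C.inj k hk _ (mL_lt _ _) ek]

theorem num_mem {n : ℕ} (hn : n < 1152) : e n ∈ W.M ↔ npP n = true := by
  refine ⟨fun h => ?_, fun h => W.np_mem hn h⟩
  obtain ⟨k, hk, hP, ek⟩ := W.mem_inf h (W.fst.cent.e_z hn)
  rwa [← W.fst.cent.inj k hk n hn ek]

theorem fix_base {g : G} : g • cs W.M 1 = cs W.M 1 ↔ g ∈ W.M := by
  rw [cs_smul, mul_one, cs_eq, mul_one]
  exact inv_mem_iff

theorem f_comm : Commute (e 12) (e 8) :=
  (W.fst.cent.e_comm (by norm_num) (by norm_num)).2 pt_nums.2.2.2.2.2.1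

theorem q_sq : e 13 * e 13 = 1 := by
  rw [← W.fst.cent.mul 13 (by norm_num) 13 (by norm_num), pt_nums.2.1, W.fst.cent.e0]

theorem q_inv : (e 13)⁻¹ = e 13 := inv_eq_of_mul_eq_one_right L.q_sq

/-- The members of the line group fix the second point of the line. -/
theorem R_fix {τ : G} (hτ : τ ∈ R) : τ • cs W.M (e 12) = cs W.M (e 12) := by
  rw [cs_smul, show τ * e 12 = e 12 * ((e 12)⁻¹ * τ * ((e 12)⁻¹)⁻¹) by group]
  exact cs_mem (L.le (L.conj _ L.f_comm.inv_left τ hτ))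

theorem perp_R {u : ℕ} (hu : u < 81) (h : qB 4 u = 0) : ev e r u ∈ R := by
  obtain ⟨a, -, b, -, c, -, rfl⟩ := four_split u hu h
  rw [W.fst.ev_add, W.fst.ev_add, W.fst.ev_mul, W.fst.ev_mul, W.fst.ev_mul, W.ev_four]
  exact mul_mem (pow_mem L.x8 _) (mul_mem (pow_mem L.b9 _) (pow_mem L.c27 _))

theorem beta_R {v : ℕ} (h0 : v0 v = 0) (h1 : v1 v = 0) : ev e r v ∈ R := by
  obtain ⟨-, -, e3, e4⟩ := W.fst.ev_basis
  rw [ev, h0, h1, pow_zero, pow_zero, one_mul, one_mul, ← e4, ← e3]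
  exact mul_mem (pow_mem L.b9 _) (pow_mem L.c27 _)

/-- The elements of the stabilizer of the pair of opposite points. -/
def K (_L : Line W R) : Subgroup G :=
  W.M ⊓ MulAction.stabilizer G (cs W.M (e 13))

theorem mem_K {g : G} : g ∈ L.K ↔ g ∈ W.M ∧ g • cs W.M (e 13) = cs W.M (e 13) := Iff.rfl

theorem d8_K {k : ℕ} (hk : k ∈ d8L) : e k ∈ L.K := by
  have C := W.fst.cent
  obtain ⟨hk', hP⟩ := d8_spec.1 k hk
  refine L.mem_K.2 ⟨W.np_mem hk' hP, ?_⟩
  have hc : e 13 * e k * (e 13)⁻¹ = e k := by rw [← C.e_cj (by norm_num) hk', (d8_closed.2.1 k hk).2]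
  rw [cs_smul, show e k * e 13 = e 13 * e k from (mul_inv_eq_iff_eq_mul.1 hc).symm]
  exact cs_mem (W.np_mem hk' hP)

/-- The elements of the line group fixing the opposite point. -/
theorem y_K {v : ℕ} (hv : v < 81) (h0 : v0 v = 0) (h1 : v1 v = 0) :
    e 12 * ev e r v * (e 12)⁻¹ ∈ R ∧ e 12 * ev e r v * (e 12)⁻¹ ∈ L.K := by
  have C := W.fst.cent
  have hR := L.conj _ L.f_comm _ (L.beta_R h0 h1)
  refine ⟨hR, L.mem_K.2 ⟨L.le hR, ?_⟩⟩
  have e13 : e 13 = e 12 * e 1 := by rw [← C.mul 12 (by norm_num) 1 (by norm_num), pt_nums.2.2.1]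
  have e1 : e 1 = e 576 * e 12 * e 576 := by
    rw [← pt_nums.2.2.2.1, C.e_cj (by norm_num) (by norm_num), W.fst.t_inv]
  rw [cs_smul, e13, show e 12 * ev e r v * (e 12)⁻¹ * (e 12 * e 1) = e 12 * e 1 * ((e 1)⁻¹ * ev e r v * e 1) by group]
  refine cs_mem ?_
  have hin : e 576 * ev e r v * e 576 ∈ R := by
    rw [W.fst.t_act]
    exact L.beta_R (by rw [(vC_parts _ _ _ _).1, h0]) (by rw [(vC_parts _ _ _ _).2.1, h1])
  have hM : (e 12)⁻¹ * (e 576 * ev e r v * e 576) * e 12 ∈ W.M := by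
    have := L.conj _ L.f_comm.inv_left _ hin
    rw [inv_inv] at this
    exact L.le this
  rw [e1, show (e 576 * e 12 * e 576)⁻¹ * ev e r v * (e 576 * e 12 * e 576) =
    e 576 * ((e 12)⁻¹ * (e 576 * ev e r v * e 576) * e 12) * e 576 by
      rw [mul_inv_rev, mul_inv_rev, W.fst.t_inv]; group]
  exact mul_mem (mul_mem W.t_mem hM) W.t_mem

/-- The exchange of the two points keeps the stabilizer. -/
theorem K_q {g : G} (hg : g ∈ L.K) : e 13 * g * e 13 ∈ L.K := by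
  obtain ⟨hM, hf⟩ := L.mem_K.1 hg
  rw [cs_smul, cs_eq] at hf
  have h := W.M.inv_mem hf
  rw [show ((g * e 13)⁻¹ * e 13)⁻¹ = (e 13)⁻¹ * g * e 13 by group, L.q_inv] at h
  refine L.mem_K.2 ⟨h, ?_⟩
  rw [cs_smul, mul_assoc, L.q_sq, mul_one]
  exact cs_mem hM

/-- The stabilizer meets the elementary group trivially. -/
theorem K_E {v : ℕ} (hv : v < 81) (h : ev e r v ∈ L.K) : v = 0 := by
  have C := W.fst.cent
  have F := W.fst
  have hzK : z ∈ L.K := C.z_eq ▸ L.d8_K (by decide)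
  have hadd : ∀ u w, ev e r u ∈ L.K → ev e r w ∈ L.K → ev e r (vA u w) ∈ L.K := fun u w hu hw => by
    rw [F.ev_add]; exact mul_mem hu hw
  have hmul : ∀ i u, ev e r u ∈ L.K → ev e r (vS i u) ∈ L.K := fun i u hu => by
    rw [F.ev_mul]; exact pow_mem hu _
  obtain ⟨q2, q3, q0, -, -⟩ := plus_part v hv
  have hzv : ev e r (vC (v0 v) (1 * v1 v) (2 * v2 v) (2 * v3 v)) ∈ L.K := by
    rw [← F.z_act]; exact mul_mem (mul_mem hzK h) hzK
  obtain ⟨p, hp, ep⟩ := W.ev_P q2 q3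
  have hpK : e p ∈ L.K := ep ▸ hadd _ _ h hzv
  have hp' := (p_nums.1 p hp).1
  have hp0 : p = 0 := by
    refine q_meet.1 p hp ((L.num_mem (show cjL 13 p < 1152 from mL_lt _ _)).1 ?_)
    rw [C.e_cj (by norm_num) hp', L.q_inv]
    exact (L.mem_K.1 (L.K_q hpK)).1
  obtain ⟨a0, a1⟩ := q0 (F.ev_inj (vA_lt _ _) (by norm_num) (by rw [ep, hp0, C.e0, F.ev_zero]))
  by_contra hv0
  -- otherwise the stabilizer contains all of `[E, z]`
  obtain ⟨-, -, -, -, hspan⟩ := plus_part v hv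
  obtain ⟨n, hn, hA, -⟩ := F.exists_act_h
  have hnd : n ∈ d8L := (show ∀ n ∈ [326, 470], n ∈ d8L by decide) n hn
  have hBK : ∀ w < 81, v0 w = 0 → v1 w = 0 → ev e r w ∈ L.K := by
    intro w hw w0 w1
    obtain ⟨i, -, j, -, rfl⟩ := (hspan a0 a1).2 hv0 w hw w0 w1
    refine hadd _ _ (hmul _ _ h) (hmul _ _ ?_)
    rw [← hA.2 v hv]
    exact mul_mem (mul_mem (L.d8_K hnd) h) (L.K.inv_mem (L.d8_K hnd))
  have hzB : ∀ w < 81, v0 w = 0 → v1 w = 0 → z * ev e r w * z = (ev e r w)⁻¹ := fun w hw w0 w1 => by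
    rw [F.z_act, F.ev_inv, ((plus_part w hw).2.2.2.2 w0 w1).1]
  -- its conjugate by the exchange is in the elementary group
  have hd8 : ∀ P ∈ xD, ∀ Q ∈ xD, mM P Q = mI → ∃ k ∈ d8L, Act e r (e k) P ∧ Act e r (e k)⁻¹ Q := by
    intro P hP Q hQ hPQ
    have hreal : ∀ P ∈ xD, ∃ k ∈ d8L, Act e r (e k) P := by
      intro P hP
      obtain ⟨i, -, j, -, l, -, rfl⟩ := xD_word P hP
      have hmulk : ∀ A B, (∃ k ∈ d8L, Act e r (e k) A) → (∃ k ∈ d8L, Act e r (e k) B) →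
          ∃ k ∈ d8L, Act e r (e k) (mM A B) := by
        rintro A B ⟨k, hk, kA⟩ ⟨k', hk', kB⟩
        refine ⟨mL k k', d8_closed.1 k hk k' hk', ?_⟩
        rw [C.mul k (d8_spec.1 k hk).1 k' (d8_spec.1 k' hk').1]
        exact F.act_mul kA kB
      have hone : ∃ k ∈ d8L, Act e r (e k) mI := ⟨0, by decide, C.e0.symm ▸ F.act_one⟩
      refine hmulk _ _ (hmulk _ _ ?_ ?_) ?_
      · cases Nat.beq i 0 <;> [exact ⟨144, by decide, C.z_eq.symm ▸ F.act_z⟩; exact hone]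
      · cases Nat.beq j 0 <;> [exact ⟨576, by decide, F.act_t⟩; exact hone]
      · cases Nat.beq l 0 <;> [exact ⟨n, hnd, hA⟩; exact hone]
    obtain ⟨k, hk, kP⟩ := hreal P hP
    obtain ⟨k', hk', kQ⟩ := hreal Q hQ
    refine ⟨k, hk, kP, ?_⟩
    have h1 := F.act_mul kP kQ
    rw [hPQ] at h1
    obtain ⟨u, hu, eu⟩ := F.mem_of_act h1
    have h2 := F.act_mul (F.act_mul (F.act_mem (F.E.one_mem)) kQ) (F.act_mem (F.E.inv_mem ⟨u, hu, eu⟩))
    have hinv : (e k)⁻¹ = 1 * e k' * (e k * e k')⁻¹ := by group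
    rw [← hinv] at h2
    rw [show mM (mM mI Q) mI = Q from (show ∀ Q ∈ xD, mM (mM mI Q) mI = Q by decide +kernel) Q hQ] at h2
    exact h2
  have hin : ∀ w < 81, v0 w = 0 → v1 w = 0 → ∃ u < 81, v0 u = 0 ∧ v1 u = 0 ∧ ev e r u = e 13 * ev e r w * e 13 := by
    intro w hw w0 w1
    obtain ⟨A, hA', kA⟩ := (L.mem_K.1 (L.K_q (hBK w hw w0 w1))).1
    have hqz : e 13 * z = z * e 13 := (C.e_z (by norm_num)).eq
    have hz : z * (e 13 * ev e r w * e 13) * z = (e 13 * ev e r w * e 13)⁻¹ := by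
      rw [show z * (e 13 * ev e r w * e 13) * z = z * e 13 * ev e r w * (e 13 * z) by group, ← hqz,
        show e 13 * z * ev e r w * (e 13 * z) = e 13 * (z * ev e r w * (e 13 * z)) by group, hqz,
        show e 13 * (z * ev e r w * (z * e 13)) = e 13 * (z * ev e r w * z) * e 13 by group, hzB w hw w0 w1,
        mul_inv_rev, mul_inv_rev, L.q_inv, mul_assoc]
    have hAz : mM (mM (xGen.getD 0 0) A) (mM (xGen.getD 0 0) A) = mI := by
      have h1 := F.act_mul (F.act_mul F.act_z kA) (F.act_mul F.act_z kA)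
      refine F.act_inj h1 ?_
      rw [show z * (e 13 * ev e r w * e 13) * (z * (e 13 * ev e r w * e 13)) =
        z * (e 13 * ev e r w * e 13) * z * (e 13 * ev e r w * e 13) by group, hz, inv_mul_cancel]
      exact F.act_one
    have hA3 : mM A (mM A A) = mI := by
      refine F.act_inj (F.act_mul kA (F.act_mul kA kA)) ?_
      rw [show e 13 * ev e r w * e 13 = MulAut.conj (e 13) (ev e r w) by rw [MulAut.conj_apply, L.q_inv],
        ← map_mul, ← map_mul, ← pow_three, F.ev_three, map_one]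
      exact F.act_one
    have hA1 : A = mI := xU_trivial A hA' hAz hA3 fun P hP Q hQ hPQ => by
      obtain ⟨k, hk, kP, kQ⟩ := hd8 P hP Q hQ hPQ
      have hk' := (d8_spec.1 k hk).1
      have hkq : e 13 * e k = e k * e 13 := by
        have := C.e_cj (show (13 : ℕ) < 1152 by norm_num) hk'
        rw [(d8_closed.2.1 k hk).2, eq_comm, mul_inv_eq_iff_eq_mul] at this
        exact this
      have hcomm : Commute (e 13 * ev e r w * e 13) (e k * (e 13 * ev e r w * e 13) * (e k)⁻¹) := by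
        obtain ⟨A', -, k'A⟩ := W.np_mem hk' (d8_spec.1 k hk).2
        have hE : e k * ev e r w * (e k)⁻¹ ∈ F.E := ⟨_, ap_lt _ _, (k'A.2 w hw).symm⟩
        have h1 := (Commute.conj_iff (e 13)).2 (F.E_comm ⟨w, hw, rfl⟩ hE)
        rw [L.q_inv] at h1
        rwa [show e k * (e 13 * ev e r w * e 13) * (e k)⁻¹ = e 13 * (e k * ev e r w * (e k)⁻¹) * e 13 by
          rw [show e 13 * (e k * ev e r w * (e k)⁻¹) * e 13 = e 13 * e k * ev e r w * ((e k)⁻¹ * e 13) by group, hkq,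
            show (e k)⁻¹ * e 13 = e 13 * (e k)⁻¹ by
              rw [eq_mul_inv_iff_mul_eq, mul_assoc, hkq, inv_mul_cancel_left]]
          group]
      have h2 := F.act_mul kA (F.act_mul (F.act_mul kP kA) kQ)
      rw [hcomm.eq] at h2
      exact F.act_inj h2 (F.act_mul (F.act_mul (F.act_mul kP kA) kQ) kA)
    subst hA1
    obtain ⟨u, hu, eu⟩ := F.mem_of_act kA
    have hzu := F.z_act u
    rw [eu, hz, ← eu, F.ev_inv] at hzu
    obtain ⟨u0, u1⟩ := (plus_part u hu).2.2.2.1 (F.ev_inj (vS_lt _ _) (vC_lt _ _ _ _) hzu).symm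
    exact ⟨u, hu, u0, u1, eu⟩
  -- so `z` centralises it
  have hb9 : v0 9 = 0 ∧ v1 9 = 0 := by decide +kernel
  have hP : ∀ m ∈ pL, Commute (e m) (ev e r 9) ∧ Commute (e (cjL 13 m)) (ev e r 9) := by
    intro m hm
    refine ⟨F.E_comm (W.p_mem hm) ⟨9, by norm_num, rfl⟩, ?_⟩
    obtain ⟨u, hu, -, -, eu⟩ := hin 9 (by norm_num) hb9.1 hb9.2
    have h1 := (Commute.conj_iff (e 13)).2 (F.E_comm (W.p_mem hm) ⟨u, hu, rfl⟩)
    rw [eu, L.q_inv, show e 13 * (e 13 * ev e r 9 * e 13) * e 13 = (e 13 * e 13) * ev e r 9 * (e 13 * e 13) by group,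
      L.q_sq, one_mul, mul_one] at h1
    rwa [C.e_cj (by norm_num) (p_nums.1 m hm).1, L.q_inv]
  have hzb : Commute z (ev e r 9) := by
    rw [← C.z_eq, ← q_meet.2, C.mul _ (mL_lt _ _) _ (mL_lt _ _),
      C.mul 4 (by norm_num) (cjL 13 8) (mL_lt _ _)]
    have h := ((hP 4 (by decide)).1).mul_left ((hP 8 (by decide)).2)
    exact h.mul_left h
  have h5 := hzB 9 (by norm_num) hb9.1 hb9.2
  rw [hzb.eq, mul_assoc, C.z_mul_z, mul_one, eq_inv_iff_mul_eq_one] at h5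
  exact F.ev_ne (v := 9) (by norm_num) (by norm_num) (eq_one_of_pow_three h5 (F.ev_three 9))

/-- Two members of the stabilizer inducing the same matrix are equal. -/
theorem K_inj {g h : G} (hg : g ∈ L.K) (hh : h ∈ L.K) {A : ℕ} (gA : Act e r g A) (hA : Act e r h A) : g = h := by
  obtain ⟨B, -, hB⟩ := W.M.inv_mem (L.mem_K.1 hg).1
  have k1 := W.fst.act_mul hB gA
  rw [inv_mul_cancel] at k1
  have k2 := W.fst.act_mul hB hA
  rw [W.fst.act_inj k1 W.fst.act_one] at k2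
  obtain ⟨v, hv, ev'⟩ := W.fst.mem_of_act k2
  have := L.K_E hv (ev' ▸ mul_mem (L.K.inv_mem hg) hh)
  subst this
  rw [W.fst.ev_zero] at ev'
  exact eq_of_inv_mul_eq_one ev'.symm

/-- The unipotent matrices are induced by members fixing the line. -/
theorem K_onto_W {A : ℕ} (hA : A ∈ xW) : ∃ y ∈ L.K, y ∈ R ∧ Act e r y A := by
  classical
  have hy : ∀ i : Fin 3 × Fin 3, ∃ B ∈ xW, Act e r (e 12 * ev e r (vC 0 0 i.1.1 i.2.1) * (e 12)⁻¹) B := fun i =>
    L.act _ (L.y_K (vC_lt _ _ _ _) ((vC_parts _ _ _ _).1) ((vC_parts _ _ _ _).2.1)).1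
  choose B hB hBy using hy
  have hinj : Function.Injective B := by
    intro i j hij
    have h1 := L.K_inj (L.y_K (vC_lt _ _ _ _) ((vC_parts _ _ _ _).1) ((vC_parts _ _ _ _).2.1)).2
      (L.y_K (vC_lt _ _ _ _) ((vC_parts _ _ _ _).1) ((vC_parts _ _ _ _).2.1)).2 (hBy i) (hij ▸ hBy j)
    have h2 := W.fst.ev_inj (vC_lt _ _ _ _) (vC_lt _ _ _ _) (mul_left_cancel (mul_right_cancel h1))
    simp only [vC] at h2
    have := i.1.2; have := i.2.2; have := j.1.2; have := j.2.2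
    exact Prod.ext (Fin.ext (by omega)) (Fin.ext (by omega))
  have hsub : Finset.univ.image B ⊆ xW.toFinset := fun b hb => by
    obtain ⟨i, -, rfl⟩ := Finset.mem_image.1 hb
    exact List.mem_toFinset.2 (hB i)
  have heq := Finset.eq_of_subset_of_card_le hsub (by
    rw [Finset.card_image_of_injective _ hinj, Finset.card_univ, Fintype.card_prod, Fintype.card_fin]
    exact (List.toFinset_card_le _).trans xW_spec.2.2.2.2.1.le)
  obtain ⟨i, -, rfl⟩ := Finset.mem_image.1 (heq ▸ List.mem_toFinset.2 hA : A ∈ Finset.univ.image B)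
  exact ⟨_, (L.y_K (vC_lt _ _ _ _) ((vC_parts _ _ _ _).1) ((vC_parts _ _ _ _).2.1)).2,
    (L.y_K (vC_lt _ _ _ _) ((vC_parts _ _ _ _).1) ((vC_parts _ _ _ _).2.1)).1, hBy i⟩

/-- The dihedral part. -/
theorem K_dihedral {P : ℕ} (hP : P ∈ xD) : ∃ k ∈ d8L, Act e r (e k) P := by
  obtain ⟨n, hn, hA, -⟩ := W.fst.exists_act_h
  have hnd : n ∈ d8L := (show ∀ n ∈ [326, 470], n ∈ d8L by decide) n hn
  obtain ⟨i, -, j, -, l, -, rfl⟩ := xD_word P hP
  have hmulk : ∀ A B, (∃ k ∈ d8L, Act e r (e k) A) → (∃ k ∈ d8L, Act e r (e k) B) →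
      ∃ k ∈ d8L, Act e r (e k) (mM A B) := by
    rintro A B ⟨k, hk, kA⟩ ⟨k', hk', kB⟩
    refine ⟨mL k k', d8_closed.1 k hk k' hk', ?_⟩
    rw [W.fst.cent.mul k (d8_spec.1 k hk).1 k' (d8_spec.1 k' hk').1]
    exact W.fst.act_mul kA kB
  have hone : ∃ k ∈ d8L, Act e r (e k) mI := ⟨0, by decide, W.fst.cent.e0.symm ▸ W.fst.act_one⟩
  refine hmulk _ _ (hmulk _ _ ?_ ?_) ?_
  · cases Nat.beq i 0 <;> [exact ⟨144, by decide, W.fst.cent.z_eq.symm ▸ W.fst.act_z⟩; exact hone]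
  · cases Nat.beq j 0 <;> [exact ⟨576, by decide, W.fst.act_t⟩; exact hone]
  · cases Nat.beq l 0 <;> [exact ⟨n, hnd, hA⟩; exact hone]

/-- Every matrix is induced by the stabilizer. -/
theorem K_real : ∀ A ∈ xT, ∃ k ∈ L.K, Act e r k A := by
  obtain ⟨w, hw, n1, n2⟩ := xW_spec.2.2.2.2.2
  obtain ⟨y, hy, -, hyw⟩ := L.K_onto_W hw
  refine xT_all (S := fun A => ∃ k ∈ L.K, Act e r k A) ⟨1, one_mem _, W.fst.act_one⟩
    (fun A B ⟨x, hx, xa⟩ ⟨y, hy, yb⟩ => ⟨x * y, mul_mem hx hy, W.fst.act_mul xa yb⟩)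
    (fun k hk => ?_) (xW_spec.2.1 w hw).1 n1 n2 ⟨y, hy, hyw⟩
  obtain ⟨m, hm, hA⟩ := L.K_dihedral (xD_sub.2 k hk)
  exact ⟨_, L.d8_K hm, hA⟩

/-- A member of the stabilizer keeping the first line fixes its point. -/
theorem K_line {k : G} (hk : k ∈ L.K) (hl : k * e 8 * k⁻¹ = e 8 ∨ k * e 8 * k⁻¹ = (e 8)⁻¹) :
    k • cs W.M (e 12) = cs W.M (e 12) := by
  have C := W.fst.cent
  obtain ⟨A, hA, kA⟩ := (L.mem_K.1 hk).1
  have hline : ap A 4 = 4 ∨ ap A 4 = 8 := by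
    have h := kA.2 4 (by norm_num)
    rw [W.ev_four] at h
    rcases hl with h' | h'
    · left; exact W.fst.ev_inj (ap_lt _ _) (by norm_num) (by rw [← h, h', W.ev_four])
    · right
      refine W.fst.ev_inj (ap_lt _ _) (by norm_num) ?_
      rw [← h, h', ← W.ev_four, W.fst.ev_inv, four_nums.2.1]
  obtain ⟨w, hw, P, hP, hP4, hwP⟩ := xL_split A hA hline
  obtain ⟨y, hy, hyR, hyw⟩ := L.K_onto_W hw
  obtain ⟨m, hm, hmP⟩ := L.K_dihedral hP
  have hk' : k = y * e m := L.K_inj hk (mul_mem hy (L.d8_K hm)) kA (hwP ▸ W.fst.act_mul hyw hmP)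
  have hm' := (d8_spec.1 m hm).1
  have hcj : cjL m 8 = 8 ∨ cjL m 8 = 4 := by
    have h := hmP.2 4 (by norm_num)
    rw [W.ev_four, ← C.e_cj hm' (by norm_num)] at h
    have h8 : ev e r 8 = e 4 := by
      rw [show ev e r 8 = ev e r (vS 2 4) by rw [four_nums.2.1], ← W.fst.ev_inv, W.ev_four,
        ← C.e_inv (by norm_num)]
      congr 1
    rcases hP4 with h4 | h4
    · left; exact C.inj (cjL m 8) (mL_lt _ _) 8 (by norm_num) (by rw [h, h4, W.ev_four])
    · right; exact C.inj (cjL m 8) (mL_lt _ _) 4 (by norm_num) (by rw [h, h4, h8])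
  have hfix : e m • cs W.M (e 12) = cs W.M (e 12) := by
    rw [cs_smul, ← C.mul m hm' 12 (by norm_num), eq_comm, L.num_eq (by norm_num) (mL_lt _ _)]
    have := (d8_closed.2.2 m hm hcj)
    rwa [show mL (iL 12) (mL m 12) = mL (mL (iL 12) m) 12 from
      (show ∀ m ∈ d8L, mL (iL 12) (mL m 12) = mL (mL (iL 12) m) 12 by decide +kernel) m hm]
  rw [hk', mul_smul, hfix, L.R_fix hyR]

/-- Every element of the normalizer is a translation times a member of the stabilizer, in either order. -/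
theorem M_split {m : G} (hm : m ∈ W.M) :
    (∃ v < 81, ∃ k ∈ L.K, m = ev e r v * k) ∧ ∃ v < 81, ∃ k ∈ L.K, m = k * ev e r v := by
  obtain ⟨A, hA, mA⟩ := hm
  obtain ⟨k, hk, kA⟩ := L.K_real A hA
  obtain ⟨B, -, hB⟩ := W.M.inv_mem (L.mem_K.1 hk).1
  refine ⟨?_, ?_⟩
  · have k1 := W.fst.act_mul mA hB
    have k2 := W.fst.act_mul kA hB
    rw [mul_inv_cancel] at k2
    rw [W.fst.act_inj k2 W.fst.act_one] at k1
    obtain ⟨v, hv, ev'⟩ := W.fst.mem_of_act k1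
    exact ⟨v, hv, k, hk, by rw [ev', inv_mul_cancel_right]⟩
  · have k1 := W.fst.act_mul hB mA
    have k2 := W.fst.act_mul hB kA
    rw [inv_mul_cancel] at k2
    rw [W.fst.act_inj k2 W.fst.act_one] at k1
    obtain ⟨v, hv, ev'⟩ := W.fst.mem_of_act k1
    exact ⟨v, hv, k, hk, by rw [ev', mul_inv_cancel_left]⟩

end Line

end Cfsg.Agent.Spor.UFourType
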