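import Cfsg.Agent.Lib.Spor.UFourType.Swap

/-!
The part of the centralizer coming from the quaternion part of `z' = x 1 * y 1`: an element `b` with `b² = z'` acting
on both factors by an outer automorphism, and an involution `u` exchanging the factors.
-/

set_option autoImplicit false
set_option maxRecDepth 100000

namespace Cfsg.Agent.Spor.UFourType

variable {G : Type*} [Group G] {z : G} {x y : ℕ → G}

/-- The normal form of the data. -/
structure Frame (z : G) (x y : ℕ → G) (s b u : G) : Prop where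
  sw : Swap z x y s
  bz : Commute b z
  b2 : b * b = x 1 * y 1
  bx : ∀ a < 24, b * x a * b⁻¹ = x (sPhi a)
  bQ : InQ x y (s⁻¹ * b * s)
  uz : Commute u z
  u2 : u * u = 1
  ux : ∀ a < 24, u * x a * u = y a
  uQ : InQ x y (s⁻¹ * u * s)
  ub : u * b * u = b * (x 1 * y 1)

namespace Raw

variable (R : Raw z x y)
include R

/-- Fixing `i` and mapping `j` to one of `±j` or one of `±k`. -/
theorem image_two {h : G} (hh : Commute h z) {p : ℕ} (hp : p ∈ o4L) (e1 : h * x 1 * h⁻¹ = x p)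
    (hs : ∀ a < 24, ∃ c < 24, h * x a * h⁻¹ = x c) :
    ∃ q ∈ o4L, h * x 2 * h⁻¹ = x q ∧ sMul p q ≠ sMul q p := by
  obtain ⟨q, hq, eq⟩ := hs 2 (by norm_num)
  have key : ∀ q < 24, sMul q q = 12 → q ∈ o4L := by decide +kernel
  have hqq : sMul q q = 12 := R.hx.inj _ (sMul_lt q hq q hq) 12 (by norm_num) (by
    rw [R.hx.mul q hq q hq, ← eq, show h * x 2 * h⁻¹ * (h * x 2 * h⁻¹) = h * (x 2 * x 2) * h⁻¹ by group,
      ← R.hx.mul 2 (by norm_num) 2 (by norm_num), show sMul 2 2 = 12 by decide, R.x12, hh.eq, mul_inv_cancel_right])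
  refine ⟨q, key q hq hqq, eq, fun e => ?_⟩
  have e' : x (sMul p q) = x (sMul q p) := by rw [e]
  rw [R.hx.mul p (mem_o4L_lt p hp) q hq, R.hx.mul q hq p (mem_o4L_lt p hp), ← e1, ← eq,
    show h * x 1 * h⁻¹ * (h * x 2 * h⁻¹) = h * (x 1 * x 2) * h⁻¹ by group,
    show h * x 2 * h⁻¹ * (h * x 1 * h⁻¹) = h * (x 2 * x 1) * h⁻¹ by group,
    ← R.hx.mul 1 (by norm_num) 2 (by norm_num), ← R.hx.mul 2 (by norm_num) 1 (by norm_num)] at e'
  exact absurd (R.hx.inj _ (by decide) _ (by decide) (mul_left_cancel (mul_right_cancel e'))) (by decide)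

/-- An element acting on the quaternion part as one of its members is in it. -/
theorem mem_of_action {h : G} (hh : Commute h z) {p r : ℕ} (hp : p ∈ q8L) (hr : r ∈ q8L)
    (h1 : h * x 1 * h⁻¹ = x (sConj p 1)) (h2 : h * x 2 * h⁻¹ = x (sConj p 2))
    (h3 : h * y 1 * h⁻¹ = y (sConj r 1)) (h4 : h * y 2 * h⁻¹ = y (sConj r 2)) : InQ x y h := by
  have hp' := mem_q8L_lt p hp
  have hr' := mem_q8L_lt r hr
  let q := x p * y r
  have hq : InQ x y q := ⟨p, hp, r, hr, rfl⟩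
  have hqx : ∀ a < 24, q * x a * q⁻¹ = x (sConj p a) := fun a ha => by
    have := R.conjP hp' hr' ha (show (0 : ℕ) < 24 by norm_num)
    rw [R.hy.one, mul_one] at this
    rw [this, (show ∀ r < 24, sConj r 0 = 0 by decide +kernel) r hr', R.hy.one, mul_one]
  have hqy : ∀ a < 24, q * y a * q⁻¹ = y (sConj r a) := fun a ha => by
    have := R.conjP hp' hr' (show (0 : ℕ) < 24 by norm_num) ha
    rw [R.hx.one, one_mul] at this
    rw [this, (show ∀ r < 24, sConj r 0 = 0 by decide +kernel) p hp', R.hx.one, one_mul]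
  have hk : Commute (q⁻¹ * h) z := ((R.inQ_comm hq).inv_left).mul_left hh
  have fx : ∀ a, a < 24 → h * x a * h⁻¹ = x (sConj p a) → Commute (q⁻¹ * h) (x a) := fun a ha e => by
    show q⁻¹ * h * x a = x a * (q⁻¹ * h)
    rw [← hqx a ha] at e
    calc q⁻¹ * h * x a = q⁻¹ * (h * x a * h⁻¹) * h := by group
      _ = q⁻¹ * (q * x a * q⁻¹) * h := by rw [e]
      _ = x a * (q⁻¹ * h) := by group
  have fy : ∀ a, a < 24 → h * y a * h⁻¹ = y (sConj r a) → Commute (q⁻¹ * h) (y a) := fun a ha e => by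
    show q⁻¹ * h * y a = y a * (q⁻¹ * h)
    rw [← hqy a ha] at e
    calc q⁻¹ * h * y a = q⁻¹ * (h * y a * h⁻¹) * h := by group
      _ = q⁻¹ * (q * y a * q⁻¹) * h := by rw [e]
      _ = y a * (q⁻¹ * h) := by group
  have hgen : ∀ a ∈ q8L, ∃ i < 4, ∃ j < 2, a = sMul ((fun n => if n = 0 then 0 else if n = 1 then 1 else if n = 2 then 12 else 13) i) (if j = 0 then 0 else 2) := by
    decide
  have hfix : ∀ (W : ℕ → G), STab W → Commute (q⁻¹ * h) (W 1) → Commute (q⁻¹ * h) (W 2) →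
      ∀ a ∈ q8L, Commute (q⁻¹ * h) (W a) := fun W hW c1 c2 a ha => by
    obtain ⟨i, hi, j, hj, rfl⟩ := hgen a ha
    have c0 : Commute (q⁻¹ * h) (W 0) := by rw [hW.one]; exact Commute.one_right _
    have c12 : Commute (q⁻¹ * h) (W 12) := by
      rw [show (12 : ℕ) = sMul 1 1 by decide, hW.mul 1 (by norm_num) 1 (by norm_num)]; exact c1.mul_right c1
    have c13 : Commute (q⁻¹ * h) (W 13) := by
      rw [show (13 : ℕ) = sMul 1 12 by decide, hW.mul 1 (by norm_num) 12 (by norm_num)]; exact c1.mul_right c12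
    interval_cases i <;> interval_cases j <;> norm_num <;> rw [hW.mul _ (by norm_num) _ (by norm_num)] <;>
      exact Commute.mul_right (by assumption) (by assumption)
  have := R.self (q⁻¹ * h) hk (by
    rintro v ⟨a, ha, c, hc, rfl⟩
    exact (hfix x R.hx (fx 1 (by norm_num) h1) (fx 2 (by norm_num) h2) a ha).mul_right
      (hfix y R.hy (fy 1 (by norm_num) h3) (fy 2 (by norm_num) h4) c hc))
  rcases this with e | e
  · rw [show h = q * (q⁻¹ * h) by group, e, mul_one]; exact hq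
  · rw [show h = q * (q⁻¹ * h) by group, e]; exact R.inQ_mul hq R.inQ_z

end Raw

namespace Swap

variable {s : G} (S : Swap z x y s)
include S

theorem q'_mul {v w : G} (hv : InQ x y (s⁻¹ * v * s)) (hw : InQ x y (s⁻¹ * w * s)) :
    InQ x y (s⁻¹ * (v * w) * s) := by
  rw [show s⁻¹ * (v * w) * s = (s⁻¹ * v * s) * (s⁻¹ * w * s) by group]
  exact S.raw.inQ_mul hv hw

theorem q'_inv {v : G} (hv : InQ x y (s⁻¹ * v * s)) : InQ x y (s⁻¹ * v⁻¹ * s) := by
  rw [show s⁻¹ * v⁻¹ * s = (s⁻¹ * v * s)⁻¹ by group]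
  exact S.raw.inQ_inv hv

theorem q'_norm {v w : G} (hv : Commute v (x 1 * y 1)) (hw : InQ x y (s⁻¹ * w * s)) :
    InQ x y (s⁻¹ * (v * w * v⁻¹) * s) := by
  have e : v * s * z * (v * s)⁻¹ = s * z * s⁻¹ := by
    rw [show v * s * z * (v * s)⁻¹ = v * (s * z * s⁻¹) * v⁻¹ by group, S.sz, hv.eq, mul_inv_cancel_right]
  refine (S.raw.inQ_iff e).1 ?_
  rw [show (v * s)⁻¹ * (v * w * v⁻¹) * (v * s) = s⁻¹ * w * s by group]
  exact hw

theorem s2_comm : Commute (s * s) z ∧ Commute (s * s) (x 1 * y 1) := by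
  constructor
  · show s * s * z = z * (s * s)
    rw [← mul_inv_eq_iff_eq_mul, show s * s * z * (s * s)⁻¹ = s * (s * z * s⁻¹) * s⁻¹ by group, S.sz, S.szP]
  · show s * s * (x 1 * y 1) = x 1 * y 1 * (s * s)
    rw [← mul_inv_eq_iff_eq_mul, show s * s * (x 1 * y 1) * (s * s)⁻¹ = s * (s * (x 1 * y 1) * s⁻¹) * s⁻¹ by group,
      S.szP, S.sz]

/-- An element commuting with both whose square is `z` differs from `x 1` by the common part. -/
theorem x_class {v : G} (hv : InQ x y v) (hc : Commute v (x 1 * y 1)) (h2 : v * v = z) :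
    InW z x y (v * (x 1)⁻¹) := by
  have R := S.raw
  obtain ⟨p, hp, r, hr, rfl⟩ := hv
  have hp' := mem_q8L_lt p hp
  have hr' := mem_q8L_lt r hr
  have lt : (1 : ℕ) < 24 := by norm_num
  have hc' := hc.eq
  rw [R.mulP hp' hr' lt lt, R.mulP lt lt hp' hr',
    R.eqP_iff (sMul_lt p hp' 1 lt) (sMul_lt r hr' 1 lt) (sMul_lt 1 lt p hp') (sMul_lt 1 lt r hr')] at hc'
  rw [R.mulP hp' hr' hp' hr', R.z_eq,
    R.eqP_iff (sMul_lt p hp' p hp') (sMul_lt r hr' r hr') (by norm_num) (by norm_num)] at h2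
  have key : ∀ p ∈ q8L, ∀ r ∈ q8L, eqP (sMul p 1) (sMul r 1) (sMul 1 p) (sMul 1 r) → eqP (sMul p p) (sMul r r) 12 0 →
      eqP (sMul p 13) r 0 0 ∨ eqP (sMul p 13) r 12 0 ∨ eqP (sMul p 13) r 1 1 ∨ eqP (sMul p 13) r 13 1 := by decide
  have e : x p * y r * (x 1)⁻¹ = x (sMul p 13) * y r := by
    rw [← R.hx.inv lt, show sInv 1 = 13 by decide, R.hx.mul p hp' 13 (by norm_num), mul_assoc, mul_assoc,
      (R.comm 13 (by norm_num) r hr').eq]
  have l := sMul_lt p hp' 13 (by norm_num)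
  rcases key p hp r hr hc' h2 with h | h | h | h
  · exact Or.inl (by rw [e, (R.eqP_iff l hr' (by norm_num) (by norm_num)).2 h, ← R.one_eq])
  · exact Or.inr (Or.inl (by rw [e, (R.eqP_iff l hr' (by norm_num) (by norm_num)).2 h, ← R.z_eq]))
  · exact Or.inr (Or.inr (Or.inl (by rw [e, (R.eqP_iff l hr' lt lt).2 h])))
  · refine Or.inr (Or.inr (Or.inr ?_))
    rw [e, (R.eqP_iff l hr' (by norm_num) lt).2 h, ← mul_assoc, show (13 : ℕ) = sMul 12 1 by decide,
      R.hx.mul 12 (by norm_num) 1 lt, R.x12]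

/-- The members of the common part commute with what commutes with `z` and `z'`. -/
theorem w_comm {w v : G} (hw : InW z x y w) (hz : Commute v z) (hP : Commute v (x 1 * y 1)) : Commute v w := by
  rcases hw with rfl | rfl | rfl | rfl
  exacts [Commute.one_right _, hz, hP, hz.mul_right hP]

theorem w_sq {w : G} (hw : InW z x y w) : w * w = 1 := by
  have R := S.raw
  have hPP : x 1 * y 1 * (x 1 * y 1) = 1 := by
    rw [R.mulP (by norm_num) (by norm_num) (by norm_num) (by norm_num), R.one_eq,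
      R.eqP_iff (by decide) (by decide) (by norm_num) (by norm_num)]
    decide
  rcases hw with rfl | rfl | rfl | rfl
  · exact one_mul 1
  · exact R.z2
  · exact hPP
  · rw [show z * (x 1 * y 1) * (z * (x 1 * y 1)) = z * ((x 1 * y 1) * z) * (x 1 * y 1) by group,
      (R.inC_P (by norm_num) (by norm_num)).eq, show z * (z * (x 1 * y 1)) * (x 1 * y 1) = z * z * (x 1 * y 1 * (x 1 * y 1)) by group,
      R.z2, hPP, one_mul]

/-- **The two elements.** -/
theorem exists_frame : ∃ b u y', Frame z x y' s b u ∧ y' 1 = y 1 := by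
  have R := S.raw
  have lt : (1 : ℕ) < 24 := by norm_num
  have lt2 : (2 : ℕ) < 24 := by norm_num
  have hQP : InQ x y (x 1 * y 1) := ⟨1, by decide, 1, by decide, rfl⟩
  have ha : InQ x y (x 1) := ⟨1, by decide, 0, by decide, by rw [R.hy.one, mul_one]⟩
  have haz : Commute (x 1) z := (R.inC 1 lt).1
  have haP : Commute (x 1) (x 1 * y 1) := (Commute.refl _).mul_right (R.comm 1 lt 1 lt)
  have haa : x 1 * x 1 = z := by rw [← R.hx.mul 1 lt 1 lt, show sMul 1 1 = 12 by decide, R.x12]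
  have hw : InQ x y (x 2 * y 2) := ⟨2, by decide, 2, by decide, rfl⟩
  have hwz : Commute (x 2 * y 2) z := R.inC_P lt2 lt2
  have hwP : Commute (x 2 * y 2) (x 1 * y 1) := by
    show x 2 * y 2 * (x 1 * y 1) = _
    rw [R.mulP lt2 lt2 lt lt, R.mulP lt lt lt2 lt2, R.eqP_iff (by decide) (by decide) (by decide) (by decide)]
    decide
  have hww : x 2 * y 2 * (x 2 * y 2) = 1 := by
    rw [R.mulP lt2 lt2 lt2 lt2, R.one_eq, R.eqP_iff (by decide) (by decide) (by norm_num) (by norm_num)]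
    decide
  set P := x 1 * y 1 with hP
  have hsz : s * z * s⁻¹ = P := S.sz
  have hsP : s * P * s⁻¹ = z := S.szP
  have hPz : Commute P z := R.inC_P lt lt
  have hzP' : s⁻¹ * z * s = P := by rw [← hsP]; group
  have hPP' : s⁻¹ * P * s = z := by rw [← hsz]; group
  have conjC : ∀ {v : G}, Commute v z → Commute v P → Commute (s * v * s⁻¹) z ∧ Commute (s * v * s⁻¹) P := by
    intro v hz hP
    exact ⟨hsP ▸ (Commute.conj_iff s).2 hP, hsz ▸ (Commute.conj_iff s).2 hz⟩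
  have conjQ : ∀ {v : G}, InQ x y v → InQ x y (s⁻¹ * (s * v * s⁻¹) * s) := fun {v} hv => by
    rwa [show s⁻¹ * (s * v * s⁻¹) * s = v by group]
  set b₀ := s * x 1 * s⁻¹ with hb₀
  set u := s * (x 2 * y 2) * s⁻¹ with hu
  obtain ⟨hbz, hbP⟩ := conjC haz haP
  obtain ⟨huz, huP⟩ := conjC hwz hwP
  have hb2 : b₀ * b₀ = P := by rw [hb₀, show s * x 1 * s⁻¹ * (s * x 1 * s⁻¹) = s * (x 1 * x 1) * s⁻¹ by group, haa, hsz]
  have hu2 : u * u = 1 := by rw [hu, show s * (x 2 * y 2) * s⁻¹ * (s * (x 2 * y 2) * s⁻¹) =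
      s * (x 2 * y 2 * (x 2 * y 2)) * s⁻¹ by group, hww, mul_one, mul_inv_cancel]
  have hbQ' := conjQ ha
  have huQ' := conjQ hw
  rw [← hb₀] at hbQ' hbz hbP
  rw [← hu] at huQ' huz huP
  have hbQ : ¬ InQ x y b₀ := fun h => by
    have h1 := S.w_sq (S.meet _ h hbQ')
    rw [hb2] at h1
    exact absurd ((R.eqP_iff lt lt (by norm_num) (by norm_num)).1 (h1.trans R.one_eq)) (by decide)
  -- the four-element of the third quaternion part
  have hq : InQ x y (x 2) := ⟨2, by decide, 0, by decide, by rw [R.hy.one, mul_one]⟩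
  have hqz : Commute (x 2) z := (R.inC 2 lt2).1
  have hqP : x 2 * P * (x 2)⁻¹ = z * P := by
    have := R.conjP lt2 (show (0 : ℕ) < 24 by norm_num) lt lt
    rw [R.hy.one, mul_one] at this
    rw [hP, this, ← mul_assoc, show sConj 2 1 = sMul 12 1 by decide, R.hx.mul 12 (by norm_num) 1 lt, R.x12,
      show sConj 0 1 = 1 by decide]
  have hszP' : s * (z * P) * s⁻¹ = z * P := by
    rw [show s * (z * P) * s⁻¹ = (s * z * s⁻¹) * (s * P * s⁻¹) by group, hsz, hsP, hPz.eq]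
  set c := x 2 * b₀ * (x 2)⁻¹ with hc
  have hzP2 : z * P * (z * P) = 1 := S.w_sq (Or.inr (Or.inr (Or.inr rfl)))
  have hc2 : c * c = z * P := by
    rw [hc, show x 2 * b₀ * (x 2)⁻¹ * (x 2 * b₀ * (x 2)⁻¹) = x 2 * (b₀ * b₀) * (x 2)⁻¹ by group, hb2, hqP]
  have hcQ'' : InQ x y ((x 2 * s)⁻¹ * c * (x 2 * s)) := by
    rw [hc, show (x 2 * s)⁻¹ * (x 2 * b₀ * (x 2)⁻¹) * (x 2 * s) = s⁻¹ * b₀ * s by group]
    exact hbQ'
  have hcz : Commute c z := by
    rw [hc, show z = x 2 * z * (x 2)⁻¹ by rw [hqz.eq, mul_inv_cancel_right]]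
    exact (Commute.conj_iff (x 2)).2 hbz
  have hczP : Commute c (z * P) := hc2 ▸ (Commute.refl c).mul_right (Commute.refl c)
  have hcP : Commute c P := by
    have := hcz.mul_right hczP
    rwa [← mul_assoc, R.z2, one_mul] at this
  -- the class is fixed by the exchange
  have hσc : InW z x y (s * c * s⁻¹ * c⁻¹) := by
    set m := x 2 * s with hm
    have hmz : m * z * m⁻¹ = z * P := by
      rw [hm, show x 2 * s * z * (x 2 * s)⁻¹ = x 2 * (s * z * s⁻¹) * (x 2)⁻¹ by group, hsz, hqP]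
    have hmP : m * P * m⁻¹ = z := by
      rw [hm, show x 2 * s * P * (x 2 * s)⁻¹ = x 2 * (s * P * s⁻¹) * (x 2)⁻¹ by group, hsP, hqz.eq, mul_inv_cancel_right]
    have hin : InQ x y (m⁻¹ * (s * c * s⁻¹) * m) := by
      refine (R.inQ_iff (c := s * m) ?_).1 ?_
      · rw [show s * m * z * (s * m)⁻¹ = s * (m * z * m⁻¹) * s⁻¹ by group, hmz, hszP']
      · rw [show (s * m)⁻¹ * (s * c * s⁻¹) * (s * m) = m⁻¹ * c * m by group]
        exact hcQ''
    have hPm : m⁻¹ * z * m = P := by rw [← hmP]; group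
    have hzm : m⁻¹ * (z * P) * m = z := by rw [← hmz]; group
    have hsq : m⁻¹ * (s * c * s⁻¹) * m * (m⁻¹ * (s * c * s⁻¹) * m) = z := by
      rw [show m⁻¹ * (s * c * s⁻¹) * m * (m⁻¹ * (s * c * s⁻¹) * m) = m⁻¹ * (s * (c * c) * s⁻¹) * m by group, hc2,
        hszP', hzm]
    have hcm : Commute (m⁻¹ * (s * c * s⁻¹) * m) (x 1 * y 1) := by
      rw [← hP, ← hPm]
      show m⁻¹ * (s * c * s⁻¹) * m * (m⁻¹ * z * m) = m⁻¹ * z * m * (m⁻¹ * (s * c * s⁻¹) * m)
      rw [show m⁻¹ * (s * c * s⁻¹) * m * (m⁻¹ * z * m) = m⁻¹ * ((s * c * s⁻¹) * z) * m by group,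
        ((conjC hcz hcP).1).eq]
      group
    have hW := S.x_class hin hcm hsq
    have e : m * x 1 * m⁻¹ = c := by rw [hc, hm, hb₀]; group
    rw [show s * c * s⁻¹ * c⁻¹ = m * (m⁻¹ * (s * c * s⁻¹) * m * (x 1)⁻¹) * m⁻¹ by
      conv_lhs => rw [← e]
      rw [← e]
      group]
    rcases hW with h | h | h | h <;> rw [h]
    · exact Or.inl (by group)
    · exact Or.inr (Or.inr (Or.inr hmz))
    · exact Or.inr (Or.inl hmP)
    · refine Or.inr (Or.inr (Or.inl ?_))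
      rw [show m * (z * (x 1 * y 1)) * m⁻¹ = (m * z * m⁻¹) * (m * (x 1 * y 1) * m⁻¹) by group, hmz, hmP, mul_assoc,
        hPz.eq, ← mul_assoc, R.z2, one_mul]
  have hσb : InW z x y (s * b₀ * s⁻¹ * (x 1)⁻¹) := by
    refine S.x_class ?_ ?_ ?_
    · rw [hb₀, show s * (s * x 1 * s⁻¹) * s⁻¹ = s * s * x 1 * (s * s)⁻¹ by group]
      exact R.normQ _ S.s2_comm.1 _ ha
    · exact (conjC hbz hbP).2
    · rw [show s * b₀ * s⁻¹ * (s * b₀ * s⁻¹) = s * (b₀ * b₀) * s⁻¹ by group, hb2, hsP]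
  have hab : Commute b₀ (x 1) := by
    have hWQ : ∀ v, InW z x y v → InQ x y (s⁻¹ * v * s) := fun v hv => (S.memQ' v hv).2
    have hca : InQ x y (s⁻¹ * (c * (x 1)⁻¹) * s) := by
      set sq := s * x 2 * s⁻¹ with hsq
      set wb := s * b₀ * s⁻¹ * (x 1)⁻¹ with hwb
      have hsq' : InQ x y (s⁻¹ * sq * s) := conjQ hq
      have e2 : c * (x 1)⁻¹ = (s * c * s⁻¹ * c⁻¹)⁻¹ * (sq * wb * (x 1 * sq⁻¹ * (x 1)⁻¹)) := by
        rw [hsq, hwb, hc]; group
      rw [e2]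
      exact S.q'_mul (S.q'_inv (hWQ _ hσc))
        (S.q'_mul (S.q'_mul hsq' (hWQ _ hσb)) (S.q'_norm haP (S.q'_inv hsq')))
    have hcb : InQ x y (c * b₀⁻¹) := by
      rw [hc, show x 2 * b₀ * (x 2)⁻¹ * b₀⁻¹ = x 2 * (b₀ * (x 2)⁻¹ * b₀⁻¹) by group]
      exact R.inQ_mul hq (R.normQ _ hbz _ (R.inQ_inv hq))
    have hW : InW z x y (c * b₀⁻¹ * (x 1)⁻¹) := by
      refine S.meet _ (R.inQ_mul hcb (R.inQ_inv ha)) ?_
      rw [show c * b₀⁻¹ * (x 1)⁻¹ = (c * (x 1)⁻¹) * (x 1 * b₀⁻¹ * (x 1)⁻¹) by group]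
      exact S.q'_mul hca (S.q'_norm haP (S.q'_inv hbQ'))
    set w := c * b₀⁻¹ * (x 1)⁻¹ with hwdef
    have hcw : c = w * (x 1 * b₀) := by rw [hwdef]; group
    have hwab : Commute w (x 1 * b₀) := (S.w_comm hW (haz.mul_left hbz) (haP.mul_left hbP)).symm
    have h1 : x 1 * b₀ * (x 1 * b₀) = z * P := by
      rw [← hc2, hcw, show w * (x 1 * b₀) * (w * (x 1 * b₀)) = w * (x 1 * b₀ * w) * (x 1 * b₀) by group, ← hwab.eq,
        show w * (w * (x 1 * b₀)) * (x 1 * b₀) = w * w * (x 1 * b₀ * (x 1 * b₀)) by group, S.w_sq hW, one_mul]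
    rw [← haa, ← hb2, show x 1 * b₀ * (x 1 * b₀) = x 1 * (b₀ * x 1) * b₀ by group,
      show x 1 * x 1 * (b₀ * b₀) = x 1 * (x 1 * b₀) * b₀ by group] at h1
    exact mul_left_cancel (mul_right_cancel h1)
  -- the action of `b₀`
  have hbx1 : b₀ * x 1 * b₀⁻¹ = x 1 := by rw [hab.eq, mul_inv_cancel_right]
  have hby1 : b₀ * y 1 * b₀⁻¹ = y 1 := by
    rw [show y 1 = (x 1)⁻¹ * P by rw [hP]; group,
      show b₀ * ((x 1)⁻¹ * P) * b₀⁻¹ = (b₀ * x 1 * b₀⁻¹)⁻¹ * (b₀ * P * b₀⁻¹) by group, hbx1, hbP.eq,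
      mul_inv_cancel_right]
  obtain ⟨p₀, hp₀, ep₀⟩ : ∃ p ∈ o4L, b₀ * x 2 * b₀⁻¹ = x p := by
    rcases R.image_side hbz (show 2 ∈ o4L by decide) with h | ⟨p, hp, e⟩
    · exact h
    · exfalso
      have h1 : Commute (b₀ * x 1 * b₀⁻¹) (b₀ * x 2 * b₀⁻¹) := by rw [hbx1, e]; exact R.comm 1 lt p (mem_o4L_lt p hp)
      have h2 := (Commute.conj_iff b₀).1 h1
      exact absurd (R.hx.inj _ (by decide) _ (by decide) (show x (sMul 1 2) = x (sMul 2 1) by
        rw [R.hx.mul 1 lt 2 lt2, R.hx.mul 2 lt2 1 lt]; exact h2.eq)) (by decide)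
  obtain ⟨hbsx, hbsy⟩ := R.side_of hbz (show 1 ∈ o4L by decide) hp₀ hbx1 ep₀
  obtain ⟨p, hp, ep, hpne⟩ := R.image_two hbz (show 1 ∈ o4L by decide) hbx1 hbsx
  obtain ⟨r, hr, er, hrne⟩ := R.symm.image_two hbz (show 1 ∈ o4L by decide) hby1 hbsy
  have hp24 := mem_o4L_lt p hp
  have hr24 := mem_o4L_lt r hr
  have hbw : InW z x y (b₀ * (x 2 * y 2) * b₀⁻¹ * (x 2 * y 2)⁻¹) := by
    refine S.meet _ (R.inQ_mul (R.normQ _ hbz _ hw) (R.inQ_inv hw)) ?_
    rw [show b₀ * (x 2 * y 2) * b₀⁻¹ * (x 2 * y 2)⁻¹ = b₀ * ((x 2 * y 2) * b₀⁻¹ * (x 2 * y 2)⁻¹) by group]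
    exact S.q'_mul hbQ' (S.q'_norm hwP (S.q'_inv hbQ'))
  have hbw' : b₀ * (x 2 * y 2) * b₀⁻¹ * (x 2 * y 2)⁻¹ = x (sMul p 14) * y (sMul r 14) := by
    rw [show b₀ * (x 2 * y 2) * b₀⁻¹ = (b₀ * x 2 * b₀⁻¹) * (b₀ * y 2 * b₀⁻¹) by group, ep, er, R.invP lt2 lt2,
      show sInv 2 = 14 by decide, R.mulP hp24 hr24 (by norm_num) (by norm_num)]
  have hpar : (p = 3 ∨ p = 15) ∧ (r = 3 ∨ r = 15) := by
    have key : ∀ p ∈ o4L, ∀ r ∈ o4L, sMul 1 p ≠ sMul p 1 → sMul 1 r ≠ sMul r 1 →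
        (eqP (sMul p 14) (sMul r 14) 0 0 ∨ eqP (sMul p 14) (sMul r 14) 12 0 ∨ eqP (sMul p 14) (sMul r 14) 1 1 ∨
          eqP (sMul p 14) (sMul r 14) 13 1) →
        ((p = 3 ∨ p = 15) ∧ (r = 3 ∨ r = 15)) ∨ ((p = 2 ∨ p = 14) ∧ (r = 2 ∨ r = 14)) := by decide
    have hW' : eqP (sMul p 14) (sMul r 14) 0 0 ∨ eqP (sMul p 14) (sMul r 14) 12 0 ∨ eqP (sMul p 14) (sMul r 14) 1 1 ∨
          eqP (sMul p 14) (sMul r 14) 13 1 := by
      have l1 := sMul_lt p hp24 14 (by norm_num)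
      have l2 := sMul_lt r hr24 14 (by norm_num)
      rw [hbw'] at hbw
      rcases hbw with h | h | h | h
      · exact Or.inl ((R.eqP_iff l1 l2 (by norm_num) (by norm_num)).1 (h.trans R.one_eq))
      · exact Or.inr (Or.inl ((R.eqP_iff l1 l2 (by norm_num) (by norm_num)).1 (h.trans R.z_eq)))
      · exact Or.inr (Or.inr (Or.inl ((R.eqP_iff l1 l2 lt lt).1 h)))
      · refine Or.inr (Or.inr (Or.inr ((R.eqP_iff l1 l2 (by norm_num) lt).1 (h.trans ?_))))
        rw [← mul_assoc, show (13 : ℕ) = sMul 12 1 by decide, R.hx.mul 12 (by norm_num) 1 lt, R.x12]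
    rcases key p hp r hr hpne hrne hW' with h | ⟨hp2, hr2⟩
    · exact h
    · exfalso
      have hsel : ∀ p, p = 2 ∨ p = 14 → ∃ i ∈ q8L, sConj i 1 = 1 ∧ sConj i 2 = p := by
        rintro p (rfl | rfl)
        · exact ⟨0, by decide, by decide, by decide⟩
        · exact ⟨1, by decide, by decide, by decide⟩
      obtain ⟨i, hi, ei1, ei2⟩ := hsel p hp2
      obtain ⟨j, hj, ej1, ej2⟩ := hsel r hr2
      exact hbQ (R.mem_of_action hbz hi hj (by rw [ei1, hbx1]) (by rw [ei2, ep]) (by rw [ej1, hby1]) (by rw [ej2, er]))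
  -- the relation between `[x 1, u]` and `[b₀, x 2 * y 2]`
  have hau : x 1 * u * (x 1)⁻¹ * u⁻¹ = s * (b₀ * (x 2 * y 2) * b₀⁻¹ * (x 2 * y 2)⁻¹) * s⁻¹ := by
    set b' := s⁻¹ * x 1 * s with hb'
    have hcon : ∀ {v : G}, Commute v z → Commute v P → Commute (s⁻¹ * v * s) z ∧ Commute (s⁻¹ * v * s) P := by
      intro v hz hP'
      refine ⟨?_, ?_⟩
      · rw [← hPP']
        simpa only [inv_inv] using (Commute.conj_iff s⁻¹).2 hP'
      · rw [← hzP']
        simpa only [inv_inv] using (Commute.conj_iff s⁻¹).2 hz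
    have hb'c := hcon haz haP
    have hW : InW z x y (b' * b₀⁻¹) := by
      have h1 : InW z x y (s⁻¹ * b' * s * (x 1)⁻¹) := by
        refine S.x_class ?_ ?_ ?_
        · rw [hb', show s⁻¹ * (s⁻¹ * x 1 * s) * s = (s * s)⁻¹ * x 1 * ((s * s)⁻¹)⁻¹ by rw [inv_inv, mul_inv_rev]; simp only [mul_assoc]]
          exact R.normQ _ S.s2_comm.1.inv_left _ ha
        · exact (hcon hb'c.1 hb'c.2).2
        · rw [hb', show s⁻¹ * (s⁻¹ * x 1 * s) * s * (s⁻¹ * (s⁻¹ * x 1 * s) * s) = s⁻¹ * (s⁻¹ * (x 1 * x 1) * s) * s by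
            group, haa, hzP', hPP']
      rw [show b' * b₀⁻¹ = s * (s⁻¹ * b' * s * (x 1)⁻¹) * s⁻¹ by rw [hb₀]; group]
      rcases h1 with h | h | h | h <;> rw [h]
      · exact Or.inl (by group)
      · exact Or.inr (Or.inr (Or.inl hsz))
      · exact Or.inr (Or.inl hsP)
      · exact Or.inr (Or.inr (Or.inr hszP'))
    set w := b' * b₀⁻¹ with hwdef
    have hbb : b' = w * b₀ := by rw [hwdef]; group
    have hww' : Commute w (b₀ * (x 2 * y 2) * b₀⁻¹) :=
      (S.w_comm hW ((hbz.mul_left hwz).mul_left hbz.inv_left) ((hbP.mul_left hwP).mul_left hbP.inv_left)).symm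
    have e : b₀ * (x 2 * y 2) * b₀⁻¹ = b' * (x 2 * y 2) * b'⁻¹ := by
      rw [hbb, show w * b₀ * (x 2 * y 2) * (w * b₀)⁻¹ = w * (b₀ * (x 2 * y 2) * b₀⁻¹) * w⁻¹ by group, hww'.eq,
        mul_inv_cancel_right]
    rw [e, hb', hu]
    group
  -- `u` exchanges the factors
  have huinv : u⁻¹ = u := inv_eq_of_mul_eq_one_right hu2
  rcases R.image_side huz (show 1 ∈ o4L by decide) with ⟨q₁, hq₁, e₁⟩ | ⟨q₁, hq₁, e₁⟩
  · exfalso
    have hq24 := mem_o4L_lt q₁ hq₁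
    obtain ⟨q₂', hq₂', e₂'⟩ : ∃ q ∈ o4L, u * x 2 * u⁻¹ = x q := by
      rcases R.image_side huz (show 2 ∈ o4L by decide) with h | ⟨q, hq', e⟩
      · exact h
      · exfalso
        have h1 : Commute (u * x 1 * u⁻¹) (u * x 2 * u⁻¹) := by rw [e₁, e]; exact R.comm q₁ hq24 q (mem_o4L_lt q hq')
        have h2 := (Commute.conj_iff u).1 h1
        exact absurd (R.hx.inj _ (by decide) _ (by decide) (show x (sMul 1 2) = x (sMul 2 1) by
          rw [R.hx.mul 1 lt 2 lt2, R.hx.mul 2 lt2 1 lt]; exact h2.eq)) (by decide)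
    obtain ⟨husx, husy⟩ := R.side_of huz hq₁ hq₂' e₁ e₂'
    obtain ⟨r₁, hr₁, f₁⟩ := husy 1 lt
    have hP2 : eqP q₁ r₁ 1 1 := by
      refine (R.eqP_iff hq24 hr₁ lt lt).1 ?_
      rw [← e₁, ← f₁, show u * x 1 * u⁻¹ * (u * y 1 * u⁻¹) = u * P * u⁻¹ by rw [hP]; group, huP.eq, mul_inv_cancel_right]
    have hr₁o : r₁ ∈ o4L ∧ (q₁ = 1 ∨ q₁ = 13) ∧ r₁ = q₁ := by
      have key : ∀ q ∈ o4L, ∀ r < 24, eqP q r 1 1 → r ∈ o4L ∧ (q = 1 ∨ q = 13) ∧ r = q := by decide +kernel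
      exact key q₁ hq₁ r₁ hr₁ hP2
    obtain ⟨hr₁o, hq₁c, hrq⟩ := hr₁o
    obtain ⟨q₂, hq₂, e₂, hne₂⟩ := R.image_two huz hq₁ e₁ husx
    obtain ⟨r₂, hr₂, f₂, hnf₂⟩ := R.symm.image_two huz hr₁o f₁ husy
    have hq₂' := mem_o4L_lt q₂ hq₂
    have hr₂' := mem_o4L_lt r₂ hr₂
    have huw : InW z x y (u * (x 2 * y 2) * u⁻¹ * (x 2 * y 2)⁻¹) := by
      refine S.meet _ (R.inQ_mul (R.normQ _ huz _ hw) (R.inQ_inv hw)) ?_
      rw [show u * (x 2 * y 2) * u⁻¹ * (x 2 * y 2)⁻¹ = u * ((x 2 * y 2) * u⁻¹ * (x 2 * y 2)⁻¹) by group]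
      exact S.q'_mul huQ' (S.q'_norm hwP (S.q'_inv huQ'))
    rw [show u * (x 2 * y 2) * u⁻¹ = (u * x 2 * u⁻¹) * (u * y 2 * u⁻¹) by group, e₂, f₂, R.invP lt2 lt2,
      show sInv 2 = 14 by decide, R.mulP hq₂' hr₂' (by norm_num) (by norm_num)] at huw
    have hW' : eqP (sMul q₂ 14) (sMul r₂ 14) 0 0 ∨ eqP (sMul q₂ 14) (sMul r₂ 14) 12 0 ∨
        eqP (sMul q₂ 14) (sMul r₂ 14) 1 1 ∨ eqP (sMul q₂ 14) (sMul r₂ 14) 13 1 := by
      have l1 := sMul_lt q₂ hq₂' 14 (by norm_num)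
      have l2 := sMul_lt r₂ hr₂' 14 (by norm_num)
      rcases huw with h | h | h | h
      · exact Or.inl ((R.eqP_iff l1 l2 (by norm_num) (by norm_num)).1 (h.trans R.one_eq))
      · exact Or.inr (Or.inl ((R.eqP_iff l1 l2 (by norm_num) (by norm_num)).1 (h.trans R.z_eq)))
      · exact Or.inr (Or.inr (Or.inl ((R.eqP_iff l1 l2 lt lt).1 h)))
      · refine Or.inr (Or.inr (Or.inr ((R.eqP_iff l1 l2 (by norm_num) lt).1 (h.trans ?_))))
        rw [← mul_assoc, show (13 : ℕ) = sMul 12 1 by decide, R.hx.mul 12 (by norm_num) 1 lt, R.x12]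
    have key : ∀ q ∈ [1, 13], ∀ q' ∈ o4L, ∀ r' ∈ o4L, sMul q q' ≠ sMul q' q → sMul q r' ≠ sMul r' q →
        (eqP (sMul q' 14) (sMul r' 14) 0 0 ∨ eqP (sMul q' 14) (sMul r' 14) 12 0 ∨ eqP (sMul q' 14) (sMul r' 14) 1 1 ∨
          eqP (sMul q' 14) (sMul r' 14) 13 1) →
        (∃ i ∈ q8L, ∃ j ∈ q8L, sConj i 1 = q ∧ sConj i 2 = q' ∧ sConj j 1 = q ∧ sConj j 2 = r') ∨
        (∀ p ∈ [3, 15], ∀ r ∈ [3, 15], ∃ i ∈ q8L, ∃ j ∈ q8L,
          sConj i 1 = q ∧ sConj i p = q' ∧ sConj j 1 = q ∧ sConj j r = r') := by decide +kernel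
    subst hrq
    rcases key r₁ (by rcases hq₁c with h | h <;> simp [h]) q₂ hq₂ r₂ hr₂ hne₂ hnf₂ hW' with
      ⟨i, hi, j, hj, i1, i2, j1, j2⟩ | hinner
    · have huQ : InQ x y u := R.mem_of_action huz hi hj (by rw [i1, e₁]) (by rw [i2, e₂]) (by rw [j1, f₁]) (by rw [j2, f₂])
      have h0 : InW z x y (x 2 * y 2) := by
        have h1 := S.meet _ huQ huQ'
        rw [show x 2 * y 2 = s⁻¹ * u * s by rw [hu]; group]
        rcases h1 with h | h | h | h <;> rw [h]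
        · exact Or.inl (by group)
        · exact Or.inr (Or.inr (Or.inl hzP'))
        · exact Or.inr (Or.inl hPP')
        · refine Or.inr (Or.inr (Or.inr ?_))
          rw [show s⁻¹ * (z * P) * s = (s⁻¹ * z * s) * (s⁻¹ * P * s) by group, hzP', hPP', hPz.eq]
      rcases h0 with h | h | h | h
      · exact absurd ((R.eqP_iff lt2 lt2 (by norm_num) (by norm_num)).1 (h.trans R.one_eq)) (by decide)
      · exact absurd ((R.eqP_iff lt2 lt2 (by norm_num) (by norm_num)).1 (h.trans R.z_eq)) (by decide)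
      · exact absurd ((R.eqP_iff lt2 lt2 lt lt).1 h) (by decide)
      · refine absurd ((R.eqP_iff lt2 lt2 (show 13 < 24 by norm_num) lt).1 (h.trans ?_)) (by decide)
        rw [← mul_assoc, show (13 : ℕ) = sMul 12 1 by decide, R.hx.mul 12 (by norm_num) 1 lt, R.x12]
    · obtain ⟨i, hi, j, hj, i1, i2, j1, j2⟩ :=
        hinner p (by rcases hpar.1 with h | h <;> simp [h]) r (by rcases hpar.2 with h | h <;> simp [h])
      have hi' := mem_q8L_lt i hi
      have hj' := mem_q8L_lt j hj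
      set qq := x i * y j with hqq
      have hqQ : InQ x y qq := ⟨i, hi, j, hj, rfl⟩
      have hqx : ∀ a < 24, qq * x a * qq⁻¹ = x (sConj i a) := fun a ha' => by
        have := R.conjP hi' hj' ha' (show (0 : ℕ) < 24 by norm_num)
        rw [R.hy.one, mul_one] at this
        rw [hqq, this, (show ∀ r < 24, sConj r 0 = 0 by decide +kernel) j hj', R.hy.one, mul_one]
      have hqy : ∀ a < 24, qq * y a * qq⁻¹ = y (sConj j a) := fun a ha' => by
        have := R.conjP hi' hj' (show (0 : ℕ) < 24 by norm_num) ha'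
        rw [R.hx.one, one_mul] at this
        rw [hqq, this, (show ∀ r < 24, sConj r 0 = 0 by decide +kernel) i hi', R.hx.one, one_mul]
      have hin : ∀ v v' : G, b₀ * v * b₀⁻¹ = v' → u * v * u⁻¹ = qq * v' * qq⁻¹ →
          (qq * b₀)⁻¹ * u * v * ((qq * b₀)⁻¹ * u)⁻¹ = v := fun v v' hb hq' => by
        rw [show (qq * b₀)⁻¹ * u * v * ((qq * b₀)⁻¹ * u)⁻¹ = (qq * b₀)⁻¹ * (u * v * u⁻¹) * (qq * b₀) by group, hq', ← hb]
        group
      have hk : Commute ((qq * b₀)⁻¹ * u) z := (((R.inQ_comm hqQ).mul_left hbz).inv_left).mul_left huz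
      have hkQ : InQ x y ((qq * b₀)⁻¹ * u) := by
        refine R.mem_of_action hk (p := 0) (r := 0) (by decide) (by decide) ?_ ?_ ?_ ?_
        · rw [hin (x 1) (x 1) hbx1 (by rw [e₁, hqx 1 lt, i1]), show sConj 0 1 = 1 by decide]
        · rw [hin (x 2) (x p) ep (by rw [e₂, hqx p hp24, i2]), show sConj 0 2 = 2 by decide]
        · rw [hin (y 1) (y 1) hby1 (by rw [f₁, hqy 1 lt, j1]), show sConj 0 1 = 1 by decide]
        · rw [hin (y 2) (y r) er (by rw [f₂, hqy r hr24, j2]), show sConj 0 2 = 2 by decide]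
      have hbu : InQ x y (u * b₀⁻¹) := by
        rw [show u * b₀⁻¹ = qq * (b₀ * ((qq * b₀)⁻¹ * u) * b₀⁻¹) by group]
        exact R.inQ_mul hqQ (R.normQ _ hbz _ hkQ)
      have hW := S.meet _ hbu (S.q'_mul huQ' (S.q'_inv hbQ'))
      have hwb : Commute (u * b₀⁻¹) b₀ := (S.w_comm hW hbz hbP).symm
      have h2 : u * u = P := by
        conv_lhs => rw [show u = u * b₀⁻¹ * b₀ by group]
        rw [show u * b₀⁻¹ * b₀ * (u * b₀⁻¹ * b₀) = u * b₀⁻¹ * (b₀ * (u * b₀⁻¹)) * b₀ by group, ← hwb.eq,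
          show u * b₀⁻¹ * (u * b₀⁻¹ * b₀) * b₀ = (u * b₀⁻¹) * (u * b₀⁻¹) * (b₀ * b₀) by group, S.w_sq hW, one_mul, hb2]
      rw [hu2] at h2
      exact absurd ((R.eqP_iff lt lt (by norm_num) (by norm_num)).1 (h2.symm.trans R.one_eq)) (by decide)
  · have hq24 := mem_o4L_lt q₁ hq₁
    obtain ⟨q₂, hq₂, e₂⟩ : ∃ q ∈ o4L, u * x 2 * u⁻¹ = y q := by
      rcases R.image_side huz (show 2 ∈ o4L by decide) with ⟨q, hq', e⟩ | h
      · exfalso
        have h1 : Commute (u * x 1 * u⁻¹) (u * x 2 * u⁻¹) := by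
          rw [e₁, e]; exact (R.comm q (mem_o4L_lt q hq') q₁ hq24).symm
        have h2 := (Commute.conj_iff u).1 h1
        exact absurd (R.hx.inj _ (by decide) _ (by decide) (show x (sMul 1 2) = x (sMul 2 1) by
          rw [R.hx.mul 1 lt 2 lt2, R.hx.mul 2 lt2 1 lt]; exact h2.eq)) (by decide)
      · exact h
    obtain ⟨q₁', hq₁', f₁⟩ : ∃ q ∈ o4L, u * y 1 * u⁻¹ = x q := by
      rcases R.symm.image_side huz (show 1 ∈ o4L by decide) with ⟨q, hq', e⟩ | h
      · exfalso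
        have hq'24 := mem_o4L_lt q hq'
        have h1 : u * P * u⁻¹ = x 0 * y (sMul q₁ q) := by
          rw [hP, show u * (x 1 * y 1) * u⁻¹ = (u * x 1 * u⁻¹) * (u * y 1 * u⁻¹) by group, e₁, e,
            R.hx.one, one_mul, R.hy.mul q₁ hq24 q hq'24]
        rw [huP.eq, mul_inv_cancel_right] at h1
        have key : ∀ t < 24, ¬ eqP 1 1 0 t := by decide +kernel
        exact key _ (sMul_lt q₁ hq24 q hq'24) ((R.eqP_iff lt lt (by norm_num) (sMul_lt q₁ hq24 q hq'24)).1 h1)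
      · exact h
    obtain rfl : q₁ = 1 := by
      have hP2 : eqP q₁' q₁ 1 1 := by
        refine (R.eqP_iff (mem_o4L_lt q₁' hq₁') hq24 lt lt).1 ?_
        rw [(R.comm q₁' (mem_o4L_lt q₁' hq₁') q₁ hq24).eq, ← e₁, ← f₁,
          show u * x 1 * u⁻¹ * (u * y 1 * u⁻¹) = u * P * u⁻¹ by rw [hP]; group, huP.eq, mul_inv_cancel_right]
      have hc13 : ∀ a ∈ o4L, ∀ c ∈ o4L, eqP c a 1 1 → a = 1 ∨ a = 13 := by decide
      rcases hc13 q₁ hq₁ q₁' hq₁' hP2 with h | h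
      · exact h
      exfalso
      subst h
      have e13 : x 1 * u * (x 1)⁻¹ * u⁻¹ = P := by
        rw [show x 1 * u * (x 1)⁻¹ * u⁻¹ = x 1 * (u * x 1 * u⁻¹)⁻¹ by group, e₁, ← R.hy.inv (by norm_num : (13 : ℕ) < 24),
          show sInv 13 = 1 by decide, hP]
      rw [hau] at e13
      have hv : b₀ * (x 2 * y 2) * b₀⁻¹ * (x 2 * y 2)⁻¹ = z := by rw [← hPP', ← e13]; group
      rw [hbw'] at hv
      have key : ∀ p ∈ [3, 15], ∀ r ∈ [3, 15], ¬ eqP (sMul p 14) (sMul r 14) 12 0 := by decide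
      exact key p (by rcases hpar.1 with h | h <;> simp [h]) r (by rcases hpar.2 with h | h <;> simp [h])
        ((R.eqP_iff (sMul_lt p hp24 14 (by norm_num)) (sMul_lt r hr24 14 (by norm_num)) (by norm_num) (by norm_num)).1
          (hv.trans R.z_eq))
    have hsy : STab fun a => u * x a * u :=
      ⟨fun a ha' c hc' e => R.hx.inj a ha' c hc' (mul_left_cancel (mul_right_cancel e)),
        fun a ha' c hc' => by
          rw [R.hx.mul a ha' c hc', show u * x a * u * (u * x c * u) = u * x a * (u * u) * x c * u by group, hu2]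
          group⟩
    have hux : ∀ v, u * v * u = u * v * u⁻¹ := fun v => by rw [huinv]
    obtain ⟨q₂', hq₂', f₂⟩ : ∃ q ∈ o4L, u * y 2 * u⁻¹ = x q := by
      rcases R.symm.image_side huz (show 2 ∈ o4L by decide) with ⟨q, hq', e⟩ | h
      · exfalso
        have h1 : Commute (u * y 1 * u⁻¹) (u * y 2 * u⁻¹) := by
          rw [f₁, e]; exact R.comm q₁' (mem_o4L_lt q₁' hq₁') q (mem_o4L_lt q hq')
        have h2 := (Commute.conj_iff u).1 h1
        exact absurd (R.hy.inj _ (by decide) _ (by decide) (show y (sMul 1 2) = y (sMul 2 1) by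
          rw [R.hy.mul 1 lt 2 lt2, R.hy.mul 2 lt2 1 lt]; exact h2.eq)) (by decide)
      · exact h
    have hside : ∀ a < 24, ∃ c < 24, u * x a * u = y c := by
      intro a ha'
      obtain ⟨c, hc', d, hd', e⟩ := R.normK u huz a ha' 0 (by norm_num)
      rw [R.hy.one, mul_one] at e
      have hcom : ∀ q q', q < 24 → q' < 24 → u * y q * u⁻¹ = x q' → sMul c q' = sMul q' c := fun q q' hq hq' eq' => by
        refine R.hx.inj _ (sMul_lt c hc' q' hq') _ (sMul_lt q' hq' c hc') ?_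
        have h1 : Commute (x c * y d) (x q') := by
          rw [← e, ← eq']
          exact (Commute.conj_iff u).2 (R.comm a ha' q hq)
        have h2 := h1.mul_left ((R.comm q' hq' d hd').symm.inv_left)
        rw [mul_inv_cancel_right] at h2
        rw [R.hx.mul c hc' q' hq', R.hx.mul q' hq' c hc']
        exact h2
      have key : ∀ c < 24, ∀ p ∈ o4L, ∀ p' ∈ o4L, sMul p p' ≠ sMul p' p → sMul c p = sMul p c →
          sMul c p' = sMul p' c → c = 0 ∨ c = 12 := by decide +kernel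
      have hne : sMul q₁' q₂' ≠ sMul q₂' q₁' := by
        intro ee
        have e' : x (sMul q₁' q₂') = x (sMul q₂' q₁') := by rw [ee]
        rw [R.hx.mul q₁' (mem_o4L_lt q₁' hq₁') q₂' (mem_o4L_lt q₂' hq₂'),
          R.hx.mul q₂' (mem_o4L_lt q₂' hq₂') q₁' (mem_o4L_lt q₁' hq₁'), ← f₁, ← f₂,
          show u * y 1 * u⁻¹ * (u * y 2 * u⁻¹) = u * (y 1 * y 2) * u⁻¹ by group,
          show u * y 2 * u⁻¹ * (u * y 1 * u⁻¹) = u * (y 2 * y 1) * u⁻¹ by group,
          ← R.hy.mul 1 lt 2 lt2, ← R.hy.mul 2 lt2 1 lt] at e'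
        exact absurd (R.hy.inj _ (by decide) _ (by decide) (mul_left_cancel (mul_right_cancel e'))) (by decide)
      rcases key c hc' q₁' hq₁' q₂' hq₂' hne (hcom 1 q₁' lt (mem_o4L_lt q₁' hq₁') f₁)
        (hcom 2 q₂' lt2 (mem_o4L_lt q₂' hq₂') f₂) with rfl | rfl
      · exact ⟨d, hd', by rw [hux, e, R.hx.one, one_mul]⟩
      · refine ⟨sMul 12 d, sMul_lt 12 (by norm_num) d hd', ?_⟩
        rw [hux, e, R.hy.mul 12 (by norm_num) d hd', R.x12, R.y12]
    choose f hf1 hf2 using hside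
    have hR' : Raw z x fun a => u * x a * u := by
      refine R.retable hsy (by rw [R.x12, huz.eq, mul_assoc, hu2, mul_one]) (fun a ha' => ⟨f a ha', hf1 a ha', hf2 a ha'⟩) ?_
      intro c hc'
      let F : Fin 24 → Fin 24 := fun a => ⟨f a.1 a.2, hf1 a.1 a.2⟩
      have hF : Function.Injective F := fun a a' e => Fin.ext (hsy.inj a.1 a.2 a'.1 a'.2 (by
        simp only [hf2 a.1 a.2, hf2 a'.1 a'.2, show f a.1 a.2 = f a'.1 a'.2 from congrArg Fin.val e]))
      obtain ⟨a, ha'⟩ := Finite.surjective_of_injective hF ⟨c, hc'⟩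
      exact ⟨a.1, a.2, by rw [hf2 a.1 a.2, show f a.1 a.2 = c from congrArg Fin.val ha']⟩
    have hy1 : u * x 1 * u = y 1 := by rw [hux, e₁]
    have hQ : ∀ v, InQ x y v → InQ x (fun a => u * x a * u) v := by
      rintro v ⟨p', hp'', r', hr', rfl⟩
      obtain ⟨a, ha', e⟩ : ∃ a < 24, u * x a * u = y r' := by
        let F : Fin 24 → Fin 24 := fun a => ⟨f a.1 a.2, hf1 a.1 a.2⟩
        have hF : Function.Injective F := fun a a' e => Fin.ext (hsy.inj a.1 a.2 a'.1 a'.2 (by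
          simp only [hf2 a.1 a.2, hf2 a'.1 a'.2, show f a.1 a.2 = f a'.1 a'.2 from congrArg Fin.val e]))
        obtain ⟨a, ha'⟩ := Finite.surjective_of_injective hF ⟨r', mem_q8L_lt r' hr'⟩
        exact ⟨a.1, a.2, by rw [hf2 a.1 a.2, show f a.1 a.2 = r' from congrArg Fin.val ha']⟩
      refine ⟨p', hp'', a, (q8_char a ha').2 ?_, by rw [← e]⟩
      have hr4 := (q8_char r' (mem_q8L_lt r' hr')).1 hr'
      refine hsy.inj _ (sMul_lt _ (sMul_lt a ha' a ha') _ (sMul_lt a ha' a ha')) 0 (by norm_num) ?_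
      rw [hsy.mul _ (sMul_lt a ha' a ha') _ (sMul_lt a ha' a ha'), hsy.mul a ha' a ha']
      simp only [e]
      rw [← R.hy.mul r' (mem_q8L_lt r' hr') r' (mem_q8L_lt r' hr'),
        ← R.hy.mul _ (sMul_lt r' (mem_q8L_lt r' hr') r' (mem_q8L_lt r' hr')) _
          (sMul_lt r' (mem_q8L_lt r' hr') r' (mem_q8L_lt r' hr')), hr4, R.hy.one]
      simp [R.hx.one, hu2]
    have hQ2 : ∀ v, InQ x (fun a => u * x a * u) v → InQ x y v := by
      rintro v ⟨p', hp'', a, ha₈, rfl⟩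
      have ha' := mem_q8L_lt a ha₈
      refine ⟨p', hp'', f a ha', (q8_char _ (hf1 a ha')).2 ?_, by simp only [hf2 a ha']⟩
      have h4 := (q8_char a ha').1 ha₈
      refine R.hy.inj _ (sMul_lt _ (sMul_lt _ (hf1 a ha') _ (hf1 a ha')) _ (sMul_lt _ (hf1 a ha') _ (hf1 a ha')))
        0 (by norm_num) ?_
      rw [R.hy.mul _ (sMul_lt _ (hf1 a ha') _ (hf1 a ha')) _ (sMul_lt _ (hf1 a ha') _ (hf1 a ha')),
        R.hy.mul _ (hf1 a ha') _ (hf1 a ha'), ← hf2 a ha']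
      show (fun a => u * x a * u) a * (fun a => u * x a * u) a * ((fun a => u * x a * u) a * (fun a => u * x a * u) a) = _
      rw [← hsy.mul a ha' a ha', ← hsy.mul _ (sMul_lt a ha' a ha') _ (sMul_lt a ha' a ha'), h4, hsy.one, R.hy.one]
    obtain ⟨b, hb, hbx2, hbQb⟩ : ∃ b, (b = b₀ ∨ b = b₀ * P) ∧ b * x 2 * b⁻¹ = x 3 ∧ InQ x y (s⁻¹ * b * s) := by
      rcases hpar.1 with rfl | rfl
      · exact ⟨b₀, Or.inl rfl, ep, hbQ'⟩
      · refine ⟨b₀ * P, Or.inr rfl, ?_, S.q'_mul hbQ' (S.memQ' P (Or.inr (Or.inr (Or.inl rfl)))).2⟩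
        have h12 : P * x 2 * P⁻¹ = x 2 * z := by
          have := R.conjP lt lt lt2 (show (0 : ℕ) < 24 by norm_num)
          rw [R.hy.one, mul_one, show sConj 1 0 = 0 by decide, R.hy.one, mul_one, show sConj 1 2 = sMul 2 12 by decide,
            R.hx.mul 2 lt2 12 (by norm_num), R.x12] at this
          exact this
        rw [show b₀ * P * x 2 * (b₀ * P)⁻¹ = b₀ * (P * x 2 * P⁻¹) * b₀⁻¹ by group, h12,
          show b₀ * (x 2 * z) * b₀⁻¹ = (b₀ * x 2 * b₀⁻¹) * (b₀ * z * b₀⁻¹) by group, ep, hbz.eq, mul_inv_cancel_right,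
          ← R.x12, ← R.hx.mul 15 (by norm_num) 12 (by norm_num), show sMul 15 12 = 3 by decide]
    have hbz' : Commute b z := by rcases hb with rfl | rfl; exacts [hbz, hbz.mul_left hPz]
    have hb22 : b * b = P := by
      rcases hb with rfl | rfl
      · exact hb2
      · rw [show b₀ * P * (b₀ * P) = b₀ * (P * b₀) * P by group, ← hbP.eq,
          show b₀ * (b₀ * P) * P = b₀ * b₀ * (P * P) by group, hb2, S.w_sq (Or.inr (Or.inr (Or.inl rfl))), mul_one]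
    have hb1' : b * x 1 * b⁻¹ = x 1 := by
      rcases hb with rfl | rfl
      · exact hbx1
      · rw [show b₀ * P * x 1 * (b₀ * P)⁻¹ = b₀ * (P * x 1 * P⁻¹) * b₀⁻¹ by group, ← haP.eq, mul_inv_cancel_right, hbx1]
    have hbside : ∀ a < 24, ∃ c < 24, b * x a * b⁻¹ = x c :=
      (R.side_of hbz' (show 1 ∈ o4L by decide) (show 3 ∈ o4L by decide) hb1' hbx2).1
    have hub : u * b₀ * u = b₀ * P := by
      have hawz : x 1 * (x 2 * y 2) * (x 1)⁻¹ * (x 2 * y 2)⁻¹ = z := by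
        rw [show x 1 * (x 2 * y 2) * (x 1)⁻¹ * (x 2 * y 2)⁻¹ = x 1 * y 0 * (x 2 * y 2) * (x 1 * y 0)⁻¹ * (x 2 * y 2)⁻¹ by
          rw [R.hy.one, mul_one], R.conjP lt (by norm_num) lt2 lt2, R.invP lt2 lt2, R.mulP (by decide) (by decide) (by decide) (by decide),
          R.z_eq, R.eqP_iff (by decide) (by decide) (by norm_num) (by norm_num)]
        decide
      have hbu : b₀ * u * b₀⁻¹ * u⁻¹ = P := by
        rw [show b₀ * u * b₀⁻¹ * u⁻¹ = s * (x 1 * (x 2 * y 2) * (x 1)⁻¹ * (x 2 * y 2)⁻¹) * s⁻¹ by rw [hb₀, hu]; group,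
          hawz, hsz]
      have h1 : b₀ * u = P * (u * b₀) := by rw [← hbu]; group
      have hPinv : P⁻¹ = P := inv_eq_of_mul_eq_one_right (S.w_sq (Or.inr (Or.inr (Or.inl rfl))))
      calc u * b₀ * u = P⁻¹ * (b₀ * u) * u := by rw [h1]; group
        _ = P * b₀ * (u * u) := by rw [hPinv]; group
        _ = b₀ * P := by rw [hu2, mul_one, hbP.eq]
    refine ⟨b, u, fun a => u * x a * u, ⟨⟨hR', ?_, ?_, ?_, ?_⟩, hbz', ?_, hR'.hx.aut_unique hbside hb1' hbx2, hQ _ hbQb,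
      huz, hu2, fun a _ => rfl, hQ _ huQ', ?_⟩, hy1⟩
    · show s * z * s⁻¹ = x 1 * (u * x 1 * u)
      rw [hy1]; exact S.sz
    · show s * (x 1 * (u * x 1 * u)) * s⁻¹ = z
      rw [hy1]; exact S.szP
    · intro v h1 h2
      have := S.meet v (hQ2 _ h1) (hQ2 _ h2)
      simpa only [InW, hy1] using this
    · intro v hv
      have := S.memQ' v (by simpa only [InW, hy1] using hv)
      exact ⟨hQ _ this.1, hQ _ this.2⟩
    · show b * b = x 1 * (u * x 1 * u)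
      rw [hy1]; exact hb22
    · show u * b * u = b * (x 1 * (u * x 1 * u))
      rw [hy1]
      rcases hb with rfl | rfl
      · exact hub
      · rw [show u * (b₀ * P) * u = u * b₀ * (P * u) by group, ← huP.eq, show u * b₀ * (u * P) = u * b₀ * u * P by group,
          hub]

end Swap

end Cfsg.Agent.Spor.UFourType
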