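import Cfsg.Prelude.Def_Solvable
import Cfsg.Prelude.Def_Local
import Cfsg.Agent.Lib.Grp.Cores
import Cfsg.Agent.Lib.Spor.UFourType.SL
import Cfsg.Agent.S1265

/-!
An involution with centralizer of unitary `U₄(3)` type, written on two copies of the table of `SL₂(3)`.
-/

set_option autoImplicit false
set_option maxRecDepth 100000

open scoped commutatorElement

namespace Cfsg.Agent.Spor.UFourType

variable {G : Type*} [Group G]

/-- A member of the product of the two quaternion groups. -/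
def InQ (x y : ℕ → G) (v : G) : Prop := ∃ p ∈ q8L, ∃ r ∈ q8L, v = x p * y r

/-- The hypothesis on the two tables. -/
structure Raw (z : G) (x y : ℕ → G) : Prop where
  hx : STab x
  hy : STab y
  x12 : x 12 = z
  y12 : y 12 = z
  comm : ∀ a < 24, ∀ b < 24, Commute (x a) (y b)
  sep : ∀ a < 24, ∀ b < 24, x a = y b → a = 0 ∨ a = 12
  inC : ∀ a < 24, Commute (x a) z ∧ Commute (y a) z
  normK : ∀ h : G, Commute h z → ∀ a < 24, ∀ b < 24, ∃ c < 24, ∃ d < 24, h * (x a * y b) * h⁻¹ = x c * y d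
  normQ : ∀ h : G, Commute h z → ∀ v, InQ x y v → InQ x y (h * v * h⁻¹)
  self : ∀ h : G, Commute h z → (∀ v, InQ x y v → Commute h v) → h = 1 ∨ h = z
  cardH : Nat.card ↥(Subgroup.centralizer ({z} : Set G)) = 1152
  moved : ∃ g : G, InQ x y (g * z * g⁻¹) ∧ g * z * g⁻¹ ≠ z
  inter : ∀ g : G, InQ x y (g * z * g⁻¹) → g * z * g⁻¹ ≠ z →
    Nat.card {v : G // InQ x y v ∧ InQ x y (g⁻¹ * v * g)} = 4

theorem three_cubes : ∀ a < 24, ∃ u < 24, sMul u (sMul u u) = 0 ∧ ∃ v < 24, sMul v (sMul v v) = 0 ∧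
    ∃ w < 24, sMul w (sMul w w) = 0 ∧ a = sMul (sMul u v) w := by decide +kernel

/-- A 2-element of the product lies in the quaternion part. -/
theorem q8_of_pow : ∀ a < 24, (Nat.iterate (fun b => sMul b b) 7 a = 0 ∨ Nat.iterate (fun b => sMul b b) 7 a = 12) →
    a ∈ q8L := by decide +kernel

theorem q8_closed : ∀ p ∈ q8L, (∀ r ∈ q8L, sMul p r ∈ q8L) ∧ sInv p ∈ q8L ∧ ∀ h < 24, sConj h p ∈ q8L := by
  decide +kernel

theorem q8_pow : ∀ p ∈ q8L, sMul (sMul p p) (sMul p p) = 0 := by decide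

theorem STab.pow_two_pow {x : ℕ → G} (h : STab x) {a : ℕ} (ha : a < 24) (k : ℕ) :
    Nat.iterate (fun b => sMul b b) k a < 24 ∧ x (Nat.iterate (fun b => sMul b b) k a) = x a ^ 2 ^ k := by
  induction k with
  | zero => exact ⟨ha, by simp⟩
  | succ k ih =>
    rw [Function.iterate_succ_apply']
    refine ⟨sMul_lt _ ih.1 _ ih.1, ?_⟩
    rw [h.mul _ ih.1 _ ih.1, ih.2, ← pow_add, pow_succ]
    congr 1
    omega

/-- The frozen hypotheses give the tables. -/
theorem exists_raw [Finite G] (z : G) (hz : orderOf z = 2) (H₁ H₂ : Subgroup (Subgroup.centralizer ({z} : Set G)))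
    (hK : H₁ ⊔ H₂ = Subgroup.closure {x : Subgroup.centralizer ({z} : Set G) | Odd (orderOf x)})
    (hn₁ : (H₁.subgroupOf (H₁ ⊔ H₂)).Normal) (hn₂ : (H₂.subgroupOf (H₁ ⊔ H₂)).Normal)
    (e₁ : H₁ ≃* Matrix.SpecialLinearGroup (Fin 2) (ZMod 3)) (e₂ : H₂ ≃* Matrix.SpecialLinearGroup (Fin 2) (ZMod 3))
    (hmeet : (H₁ ⊓ H₂).map (Subgroup.subtype (Subgroup.centralizer ({z} : Set G))) = Subgroup.zpowers z)
    (Q : Subgroup (Subgroup.centralizer ({z} : Set G))) [Q.Normal]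
    (hQ : Q = (Cfsg.pCore 2 ↥(H₁ ⊔ H₂)).map (Subgroup.subtype (H₁ ⊔ H₂)))
    (hF : Cfsg.generalizedFittingSubgroup (Subgroup.centralizer ({z} : Set G)) = Q)
    (hnwc : ∃ g : G, (∃ hq : g * z * g⁻¹ ∈ Subgroup.centralizer ({z} : Set G),
      (⟨g * z * g⁻¹, hq⟩ : Subgroup.centralizer ({z} : Set G)) ∈ Q) ∧ g * z * g⁻¹ ≠ z)
    (hH : Nat.card ↥(Subgroup.centralizer ({z} : Set G)) = 2 ^ 7 * 3 ^ 2)
    (hQQg : ∀ g : G, g * z * g⁻¹ ∈ Q.map (Subgroup.subtype (Subgroup.centralizer ({z} : Set G))) →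
      g * z * g⁻¹ ≠ z → Nat.card ↥((Q.map (Subgroup.subtype (Subgroup.centralizer ({z} : Set G)))) ⊓
        (Q.map (Subgroup.subtype (Subgroup.centralizer ({z} : Set G)))).map (MulAut.conj g).toMonoidHom) = 4) :
    ∃ x y : ℕ → G, Raw z x y := by
  obtain ⟨X, hX, hX1, hX2⟩ := exists_tab e₁
  obtain ⟨Y, hY, hY1, hY2⟩ := exists_tab e₂
  have hz2 : z * z = 1 := by
    have := pow_orderOf_eq_one z
    rwa [hz, pow_two] at this
  have hzne : z ≠ 1 := fun e => by rw [e, orderOf_one] at hz; omega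
  have hzz : z ∈ (H₁ ⊓ H₂).map (Subgroup.centralizer ({z} : Set G)).subtype := hmeet ▸ Subgroup.mem_zpowers z
  obtain ⟨ζ, hζ, hζz⟩ := hzz
  have meet12 : ∀ v : ↥(Subgroup.centralizer ({z} : Set G)), v ∈ H₁ → v ∈ H₂ → v = 1 ∨ v = ζ := fun v h1 h2 => by
    have hv : (v : G) ∈ Subgroup.zpowers z := hmeet ▸ Subgroup.mem_map_of_mem _ (Subgroup.mem_inf.2 ⟨h1, h2⟩)
    obtain ⟨k, hk⟩ := Subgroup.mem_zpowers_iff.1 hv
    rcases Int.even_or_odd k with ⟨m, rfl⟩ | ⟨m, rfl⟩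
    · refine Or.inl (Subtype.ext ?_)
      rw [← hk, ← two_mul, zpow_mul, show z ^ (2 : ℤ) = 1 by rw [zpow_two, hz2], one_zpow]; rfl
    · refine Or.inr (Subtype.ext ?_)
      rw [← hk, zpow_add, zpow_mul, show z ^ (2 : ℤ) = 1 by rw [zpow_two, hz2], one_zpow, one_mul, zpow_one]
      exact hζz.symm
  have hζc : ∀ v : ↥(Subgroup.centralizer ({z} : Set G)), Commute ζ v := fun v => Subtype.ext (by
    show (ζ : G) * (v : G) = v * ζ
    rw [show (ζ : G) = z from hζz]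
    exact (Subgroup.mem_centralizer_singleton_iff.1 v.2).symm)
  have hζ2 : ζ * ζ = 1 := Subtype.ext (by
    show (ζ : G) * (ζ : G) = 1
    rw [show (ζ : G) = z from hζz, hz2])
  have hζne : ζ ≠ 1 := fun e => hzne (by rw [← hζz, e]; rfl)
  have inv12 : ∀ (W : ℕ → ↥(Subgroup.centralizer ({z} : Set G))) (_ : STab W) (a : ℕ), a < 24 → W a = ζ → a = 12 := fun W hW a ha e => by
    have key : ∀ b < 24, sMul b b = 0 → b = 0 ∨ b = 12 := by decide +kernel
    rcases key a ha (hW.inj _ (sMul_lt a ha a ha) 0 (by norm_num) (by rw [hW.mul a ha a ha, hW.one, e, hζ2]))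
      with rfl | rfl
    · exact absurd (e.symm.trans hW.one) hζne
    · rfl
  have X12 : X 12 = ζ := by
    obtain ⟨a, ha, e⟩ := hX2 ζ (Subgroup.mem_inf.1 hζ).1
    exact inv12 X hX a ha e ▸ e
  have Y12 : Y 12 = ζ := by
    obtain ⟨a, ha, e⟩ := hY2 ζ (Subgroup.mem_inf.1 hζ).2
    exact inv12 Y hY a ha e ▸ e
  have hcom : ∀ a < 24, ∀ b < 24, Commute (X a) (Y b) := by
    intro a ha b hb
    have hcz : ∀ u < 24, ⁅X u, Y b⁆ = 1 ∨ ⁅X u, Y b⁆ = ζ := fun u hu => by
      have hK1 : X u ∈ H₁ ⊔ H₂ := Subgroup.mem_sup_left (hX1 u hu)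
      have hK2 : Y b ∈ H₁ ⊔ H₂ := Subgroup.mem_sup_right (hY1 b hb)
      refine meet12 _ ?_ ?_
      · have := hn₁.conj_mem ⟨(X u)⁻¹, inv_mem hK1⟩ (inv_mem (hX1 u hu)) ⟨Y b, hK2⟩
        rw [commutatorElement_def, show X u * Y b * (X u)⁻¹ * (Y b)⁻¹ = X u * (Y b * (X u)⁻¹ * (Y b)⁻¹) by group]
        exact mul_mem (hX1 u hu) this
      · have := hn₂.conj_mem ⟨Y b, hK2⟩ (hY1 b hb) ⟨X u, hK1⟩
        rw [commutatorElement_def]
        exact mul_mem this (inv_mem (hY1 b hb))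
    have hcube : ∀ u < 24, sMul u (sMul u u) = 0 → Commute (X u) (Y b) := fun u hu h3 => by
      rcases hcz u hu with e | e
      · exact commutatorElement_eq_one_iff_commute.1 e
      · exfalso
        have e1 : Y b * (X u)⁻¹ * (Y b)⁻¹ = (X u)⁻¹ * ζ := by
          rw [← e, commutatorElement_def]; group
        have e2 : (Y b * (X u)⁻¹ * (Y b)⁻¹) ^ 3 = 1 := by
          rw [conj_pow, inv_pow, show X u ^ 3 = 1 by
            rw [pow_three, ← hX.mul u hu u hu, ← hX.mul u hu _ (sMul_lt u hu u hu), h3, hX.one]]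
          group
        rw [e1, ((hζc _).symm).mul_pow, inv_pow, show X u ^ 3 = 1 by
          rw [pow_three, ← hX.mul u hu u hu, ← hX.mul u hu _ (sMul_lt u hu u hu), h3, hX.one]] at e2
        rw [inv_one, one_mul, pow_three, hζ2, mul_one] at e2
        exact hζne e2
    obtain ⟨u, hu, u3, v, hv, v3, w, hw, w3, rfl⟩ := three_cubes a ha
    rw [hX.mul _ (sMul_lt u hu v hv) w hw, hX.mul u hu v hv]
    exact ((hcube u hu u3).mul_left (hcube v hv v3)).mul_left (hcube w hw w3)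
  have memK : ∀ v : ↥(Subgroup.centralizer ({z} : Set G)), v ∈ H₁ ⊔ H₂ ↔ ∃ a < 24, ∃ b < 24, v = X a * Y b := fun v => by
    constructor
    · intro hv
      rw [Subgroup.sup_eq_closure] at hv
      induction hv using Subgroup.closure_induction with
      | one => exact ⟨0, by norm_num, 0, by norm_num, by rw [hX.one, hY.one, one_mul]⟩
      | mem w hw =>
        rcases hw with hw | hw
        · obtain ⟨a, ha, rfl⟩ := hX2 w hw; exact ⟨a, ha, 0, by norm_num, by rw [hY.one, mul_one]⟩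
        · obtain ⟨b, hb, rfl⟩ := hY2 w hw; exact ⟨0, by norm_num, b, hb, by rw [hX.one, one_mul]⟩
      | inv w _ hw' =>
        obtain ⟨a, ha, b, hb, rfl⟩ := hw'
        refine ⟨_, (sInv_lt a ha).1, _, (sInv_lt b hb).1, ?_⟩
        rw [hX.inv ha, hY.inv hb, mul_inv_rev]
        exact ((hcom a ha b hb).inv_inv).symm.eq
      | mul v w hv hw hv' hw' =>
        obtain ⟨a, ha, b, hb, rfl⟩ := hv'
        obtain ⟨a', ha', b', hb', rfl⟩ := hw'
        refine ⟨_, sMul_lt a ha a' ha', _, sMul_lt b hb b' hb', ?_⟩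
        rw [hX.mul a ha a' ha', hY.mul b hb b' hb']
        exact ((hcom a' ha' b hb).symm.mul_mul_mul_comm _ _)
    · rintro ⟨a, ha, b, hb, rfl⟩
      exact mul_mem (Subgroup.mem_sup_left (hX1 a ha)) (Subgroup.mem_sup_right (hY1 b hb))
  let Q0 : Subgroup ↥(H₁ ⊔ H₂) :=
    { carrier := {v | ∃ p ∈ q8L, ∃ r ∈ q8L, (v : ↥(Subgroup.centralizer ({z} : Set G))) = X p * Y r}
      one_mem' := ⟨0, by decide, 0, by decide, by rw [hX.one, hY.one, one_mul]; rfl⟩
      mul_mem' := by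
        rintro v w ⟨p, hp, r, hr, ev⟩ ⟨p', hp', r', hr', ew⟩
        refine ⟨_, (q8_closed p hp).1 p' hp', _, (q8_closed r hr).1 r' hr', ?_⟩
        rw [hX.mul p (mem_q8L_lt p hp) p' (mem_q8L_lt p' hp'), hY.mul r (mem_q8L_lt r hr) r' (mem_q8L_lt r' hr'),
          Subgroup.coe_mul, ev, ew]
        exact (hcom p' (mem_q8L_lt p' hp') r (mem_q8L_lt r hr)).symm.mul_mul_mul_comm _ _
      inv_mem' := by
        rintro v ⟨p, hp, r, hr, ev⟩
        refine ⟨_, (q8_closed p hp).2.1, _, (q8_closed r hr).2.1, ?_⟩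
        rw [hX.inv (mem_q8L_lt p hp), hY.inv (mem_q8L_lt r hr), Subgroup.coe_inv, ev, mul_inv_rev]
        exact ((hcom p (mem_q8L_lt p hp) r (mem_q8L_lt r hr)).inv_inv).symm.eq }
  have hQ0n : Q0.Normal := ⟨by
    rintro v ⟨p, hp, r, hr, ev⟩ k
    obtain ⟨a, ha, b, hb, ek⟩ := (memK k.1).1 k.2
    refine ⟨_, (q8_closed p hp).2.2 a ha, _, (q8_closed r hr).2.2 b hb, ?_⟩
    have hp' := mem_q8L_lt p hp
    have hr' := mem_q8L_lt r hr
    rw [hX.conj ha hp', hY.conj hb hr', Subgroup.coe_mul, Subgroup.coe_mul, Subgroup.coe_inv, ek, ev,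
      show X a * Y b * (X p * Y r) * (X a * Y b)⁻¹ = X a * (Y b * X p) * (Y r * (Y b)⁻¹) * (X a)⁻¹ by group,
      (hcom p hp' b hb).symm.eq,
      show X a * (X p * Y b) * (Y r * (Y b)⁻¹) * (X a)⁻¹ = X a * X p * ((Y b * Y r * (Y b)⁻¹) * (X a)⁻¹) by group,
      show Y b * Y r * (Y b)⁻¹ * (X a)⁻¹ = (X a)⁻¹ * (Y b * Y r * (Y b)⁻¹) from
        (((hcom a ha b hb).symm.mul_left (hcom a ha r hr').symm).mul_left (hcom a ha b hb).symm.inv_left).inv_right.eq]
    group⟩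
  have hQ0p : IsPGroup 2 ↥Q0 := fun ⟨v, p, hp, r, hr, ev⟩ => ⟨2, Subtype.ext (Subtype.ext (by
    have hp' := mem_q8L_lt p hp
    have hr' := mem_q8L_lt r hr
    have h4 : ∀ (W : ℕ → ↥(Subgroup.centralizer ({z} : Set G))), STab W → ∀ s ∈ q8L, W s ^ 4 = 1 := fun W hW s hs => by
      have hs' := mem_q8L_lt s hs
      have e := (hW.pow_two_pow hs' 2).2
      rw [show Nat.iterate (fun b => sMul b b) 2 s = sMul (sMul s s) (sMul s s) from rfl, q8_pow s hs, hW.one] at e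
      exact e.symm
    show ((v : ↥(Subgroup.centralizer ({z} : Set G)))) ^ 2 ^ 2 = 1
    rw [ev, (hcom p hp' r hr').mul_pow, show 2 ^ 2 = 4 from rfl, h4 X hX p hp, h4 Y hY r hr, one_mul]))⟩
  have memQ : ∀ v : ↥(Subgroup.centralizer ({z} : Set G)), v ∈ Q ↔ ∃ p ∈ q8L, ∃ r ∈ q8L, v = X p * Y r := fun v => by
    rw [hQ]
    constructor
    · rintro ⟨w, hw, rfl⟩
      obtain ⟨a, ha, b, hb, ew⟩ := (memK w.1).1 w.2
      obtain ⟨k, hk⟩ := (Grp.pCore_isPGroup (G := ↥(H₁ ⊔ H₂)) (p := 2)) ⟨w, hw⟩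
      have hk' : (w : ↥(Subgroup.centralizer ({z} : Set G))) ^ 2 ^ k = 1 := congrArg (fun t : ↥(H₁ ⊔ H₂) => (t : ↥(Subgroup.centralizer ({z} : Set G)))) (congrArg Subtype.val hk)
      have h7 : (w : ↥(Subgroup.centralizer ({z} : Set G))) ^ 2 ^ 7 = 1 := by
        have h1 : orderOf (w : ↥(Subgroup.centralizer ({z} : Set G))) ∣ 2 ^ k := orderOf_dvd_of_pow_eq_one hk'
        obtain ⟨m, -, hm⟩ := (Nat.dvd_prime_pow Nat.prime_two).1 h1
        have h2 : orderOf (w : ↥(Subgroup.centralizer ({z} : Set G))) ∣ 2 ^ 7 * 3 ^ 2 := hH ▸ orderOf_dvd_natCard _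
        rw [hm] at h2
        exact orderOf_dvd_iff_pow_eq_one.1 (hm ▸ (Nat.Coprime.dvd_of_dvd_mul_right
          (Nat.Coprime.pow m 2 (by norm_num : Nat.Coprime 2 3)) h2))
      rw [ew, (hcom a ha b hb).mul_pow] at h7
      have ex := hX.pow_two_pow ha 7
      have ey := hY.pow_two_pow hb 7
      rw [← ex.2, ← ey.2] at h7
      have h1 : X _ ∈ H₂ := (eq_inv_of_mul_eq_one_left h7) ▸ inv_mem (hY1 _ ey.1)
      have hY' : Y _ ∈ H₁ := (eq_inv_of_mul_eq_one_right h7) ▸ inv_mem (hX1 _ ex.1)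
      refine ⟨a, q8_of_pow a ha ?_, b, q8_of_pow b hb ?_, ew⟩
      · rcases meet12 _ (hX1 _ ex.1) h1 with e | e
        · exact Or.inl (hX.inj _ ex.1 0 (by norm_num) (e.trans hX.one.symm))
        · exact Or.inr (inv12 X hX _ ex.1 e)
      · rcases meet12 _ hY' (hY1 _ ey.1) with e | e
        · exact Or.inl (hY.inj _ ey.1 0 (by norm_num) (e.trans hY.one.symm))
        · exact Or.inr (inv12 Y hY _ ey.1 e)
    · rintro ⟨p, hp, r, hr, rfl⟩
      exact ⟨⟨_, (memK _).2 ⟨p, mem_q8L_lt p hp, r, mem_q8L_lt r hr, rfl⟩⟩,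
        Grp.le_pCore hQ0n hQ0p ⟨p, hp, r, hr, rfl⟩, rfl⟩
  refine ⟨fun a => (X a : G), fun a => (Y a : G), ?_⟩
  have memQG : ∀ v : G, InQ (fun a => (X a : G)) (fun a => (Y a : G)) v ↔ v ∈ Q.map (Subgroup.centralizer ({z} : Set G)).subtype := fun v => by
    constructor
    · rintro ⟨p, hp, r, hr, rfl⟩
      exact ⟨X p * Y r, (memQ _).2 ⟨p, hp, r, hr, rfl⟩, rfl⟩
    · rintro ⟨w, hw, rfl⟩
      obtain ⟨p, hp, r, hr, rfl⟩ := (memQ w).1 hw
      exact ⟨p, hp, r, hr, rfl⟩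
  have hmemC : ∀ h : G, Commute h z → h ∈ (Subgroup.centralizer ({z} : Set G)) := fun h hh => Subgroup.mem_centralizer_singleton_iff.2 hh.eq
  exact {
    hx := ⟨fun a ha b hb e => hX.inj a ha b hb (Subtype.ext e), fun a ha b hb => congrArg Subtype.val (hX.mul a ha b hb)⟩
    hy := ⟨fun a ha b hb e => hY.inj a ha b hb (Subtype.ext e), fun a ha b hb => congrArg Subtype.val (hY.mul a ha b hb)⟩
    x12 := (congrArg Subtype.val X12).trans hζz
    y12 := (congrArg Subtype.val Y12).trans hζz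
    comm := fun a ha b hb => congrArg Subtype.val (hcom a ha b hb)
    sep := fun a ha b hb e => by
      have e' : X a = Y b := Subtype.ext e
      rcases meet12 _ (hX1 a ha) (e' ▸ hY1 b hb) with e1 | e1
      · exact Or.inl (hX.inj a ha 0 (by norm_num) (e1.trans hX.one.symm))
      · exact Or.inr (inv12 X hX a ha e1)
    inC := fun a _ => ⟨Subgroup.mem_centralizer_singleton_iff.1 (X a).2, Subgroup.mem_centralizer_singleton_iff.1 (Y a).2⟩
    normK := fun h hh a ha b hb => by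
      let k : ↥(Subgroup.centralizer ({z} : Set G)) := ⟨h, hmemC h hh⟩
      have hmem : k * (X a * Y b) * k⁻¹ ∈ H₁ ⊔ H₂ := by
        have h1 : X a * Y b ∈ H₁ ⊔ H₂ := (memK _).2 ⟨a, ha, b, hb, rfl⟩
        rw [hK] at h1 ⊢
        generalize X a * Y b = v0 at h1 ⊢
        induction h1 using Subgroup.closure_induction with
        | mem w hw =>
          refine Subgroup.subset_closure ?_
          show Odd (orderOf ((MulAut.conj k) w))
          rw [(MulAut.conj k).orderOf_eq w]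
          exact hw
        | one => rw [mul_one, mul_inv_cancel]; exact one_mem _
        | mul v w _ _ hv hw =>
          rw [show k * (v * w) * k⁻¹ = (k * v * k⁻¹) * (k * w * k⁻¹) by group]
          exact mul_mem hv hw
        | inv v _ hv =>
          rw [show k * v⁻¹ * k⁻¹ = (k * v * k⁻¹)⁻¹ by group]
          exact inv_mem hv
      obtain ⟨c, hc, d, hd, e⟩ := (memK _).1 hmem
      exact ⟨c, hc, d, hd, congrArg Subtype.val e⟩
    normQ := fun h hh v hv => by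
      obtain ⟨w, hw, rfl⟩ := (memQG v).1 hv
      exact (memQG _).2 ⟨_, Subgroup.Normal.conj_mem ‹Q.Normal› w hw ⟨h, hmemC h hh⟩, rfl⟩
    self := fun h hh hc => by
      have h1 : (⟨h, hmemC h hh⟩ : ↥(Subgroup.centralizer ({z} : Set G))) ∈ Subgroup.centralizer (Q : Set ↥(Subgroup.centralizer ({z} : Set G))) :=
        Subgroup.mem_centralizer_iff.2 fun w hw => Subtype.ext (hc w ((memQG _).2 ⟨w, hw, rfl⟩)).symm.eq
      rw [← hF] at h1
      have h2 := Cfsg.Agent.S1265.result h1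
      rw [hF] at h2
      obtain ⟨p, hp, r, hr, e⟩ := (memQ _).1 h2
      have hp' := mem_q8L_lt p hp
      have hr' := mem_q8L_lt r hr
      have cen : ∀ p ∈ q8L, (∀ s ∈ q8L, sMul p s = sMul s p) → p = 0 ∨ p = 12 := by decide
      have hQc : ∀ v : ↥(Subgroup.centralizer ({z} : Set G)), v ∈ Q → Commute (X p * Y r) v := fun v hv => e ▸ Subtype.ext (hc v ((memQG _).2 ⟨v, hv, rfl⟩))
      have hp0 : p = 0 ∨ p = 12 := cen p hp fun s hs => by
        have hs' := mem_q8L_lt s hs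
        have hv : X s ∈ Q := (memQ _).2 ⟨s, hs, 0, by decide, by rw [hY.one, mul_one]⟩
        have h3 : Commute (X p) (X s) := by
          have := (hQc _ hv).mul_left ((hcom s hs' r hr').symm.inv_left)
          rwa [mul_inv_cancel_right] at this
        exact hX.inj _ (sMul_lt p hp' s hs') _ (sMul_lt s hs' p hp') (by rw [hX.mul p hp' s hs', hX.mul s hs' p hp']; exact h3)
      have hr0 : r = 0 ∨ r = 12 := cen r hr fun s hs => by
        have hs' := mem_q8L_lt s hs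
        have hv : Y s ∈ Q := (memQ _).2 ⟨0, by decide, s, hs, by rw [hX.one, one_mul]⟩
        have h3 : Commute (Y r) (Y s) := by
          have := ((hcom p hp' s hs').inv_left).mul_left (hQc _ hv)
          rwa [inv_mul_cancel_left] at this
        exact hY.inj _ (sMul_lt r hr' s hs') _ (sMul_lt s hs' r hr') (by rw [hY.mul r hr' s hs', hY.mul s hs' r hr']; exact h3)
      have eG : h = (X p : G) * (Y r : G) := congrArg Subtype.val e
      have eX : (X 12 : G) = z := (congrArg Subtype.val X12).trans hζz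
      have eY : (Y 12 : G) = z := (congrArg Subtype.val Y12).trans hζz
      have eX0 : (X 0 : G) = 1 := congrArg Subtype.val hX.one
      have eY0 : (Y 0 : G) = 1 := congrArg Subtype.val hY.one
      rcases hp0 with rfl | rfl <;> rcases hr0 with rfl | rfl <;> simp [eG, eX, eY, eX0, eY0, hz2]
    cardH := by rw [hH]; norm_num
    moved := by
      obtain ⟨g, ⟨hq, hm⟩, hne⟩ := hnwc
      exact ⟨g, (memQG _).2 ⟨_, hm, rfl⟩, hne⟩
    inter := fun g hg hne => by
      rw [← hQQg g ((memQG _).1 hg) hne]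
      refine Nat.card_congr (Equiv.subtypeEquivRight fun v => ?_)
      rw [Subgroup.mem_inf, memQG, memQG, Subgroup.mem_map (f := (MulAut.conj g).toMonoidHom)]
      refine and_congr_right fun _ => ⟨fun h' => ⟨_, h', by simp [mul_assoc]⟩, ?_⟩
      rintro ⟨w, hw, rfl⟩
      simpa [mul_assoc] using hw }

end Cfsg.Agent.Spor.UFourType
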