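import Cfsg.Agent.Lib.Spor.UFourType.Pair

/-!
The quaternion parts of `z` and of `z' = x 1 * y 1` meet in `{1, z, z', z z'}`, and an element exchanges `z` and `z'`.
-/

set_option autoImplicit false
set_option maxRecDepth 100000

namespace Cfsg.Agent.Spor.UFourType

variable {G : Type*} [Group G] {z : G} {x y : ℕ → G}

/-- The sixteen pairs centralising `(1, 1)`. -/
def AL : List (ℕ × ℕ) :=
  [(0, 0), (0, 1), (0, 12), (0, 13), (1, 0), (1, 1), (1, 12), (1, 13),
    (2, 2), (2, 3), (2, 14), (2, 15), (3, 2), (3, 3), (3, 14), (3, 15)]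

theorem AL_spec : ∀ p ∈ q8L, ∀ r ∈ q8L, eqP (sMul p 1) (sMul r 1) (sMul 1 p) (sMul 1 r) →
    ∃ t ∈ AL, eqP p r t.1 t.2 := by decide

theorem AL_lt : ∀ t ∈ AL, t.1 < 24 ∧ t.2 < 24 ∧ t.1 ∈ q8L ∧ t.2 ∈ q8L := by decide

/-- A member of the common part of two quaternion parts. -/
def InW (z : G) (x y : ℕ → G) (v : G) : Prop :=
  v = 1 ∨ v = z ∨ v = x 1 * y 1 ∨ v = z * (x 1 * y 1)

/-- The element `s` exchanges `z` and `x 1 * y 1`. -/
structure Swap (z : G) (x y : ℕ → G) (s : G) : Prop where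
  raw : Raw z x y
  sz : s * z * s⁻¹ = x 1 * y 1
  szP : s * (x 1 * y 1) * s⁻¹ = z
  meet : ∀ v, InQ x y v → InQ x y (s⁻¹ * v * s) → InW z x y v
  memQ' : ∀ v, InW z x y v → InQ x y v ∧ InQ x y (s⁻¹ * v * s)

namespace Raw

/-- There is such an element. -/
theorem exists_swap [Finite G] (R : Raw z x y) (hg : ∃ g : G, g * z * g⁻¹ = x 1 * y 1) : ∃ s, Swap z x y s := by
  classical
  obtain ⟨g, hg⟩ := hg
  have e1 : x 12 * y 0 = z := R.z_eq.symm
  have lt : (1 : ℕ) < 24 := by norm_num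
  have hPQ : InQ x y (x 1 * y 1) := ⟨1, by decide, 1, by decide, rfl⟩
  have hP1 : x 1 * y 1 ≠ 1 := fun e =>
    absurd ((R.eqP_iff lt lt (by norm_num) (by norm_num)).1 (e.trans R.one_eq)) (by decide)
  have hPz : x 1 * y 1 ≠ z := fun e =>
    absurd ((R.eqP_iff lt lt (by norm_num) (by norm_num)).1 (e.trans R.z_eq)) (by decide)
  have hPP : x 1 * y 1 * (x 1 * y 1) = 1 := by
    rw [R.mulP lt lt lt lt, R.one_eq, R.eqP_iff (by decide) (by decide) (by norm_num) (by norm_num)]
    decide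
  let IQg : G → Prop := fun v => InQ x y (g⁻¹ * v * g)
  have qmul : ∀ v w, IQg v → IQg w → IQg (v * w) := fun v w hv hw => by
    show InQ x y (g⁻¹ * (v * w) * g)
    rw [show g⁻¹ * (v * w) * g = (g⁻¹ * v * g) * (g⁻¹ * w * g) by group]
    exact R.inQ_mul hv hw
  have qinv : ∀ v, IQg v → IQg v⁻¹ := fun v hv => by
    show InQ x y (g⁻¹ * v⁻¹ * g)
    rw [show g⁻¹ * v⁻¹ * g = (g⁻¹ * v * g)⁻¹ by group]
    exact R.inQ_inv hv
  have qP : IQg (x 1 * y 1) := by
    show InQ x y _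
    rw [← hg, show g⁻¹ * (g * z * g⁻¹) * g = z by group]
    exact R.inQ_z
  have qcomm : ∀ v, IQg v → Commute v (x 1 * y 1) := fun v hv => by
    rw [← hg, show v = g * (g⁻¹ * v * g) * g⁻¹ by group]
    exact (Commute.conj_iff g).2 (R.inQ_comm hv)
  have qnorm : ∀ v w, Commute v (x 1 * y 1) → IQg w → IQg (v * w * v⁻¹) := fun v w hv hw => by
    have e : v * g * z * (v * g)⁻¹ = g * z * g⁻¹ := by
      rw [show v * g * z * (v * g)⁻¹ = v * (g * z * g⁻¹) * v⁻¹ by group, hg, hv.eq, mul_inv_cancel_right]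
    refine (R.inQ_iff e).1 ?_
    rw [show (v * g)⁻¹ * (v * w * v⁻¹) * (v * g) = g⁻¹ * w * g by group]
    exact hw
  have hcard : Nat.card {v : G // InQ x y v ∧ IQg v} = 4 :=
    R.inter g (hg ▸ hPQ) (hg ▸ hPz)
  have ha : InQ x y (x 1) := ⟨1, by decide, 0, by decide, by rw [R.hy.one, mul_one]⟩
  have haa : x 1 * x 1 = z := by rw [← R.hx.mul 1 lt 1 lt, show sMul 1 1 = 12 by decide, R.x12]
  have zin : IQg z := by
    by_contra hz
    have hcomm : ∀ v, InQ x y v → IQg v → Commute (x 1) v := fun v hv hv' => by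
      obtain ⟨p, hp, r, hr, e⟩ := hv
      have hp' := mem_q8L_lt p hp
      have hr' := mem_q8L_lt r hr
      have key : ∀ p ∈ q8L, sConj 1 p = p ∨ sConj 1 p = sMul 12 p := by decide
      have hconj : x 1 * v * (x 1)⁻¹ = x (sConj 1 p) * y r := by
        have := R.conjP lt (show (0 : ℕ) < 24 by norm_num) hp' hr'
        rw [R.hy.one, mul_one, (show ∀ r < 24, sConj 0 r = r by decide +kernel) r hr'] at this
        rw [e, this]
      rcases key p hp with h | h
      · show x 1 * v = v * x 1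
        rw [← mul_inv_eq_iff_eq_mul, hconj, h, ← e]
      · refine absurd ?_ hz
        have h2 := qmul _ _ (qnorm (x 1) v ((Commute.refl (x 1)).mul_right (R.comm 1 lt 1 lt)) hv') (qinv v hv')
        rwa [hconj, h, R.hx.mul 12 (by norm_num) p hp', R.x12, show z * x p * y r = z * (x p * y r) by group, ← e,
          mul_inv_cancel_right] at h2
    let f : Fin 4 × {v : G // InQ x y v ∧ IQg v} → G := fun kv => x 1 ^ (kv.1 : ℕ) * kv.2.1
    have hf : Function.Injective f := by
      rintro ⟨k, v⟩ ⟨l, w⟩ e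
      simp only [f] at e
      have hpow : ∀ m : ℕ, m < 4 → IQg (x 1 ^ m) → m = 0 := fun m hm hq => by
        interval_cases m
        · rfl
        · rw [pow_one] at hq
          exact absurd (haa ▸ qmul _ _ hq hq) hz
        · rw [pow_two, haa] at hq
          exact absurd hq hz
        · have h3 := qmul _ _ hq hq
          rw [← pow_add, show x 1 ^ (3 + 3) = z by
            rw [show (3 + 3 : ℕ) = 2 + 2 + 2 from rfl, pow_add, pow_add, pow_two, haa, R.z2, one_mul]] at h3
          exact absurd h3 hz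
      have main : ∀ (i j : Fin 4) (v w : {v : G // InQ x y v ∧ IQg v}), j ≤ i →
          x 1 ^ (i : ℕ) * v.1 = x 1 ^ (j : ℕ) * w.1 → i = j := fun i j v w hji e => by
        obtain ⟨m, hm⟩ := Nat.exists_eq_add_of_le (Fin.le_def.1 hji)
        rw [hm, pow_add, mul_assoc] at e
        have e' := mul_left_cancel e
        have h0 := hpow m (by omega) (by
          rw [show x 1 ^ m = w.1 * v.1⁻¹ by rw [← e', mul_inv_cancel_right]]
          exact qmul _ _ w.2.2 (qinv _ v.2.2))
        exact Fin.ext (by omega)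
      have hkl : k = l := (le_total l k).elim (fun h => main k l v w h e) fun h => (main l k w v h e.symm).symm
      subst hkl
      exact Prod.ext rfl (Subtype.ext (mul_left_cancel e))
    let Af : Finset G := (AL.map fun t => x t.1 * y t.2).toFinset
    have hmem : ∀ v, InQ x y v → Commute v (x 1 * y 1) → v ∈ Af := fun v hv hc => by
      obtain ⟨p, hp, r, hr, rfl⟩ := hv
      have hp' := mem_q8L_lt p hp
      have hr' := mem_q8L_lt r hr
      have hc' := hc.eq
      rw [R.mulP hp' hr' lt lt, R.mulP lt lt hp' hr',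
        R.eqP_iff (sMul_lt p hp' 1 lt) (sMul_lt r hr' 1 lt) (sMul_lt 1 lt p hp') (sMul_lt 1 lt r hr')] at hc'
      obtain ⟨t, ht, et⟩ := AL_spec p hp r hr hc'
      rw [List.mem_toFinset, List.mem_map]
      exact ⟨t, ht, ((R.eqP_iff hp' hr' (AL_lt t ht).1 (AL_lt t ht).2.1).2 et).symm⟩
    have hfA : ∀ kv, f kv ∈ Af := fun kv => by
      refine hmem _ ?_ ?_
      · have hpow : ∀ m : ℕ, InQ x y (x 1 ^ m) := fun m => by
          induction m with
          | zero => rw [pow_zero]; exact R.inQ_one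
          | succ m ih => rw [pow_succ]; exact R.inQ_mul ih ha
        exact R.inQ_mul (hpow _) kv.2.2.1
      · exact (((Commute.refl (x 1)).mul_right (R.comm 1 lt 1 lt)).pow_left _).mul_left (qcomm _ kv.2.2.2)
    haveI : Fintype {v : G // InQ x y v ∧ IQg v} := Fintype.ofFinite _
    have himg : Finset.univ.image f = Af := by
      refine Finset.eq_of_subset_of_card_le (fun v hv => ?_) ?_
      · obtain ⟨kv, -, rfl⟩ := Finset.mem_image.1 hv
        exact hfA kv
      · rw [Finset.card_image_of_injective _ hf, Finset.card_univ, Fintype.card_prod, Fintype.card_fin,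
          ← Nat.card_eq_fintype_card (α := {v : G // InQ x y v ∧ IQg v}), hcard]
        exact (List.toFinset_card_le _).trans (by simp [AL])
    have hw : x 2 * y 2 ∈ Af := List.mem_toFinset.2 (List.mem_map.2 ⟨(2, 2), by decide, rfl⟩)
    rw [← himg] at hw
    obtain ⟨⟨k, v⟩, -, e⟩ := Finset.mem_image.1 hw
    have hc : Commute (x 1 * y 0) (x 2 * y 2) := by
      rw [R.hy.one, mul_one, ← e]
      exact ((Commute.refl (x 1)).pow_right _).mul_right (hcomm _ v.2.1 v.2.2)
    have hc' := hc.eq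
    rw [R.mulP lt (by norm_num) (by norm_num) (by norm_num), R.mulP (by norm_num) (by norm_num) lt (by norm_num),
      R.eqP_iff (by decide) (by decide) (by decide) (by decide)] at hc'
    exact absurd hc' (by decide)
  obtain ⟨p, hp, r, hr, e0⟩ := (show InQ x y (g⁻¹ * z * g) from zin)
  have hp' := mem_q8L_lt p hp
  have hr' := mem_q8L_lt r hr
  have key : ∀ p ∈ q8L, ∀ r ∈ q8L, eqP (sMul p p) (sMul r r) 0 0 → ¬ eqP p r 0 0 → ¬ eqP p r 12 0 →
      p ∈ o4L ∧ r ∈ o4L := by decide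
  have hcl : ∀ p ∈ o4L, ∃ h < 24, sConj h 1 = p := by decide +kernel
  have hpr := key p hp r hr ((R.eqP_iff (sMul_lt p hp' p hp') (sMul_lt r hr' r hr') (by norm_num) (by norm_num)).1 (by
      rw [← R.mulP hp' hr' hp' hr', ← R.one_eq, ← e0, show g⁻¹ * z * g * (g⁻¹ * z * g) = g⁻¹ * (z * z) * g by group,
        R.z2, mul_one, inv_mul_cancel]))
    (fun h => R.z_ne (by
      have h1 : g⁻¹ * z * g = 1 := by rw [e0, (R.eqP_iff hp' hr' (by norm_num) (by norm_num)).2 h, ← R.one_eq]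
      rw [show z = g * (g⁻¹ * z * g) * g⁻¹ by group, h1, mul_one, mul_inv_cancel]))
    (fun h => hPz (by
      have h1 : g⁻¹ * z * g = z := by rw [e0, (R.eqP_iff hp' hr' (by norm_num) (by norm_num)).2 h, ← R.z_eq]
      rw [← hg]
      conv_lhs => rw [← h1]
      group))
  obtain ⟨h1, hh1, er1⟩ := hcl p hpr.1
  obtain ⟨h2, hh2, er2⟩ := hcl r hpr.2
  have hk : x h1 * y h2 * (x 1 * y 1) * (x h1 * y h2)⁻¹ = g⁻¹ * z * g := by
    rw [R.conjP hh1 hh2 lt lt, er1, er2, e0]
  have hsz : g * (x h1 * y h2) * z * (g * (x h1 * y h2))⁻¹ = x 1 * y 1 := by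
    rw [show g * (x h1 * y h2) * z * (g * (x h1 * y h2))⁻¹ = g * ((x h1 * y h2) * z * (x h1 * y h2)⁻¹) * g⁻¹ by group,
      (R.inC_P hh1 hh2).eq, mul_inv_cancel_right, hg]
  have hsame : ∀ v, InQ x y ((g * (x h1 * y h2))⁻¹ * v * (g * (x h1 * y h2))) ↔ IQg v :=
    fun v => R.inQ_iff (hsz.trans hg.symm)
  have hWmem : ∀ v, InW z x y v → InQ x y v ∧ IQg v := by
    rintro v (rfl | rfl | rfl | rfl)
    · exact ⟨R.inQ_one, by show InQ x y _; rw [show g⁻¹ * 1 * g = 1 by group]; exact R.inQ_one⟩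
    · exact ⟨R.inQ_z, zin⟩
    · exact ⟨hPQ, qP⟩
    · exact ⟨R.inQ_mul R.inQ_z hPQ, qmul _ _ zin qP⟩
  refine ⟨g * (x h1 * y h2), R, hsz, ?_, fun v hv hv' => ?_,
    fun v hv => ⟨(hWmem v hv).1, (hsame v).2 (hWmem v hv).2⟩⟩
  · rw [show g * (x h1 * y h2) * (x 1 * y 1) * (g * (x h1 * y h2))⁻¹ =
      g * ((x h1 * y h2) * (x 1 * y 1) * (x h1 * y h2)⁻¹) * g⁻¹ by group, hk]
    group
  · let Wf : Finset G := {1, z, x 1 * y 1, z * (x 1 * y 1)}
    have hWcard : Wf.card = 4 := by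
      refine Finset.card_eq_four.2 ⟨1, z, x 1 * y 1, z * (x 1 * y 1), R.z_ne.symm, hP1.symm, ?_, hPz.symm, ?_, ?_, rfl⟩
      · intro e
        exact hPz (by rw [show x 1 * y 1 = z⁻¹ * (z * (x 1 * y 1)) by group, ← e, mul_one, R.z_inv])
      · intro e
        exact hP1 (left_eq_mul.1 e)
      · intro e
        exact R.z_ne (right_eq_mul.1 e)
    haveI : Fintype {v : G // InQ x y v ∧ IQg v} := Fintype.ofFinite _
    let Sf : Finset G := (Finset.univ : Finset {v : G // InQ x y v ∧ IQg v}).map (Function.Embedding.subtype _)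
    have hsub : Wf ⊆ Sf := fun w hw => by
      refine Finset.mem_map.2 ⟨⟨w, hWmem w ?_⟩, Finset.mem_univ _, rfl⟩
      simpa [Wf, InW] using hw
    have heq : Wf = Sf := Finset.eq_of_subset_of_card_le hsub (by
      rw [Finset.card_map, Finset.card_univ, ← Nat.card_eq_fintype_card (α := {v : G // InQ x y v ∧ IQg v}), hcard, hWcard])
    have hvS : v ∈ Sf := Finset.mem_map.2 ⟨⟨v, hv, (hsame v).1 hv'⟩, Finset.mem_univ _, rfl⟩
    rw [← heq] at hvS
    simpa [Wf, InW] using hvS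

end Raw

end Cfsg.Agent.Spor.UFourType
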