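import Cfsg.Agent.Lib.Spor.UFourType.ULocal

/-!
The subgroup `⟨d, a⟩` of order nine is not a Sylow 3-subgroup: the conjugates `b = r a r⁻¹` and `c = r b r⁻¹` of `a`
commute with it and with each other.
-/

set_option autoImplicit false
set_option maxRecDepth 100000
set_option synthInstance.maxSize 1024

namespace Cfsg.Agent.Spor.UFourType

variable {G : Type*} [Group G] {z : G} {e : ℕ → G}

/-- The subgroup of order nine. -/
def pL : List ℕ := [0, 4, 8, 48, 52, 56, 96, 100, 104]

theorem cd_nums : ∀ n < 1152, mL n 52 = mL 52 n →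
    (mL (mL (mL n n) (mL n n)) (mL (mL n n) (mL n n)) = mL n 0 → n = 0) ∧
    (let n3 := mL n (mL n n); let n9 := mL n3 (mL n3 n3); mL (mL n9 n9) (mL n9 n9) = 0 ∧ (n9 = 0 → n ∈ pL)) := by
  decide +kernel

theorem cp_nums : ∀ n < 1152, mL n 52 = mL 52 n → mL n 100 = mL 100 n →
    ∃ m ∈ pL, n = m ∨ n = mL m 144 := by decide +kernel

theorem p_nums : (∀ n ∈ pL, n < 1152 ∧ mL n 52 = mL 52 n ∧ mL n 100 = mL 100 n ∧ mL n (mL n n) = 0) ∧
    (∀ n ∈ pL, ∀ m ∈ pL, mL n m ∈ pL ∧ iL n ∈ pL) ∧
    (∀ h < 1152, cjL h 4 ∈ pL → cjL h 48 ∈ pL → cjL h 52 = 52 ∨ cjL h 52 = 104) ∧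
    cjL 326 52 = 104 ∧ cjL 326 100 = 56 ∧ cjL 326 576 = 720 ∧ cjL 326 720 = 576 ∧ cjL 576 100 = 56 ∧
    cjL 720 100 = 56 ∧ cjL 144 100 = 100 ∧ 52 ∈ pL ∧ 100 ∈ pL ∧ mL 52 52 = 104 ∧ mL 100 100 = 56 := by
  decide +kernel

namespace Cent

variable (C : Cent z e)
include C

/-- An element of odd order centralising `z` and `d` is in the subgroup of order nine. -/
theorem odd_cd {g : G} (hz : Commute g z) (hd : Commute g (e 52)) (ho : Odd (orderOf g)) :
    ∃ n ∈ pL, e n = g := by
  obtain ⟨n, hn, rfl⟩ := (C.cen g).1 hz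
  obtain ⟨-, h4, h9⟩ := cd_nums n hn ((C.e_comm hn (by norm_num)).1 hd)
  refine ⟨n, h9 (C.inj _ (mL_lt _ _) 0 (by norm_num) ?_), rfl⟩
  rw [C.mul _ (mL_lt _ _) _ (mL_lt _ _), C.mul _ (mL_lt _ _) _ (mL_lt _ _), C.mul n hn _ (mL_lt n n), C.mul n hn n hn,
    C.e0]
  have h4' : (e n ^ 9) ^ 4 = 1 := by
    have h := congrArg e h4
    rw [C.mul _ (mL_lt _ _) _ (mL_lt _ _), C.mul _ (mL_lt _ _) _ (mL_lt _ _), C.mul _ (mL_lt _ _) _ (mL_lt _ _),
      C.mul _ (mL_lt _ _) _ (mL_lt _ _), C.mul n hn _ (mL_lt n n), C.mul n hn n hn, C.e0] at h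
    rw [← h]; simp only [pow_succ, pow_zero, one_mul, mul_assoc]
  have h9' : e n ^ 9 = 1 := by
    refine orderOf_eq_one_iff.1 (Nat.eq_one_of_dvd_coprimes ?_ (orderOf_dvd_of_pow_eq_one h4')
      (orderOf_dvd_of_pow_eq_one (n := orderOf (e n)) (by rw [← pow_mul, mul_comm, pow_mul, pow_orderOf_eq_one, one_pow])))
    exact (Nat.Coprime.pow_left 2 (Nat.coprime_two_left.2 ho) : Nat.Coprime (2 ^ 2) _)
  rw [← h9']; simp only [pow_succ, pow_zero, one_mul, mul_assoc]

theorem d3 : e 52 ^ 3 = 1 := by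
  rw [pow_three, ← C.mul 52 (by norm_num) 52 (by norm_num), ← C.mul 52 (by norm_num) _ (mL_lt _ _),
    (p_nums.1 52 (by decide)).2.2.2, C.e0]

theorem a3 : e 100 ^ 3 = 1 := by
  rw [pow_three, ← C.mul 100 (by norm_num) 100 (by norm_num), ← C.mul 100 (by norm_num) _ (mL_lt _ _),
    (p_nums.1 100 (by decide)).2.2.2, C.e0]

theorem da : Commute (e 52) (e 100) :=
  (C.e_comm (by norm_num) (by norm_num)).2 (p_nums.1 52 (by decide)).2.2.1

theorem e56 : e 56 = (e 100)⁻¹ := by
  rw [show (e 100)⁻¹ = e 100 * e 100 by rw [inv_eq_of_mul_eq_one_right]; rw [← pow_three, C.a3],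
    ← C.mul 100 (by norm_num) 100 (by norm_num), p_nums.2.2.2.2.2.2.2.2.2.2.2.2.2]

theorem e104 : e 104 = (e 52)⁻¹ := by
  rw [show (e 52)⁻¹ = e 52 * e 52 by rw [inv_eq_of_mul_eq_one_right]; rw [← pow_three, C.d3],
    ← C.mul 52 (by norm_num) 52 (by norm_num), p_nums.2.2.2.2.2.2.2.2.2.2.2.2.1]

/-- The members of the subgroup of order nine. -/
def P : Subgroup G where
  carrier := {g | ∃ n ∈ pL, e n = g}
  one_mem' := ⟨0, by decide, C.e0⟩
  mul_mem' := by
    rintro _ _ ⟨n, hn, rfl⟩ ⟨m, hm, rfl⟩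
    exact ⟨_, (p_nums.2.1 n hn m hm).1, C.mul n (p_nums.1 n hn).1 m (p_nums.1 m hm).1⟩
  inv_mem' := by
    rintro _ ⟨n, hn, rfl⟩
    exact ⟨_, (p_nums.2.1 n hn n hn).2, C.e_inv (p_nums.1 n hn).1⟩

theorem P_comm {g : G} (hg : g ∈ C.P) : Commute g (e 52) ∧ Commute g (e 100) ∧ Commute g z ∧ g ^ 3 = 1 := by
  obtain ⟨n, hn, rfl⟩ := hg
  obtain ⟨h, h1, h2, h3⟩ := p_nums.1 n hn
  refine ⟨(C.e_comm h (by norm_num)).2 h1, (C.e_comm h (by norm_num)).2 h2, C.e_z h, ?_⟩
  rw [pow_three, ← C.mul n h n h, ← C.mul n h _ (mL_lt n n), h3, C.e0]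

theorem P_card : Nat.card ↥C.P = 9 := by
  let f : Fin pL.length → ↥C.P := fun i => ⟨e (pL.get i), ⟨_, pL.get_mem i, rfl⟩⟩
  have hb : Function.Bijective f := by
    refine ⟨fun i j h => (List.nodup_iff_injective_get.1 (by decide : pL.Nodup))
      (C.inj _ (p_nums.1 _ (pL.get_mem i)).1 _ (p_nums.1 _ (pL.get_mem j)).1 (congrArg Subtype.val h)), fun g => ?_⟩
    obtain ⟨n, hn, h⟩ := g.2
    obtain ⟨i, hi⟩ := List.get_of_mem hn
    exact ⟨i, Subtype.ext (by show e (pL.get i) = _; rw [hi, h])⟩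
  rw [← Nat.card_congr (Equiv.ofBijective f hb), Nat.card_eq_fintype_card, Fintype.card_fin]
  rfl

/-- The centralizer of `d` and `a`. -/
def CP (_C : Cent z e) : Subgroup G := Subgroup.centralizer ({e 52, e 100} : Set G)

theorem mem_CP {g : G} : g ∈ C.CP ↔ Commute g (e 52) ∧ Commute g (e 100) := by
  rw [CP, Subgroup.mem_centralizer_iff]
  simp [Commute, SemiconjBy, eq_comm]

theorem z_mem_CP : z ∈ C.CP :=
  C.mem_CP.2 ⟨(C.e_z (by norm_num)).symm, (C.e_z (by norm_num)).symm⟩

/-- An element of odd order commutes with `d` and `a`. -/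
def Ker (_C : Cent z e) (g : G) : Prop := Commute g (e 52) ∧ Commute g (e 100) ∧ Odd (orderOf g)

/-- The normal complement to `⟨z⟩` in the centralizer of `d` and `a`. -/
theorem exists_complement [Finite G] : ∃ K : Subgroup G, K ≤ C.CP ∧ Odd (Nat.card ↥K) ∧
    (∀ g ∈ C.CP, g ∈ K ∨ g * z ∈ K) ∧ (∀ g ∈ C.CP, Odd (orderOf g) → g ∈ K) := by
  classical
  haveI : Fact (Nat.Prime 2) := ⟨Nat.prime_two⟩
  have hzp : IsPGroup 2 ↥(Subgroup.zpowers (⟨z, C.z_mem_CP⟩ : ↥C.CP)) := IsPGroup.of_card (n := 1) (by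
    rw [Nat.card_zpowers, pow_one]
    exact orderOf_eq_prime (by rw [pow_two]; exact Subtype.ext C.z_mul_z) fun h => C.z_ne_one (congrArg Subtype.val h))
  obtain ⟨S, hS⟩ := hzp.exists_le_sylow
  set zc : ↥C.CP := ⟨z, C.z_mem_CP⟩
  have hsmall : ∀ s ∈ (S : Subgroup ↥C.CP), Commute ((s : ↥C.CP) : G) z → s = 1 ∨ s = zc := fun s hs hc => by
    obtain ⟨n, hn, en⟩ := (C.cen _).1 hc
    obtain ⟨h52, h100⟩ := C.mem_CP.1 s.2
    rw [← en] at h52 h100
    obtain ⟨m, hm, hnm⟩ := cp_nums n hn ((C.e_comm hn (by norm_num)).1 h52) ((C.e_comm hn (by norm_num)).1 h100)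
    obtain ⟨k, hk⟩ := S.2 ⟨s, hs⟩
    have hk' : (e n) ^ 2 ^ k = 1 := by rw [en]; exact congrArg (fun v : ↥(S : Subgroup ↥C.CP) => ((v : ↥C.CP) : G)) hk
    have hm' : e m = 1 := by
      obtain ⟨-, -, hmz, hm3⟩ := C.P_comm ⟨m, hm, rfl⟩
      refine orderOf_eq_one_iff.1 (Nat.eq_one_of_dvd_coprimes (Nat.Coprime.pow_left (k + 1) (by norm_num : Nat.Coprime 2 3))
        (orderOf_dvd_of_pow_eq_one ?_) (orderOf_dvd_of_pow_eq_one hm3))
      rcases hnm with rfl | rfl
      · rw [pow_succ, pow_mul, hk', one_pow]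
      · rw [C.mul m (p_nums.1 m hm).1 144 (by norm_num), C.z_eq, hmz.mul_pow] at hk'
        rw [pow_succ, pow_mul, eq_inv_of_mul_eq_one_left hk', inv_pow, pow_two, ← (Commute.refl z).mul_pow, C.z_mul_z, one_pow, inv_one]
    rcases hnm with rfl | rfl
    · exact Or.inl (Subtype.ext (en.symm.trans hm'))
    · exact Or.inr (Subtype.ext (en.symm.trans (by rw [C.mul m (p_nums.1 m hm).1 144 (by norm_num), hm', C.z_eq, one_mul])))
  have hSz : ∀ s ∈ (S : Subgroup ↥C.CP), s = 1 ∨ s = zc := by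
    have hzS : zc ∈ (S : Subgroup ↥C.CP) := hS (Subgroup.mem_zpowers _)
    haveI : Nontrivial ↥(S : Subgroup ↥C.CP) :=
      Nontrivial.mk ⟨⟨zc, hzS⟩, 1, fun h => C.z_ne_one (congrArg (fun v : ↥(S : Subgroup ↥C.CP) => ((v : ↥C.CP) : G)) h)⟩
    haveI : Nontrivial ↥(Subgroup.center ↥(S : Subgroup ↥C.CP)) := S.2.center_nontrivial
    obtain ⟨⟨c, hc⟩, hc1⟩ := exists_ne (1 : ↥(Subgroup.center ↥(S : Subgroup ↥C.CP)))
    have hcom : ∀ q (hq : q ∈ (S : Subgroup ↥C.CP)), Commute ((c : ↥C.CP) : G) ((q : ↥C.CP) : G) := fun q hq =>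
      congrArg (fun v : ↥(S : Subgroup ↥C.CP) => ((v : ↥C.CP) : G)) (Subgroup.mem_center_iff.1 hc ⟨q, hq⟩).symm
    rcases hsmall c c.2 (hcom zc hzS) with h | h
    · exact absurd (Subtype.ext (Subtype.ext h)) hc1
    · intro s hs
      refine hsmall s hs ?_
      have := hcom s hs
      rw [h] at this
      exact this.symm
  have hSC : Subgroup.normalizer ((S : Subgroup ↥C.CP) : Set ↥C.CP) ≤
      Subgroup.centralizer ((S : Subgroup ↥C.CP) : Set ↥C.CP) := fun g hg => by
    refine Subgroup.mem_centralizer_iff.2 fun s hs => ?_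
    rcases hSz s hs with rfl | rfl
    · rw [one_mul, mul_one]
    · rcases hSz _ ((Subgroup.mem_normalizer_iff.1 hg zc).1 hs) with h | h
      · rw [mul_inv_eq_one, mul_eq_left] at h
        exact absurd (congrArg Subtype.val h) C.z_ne_one
      · exact (mul_inv_eq_iff_eq_mul.1 h).symm
  set N := (MonoidHom.transferSylow S hSC).ker with hN
  have hc := MonoidHom.ker_transferSylow_isComplement' S hSC
  have hodd : Odd (Nat.card ↥N) := by
    rcases Nat.even_or_odd (Nat.card ↥N) with h | h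
    · exact absurd (even_iff_two_dvd.1 h) (MonoidHom.not_dvd_card_ker_transferSylow S hSC)
    · exact h
  have hzz : zc * zc = 1 := Subtype.ext C.z_mul_z
  refine ⟨N.map C.CP.subtype, Subgroup.map_subtype_le _, ?_, fun g hg => ?_, fun g hg ho => ?_⟩
  · rw [Nat.card_congr (N.equivMapOfInjective _ C.CP.subtype_injective).toEquiv.symm]; exact hodd
  · obtain ⟨⟨⟨n, hn⟩, ⟨s, hs⟩⟩, h, -⟩ := hc.existsUnique ⟨g, hg⟩
    simp only at h
    rcases hSz s hs with rfl | rfl
    · exact Or.inl ⟨n, hn, by show (n : G) = g; rw [mul_one] at h; exact congrArg Subtype.val h⟩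
    · refine Or.inr ⟨n, hn, ?_⟩
      have h' := congrArg (fun v : ↥C.CP => (v : G)) h
      simp only [Subgroup.coe_mul] at h'
      show (n : G) = g * z
      rw [← h', show (zc : G) = z from rfl, mul_assoc, C.z_mul_z, mul_one]
  · obtain ⟨k, hk⟩ := ho
    refine ⟨⟨g, hg⟩, ?_, rfl⟩
    have hsq : (⟨g, hg⟩ : ↥C.CP) * ⟨g, hg⟩ ∈ N := by
      rw [hN, MonoidHom.mem_ker, map_mul]
      refine Subtype.ext ?_
      rcases hSz _ (MonoidHom.transferSylow S hSC ⟨g, hg⟩).2 with h | h <;>
        rw [Subgroup.coe_mul, h] <;> simp [hzz]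
    have hpow : (⟨g, hg⟩ : ↥C.CP) = ((⟨g, hg⟩ : ↥C.CP) * ⟨g, hg⟩) ^ (k + 1) := by
      refine Subtype.ext ?_
      show g = (g * g) ^ (k + 1)
      rw [← pow_two, ← pow_mul, show 2 * (k + 1) = (2 * k + 1) + 1 by ring, pow_succ, ← hk, pow_orderOf_eq_one, one_mul]
    rw [hpow]
    exact pow_mem hsq _

/-- **The commutation.** -/
theorem exists_triple [Finite G] : ∃ r : G, NU e r ∧ Commute r (e 52) ∧ r * z * r⁻¹ = e 576 ∧
    r * e 576 * r⁻¹ = e 720 ∧ r * e 720 * r⁻¹ = z ∧ Commute (r ^ 3) z ∧ r ^ 9 = 1 ∧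
    Commute (e 100) (r * e 100 * r⁻¹) ∧ Commute (e 100) (r * (r * e 100 * r⁻¹) * r⁻¹) ∧
    Commute (r * e 100 * r⁻¹) (r * (r * e 100 * r⁻¹) * r⁻¹) := by
  classical
  obtain ⟨r, hrN, hrd, hr1, hr2, hr3, hr9⟩ := C.exists_r
  have hrcube : Commute (r ^ 3) z := mul_inv_eq_iff_eq_mul.1 (by
    rw [pow_three, show r * (r * r) * z * (r * (r * r))⁻¹ = r * (r * (r * z * r⁻¹) * r⁻¹) * r⁻¹ by group, hr1, hr2, hr3])
  refine ⟨r, hrN, hrd, hr1, hr2, hr3, hrcube, hr9, ?_⟩
  set a := e 100 with ha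
  set b := r * a * r⁻¹ with hb
  suffices hab : Commute a b by
    have hbc : Commute b (r * b * r⁻¹) := (Commute.conj_iff r).2 hab
    refine ⟨hab, ?_, hbc⟩
    -- the element exchanging `t` and `z t` moves the second conjugate to the third
    have h326 : (326 : ℕ) < 1152 := by norm_num
    set h := e 326 with hh
    have hhd : h * e 52 * h⁻¹ = (e 52)⁻¹ := by rw [hh, ← C.e_cj h326 (by norm_num), p_nums.2.2.2.1, C.e104]
    have hha : h * a * h⁻¹ = a⁻¹ := by rw [hh, ha, ← C.e_cj h326 (by norm_num), p_nums.2.2.2.2.1, C.e56]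
    have hht : h * e 576 * h⁻¹ = e 720 := by rw [hh, ← C.e_cj h326 (by norm_num), p_nums.2.2.2.2.2.1]
    have hbd : Commute b (e 52) := by
      rw [hb, show e 52 = r * e 52 * r⁻¹ by rw [hrd.eq, mul_inv_cancel_right]]
      exact (Commute.conj_iff r).2 C.da.symm
    have hb3 : b ^ 3 = 1 := by rw [hb, conj_pow, ha, C.a3]; group
    have hbt : Commute b (e 576) := by rw [hb, ← hr1]; exact (Commute.conj_iff r).2 (C.e_z (by norm_num))
    set m := r⁻¹ * (r⁻¹ * (h * b * h⁻¹) * r) * r with hm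
    have hmz : Commute m z := by
      have h1 : Commute (h * b * h⁻¹) (e 720) := hht ▸ (Commute.conj_iff h).2 hbt
      have h2 := (Commute.conj_iff r⁻¹).2 h1
      have h3 := (Commute.conj_iff r⁻¹).2 h2
      rw [inv_inv, show r⁻¹ * e 720 * r = e 576 by rw [← hr2]; group, show r⁻¹ * e 576 * r = z by rw [← hr1]; group] at h3
      exact h3
    have hmd : Commute m (e 52) := by
      have h1 : Commute (h * b * h⁻¹) (e 52) := by
        have h0 := (Commute.conj_iff h).2 hbd
        rw [hhd] at h0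
        exact Commute.inv_right_iff.1 h0
      have hrinv : r⁻¹ * e 52 * r = e 52 := by rw [mul_assoc, ← hrd.eq, inv_mul_cancel_left]
      have h2 := (Commute.conj_iff r⁻¹).2 ((Commute.conj_iff r⁻¹).2 h1)
      rw [inv_inv, hrinv, hrinv] at h2
      exact h2
    have hm3 : m ^ 3 = 1 := by
      rw [hm, show r⁻¹ * (r⁻¹ * (h * b * h⁻¹) * r) * r = (r⁻¹ * r⁻¹ * h) * b * (r⁻¹ * r⁻¹ * h)⁻¹ by
        simp only [mul_inv_rev, inv_inv, mul_assoc], conj_pow, hb3]
      group
    have hmo : Odd (orderOf m) := by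
      rcases (Nat.dvd_prime Nat.prime_three).1 (orderOf_dvd_of_pow_eq_one hm3) with h | h <;> rw [h] <;> decide
    obtain ⟨n, hn, en⟩ := C.odd_cd hmz hmd hmo
    have hac : Commute a (r * (r * m * r⁻¹) * r⁻¹) := by
      rw [hm, show r * (r * (r⁻¹ * (r⁻¹ * (h * b * h⁻¹) * r) * r) * r⁻¹) * r⁻¹ = h * b * h⁻¹ by group]
      exact Commute.inv_left_iff.1 (hha ▸ (Commute.conj_iff h).2 hab)
    obtain ⟨i, j, hij⟩ : ∃ i j : ℕ, i < 3 ∧ j < 3 ∧ e n = e 52 ^ i * a ^ j := by
      have key : ∀ n ∈ pL, ∃ i < 3, ∃ j < 3,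
          n = mL (if i = 0 then 0 else if i = 1 then 52 else 104) (if j = 0 then 0 else if j = 1 then 100 else 56) := by
        decide +kernel
      obtain ⟨i, hi, j, hj, hn'⟩ := key n hn
      refine ⟨i, j, hi, hj, ?_⟩
      have h1 : e (if i = 0 then 0 else if i = 1 then 52 else 104) = e 52 ^ i := by
        interval_cases i
        · simp [C.e0]
        · simp
        · simp [C.e104, inv_eq_of_mul_eq_one_right (a := e 52) (b := e 52 * e 52) (by rw [← pow_three, C.d3]), pow_two]
      have h2 : e (if j = 0 then 0 else if j = 1 then 100 else 56) = a ^ j := by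
        interval_cases j
        · simp [C.e0]
        · simp [ha]
        · simp [ha, C.e56, inv_eq_of_mul_eq_one_right (a := e 100) (b := e 100 * e 100) (by rw [← pow_three, C.a3]), pow_two]
      rw [hn', C.mul _ (by split_ifs <;> norm_num) _ (by split_ifs <;> norm_num), h1, h2]
    obtain ⟨hi, hj, hn'⟩ := hij
    have hmc : r * (r * m * r⁻¹) * r⁻¹ = e 52 ^ i * (r * b * r⁻¹) ^ j := by
      rw [← en, hn', show r * (r * (e 52 ^ i * a ^ j) * r⁻¹) * r⁻¹ =
        (r * r * e 52 ^ i * (r * r)⁻¹) * (r * r * a ^ j * (r * r)⁻¹) by group,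
        ((hrd.mul_left hrd).pow_right i).eq, mul_inv_cancel_right, ← conj_pow, hb]
      congr 2
      group
    rw [hmc] at hac
    have hdi : Commute a (e 52 ^ i) := C.da.symm.pow_right i
    have hcj : Commute a ((r * b * r⁻¹) ^ j) := by
      have := hdi.inv_right.mul_right hac
      rwa [inv_mul_cancel_left] at this
    interval_cases j
    · exfalso
      have hbd' : h * b * h⁻¹ = e 52 ^ i := by
        rw [show h * b * h⁻¹ = r * (r * m * r⁻¹) * r⁻¹ by rw [hm]; group, hmc, pow_zero, mul_one]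
      have h1 : Commute b z := by
        rw [show b = h⁻¹ * (e 52 ^ i) * h by rw [← hbd']; group]
        exact ((C.e_z h326).inv_left.mul_left ((C.e_z (by norm_num)).pow_left i)).mul_left (C.e_z h326)
      have h2 : Commute a (e 720) := by
        have h3 := (Commute.conj_iff r⁻¹).2 h1
        rwa [inv_inv, hb, show r⁻¹ * (r * a * r⁻¹) * r = a by group, show r⁻¹ * z * r = e 720 by rw [← hr3]; group] at h3
      have h4 := (C.e_comm (show (100 : ℕ) < 1152 by norm_num) (show (720 : ℕ) < 1152 by norm_num)).1 (ha ▸ h2)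
      revert h4; decide +kernel
    · rwa [pow_one] at hcj
    · have hc3 : (r * b * r⁻¹) ^ 3 = 1 := by rw [conj_pow, hb3]; group
      have := hcj.pow_right 2
      rwa [← pow_mul, show 2 * 2 = 3 + 1 from rfl, pow_succ, hc3, one_mul] at this
  -- otherwise the centralizer of `d` and `a` is `⟨d, a⟩ × ⟨z⟩`
  by_contra hab
  obtain ⟨K, hKCP, hKodd, hKcov, hKodd'⟩ := C.exists_complement
  have hcent : ∀ g ∈ C.CP, Commute g z := by
    have hKz : ∀ v ∈ K, z * v * z ∈ K := fun v hv => by
      refine hKodd' _ (mul_mem (mul_mem C.z_mem_CP (hKCP hv)) C.z_mem_CP) ?_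
      have : orderOf (z * v * z) = orderOf v := by
        conv_lhs => rw [show z * v * z = MulAut.conj z v by
          rw [MulAut.conj_apply, inv_eq_of_mul_eq_one_right C.z_mul_z]]
        exact (MulAut.conj z).orderOf_eq v
      rw [this]
      exact hKodd.of_dvd_nat (Subgroup.orderOf_dvd_natCard K hv)
    -- an element of the kernel centralised by `t` or `z t` is in `⟨d⟩`
    have hfix : ∀ m ∈ K, Commute m (e 576) ∨ Commute m (e 720) → Commute m z := by
      have hcase : ∀ m, Commute m (e 52) → Commute m a → Odd (orderOf m) → Commute m (e 576) → Commute m z := by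
        intro m hmd hma hmo hmt
        set n0 := r⁻¹ * m * r with hn0
        have h1 : Commute n0 z := by
          have h := (Commute.conj_iff r⁻¹).2 hmt
          rwa [inv_inv, show r⁻¹ * e 576 * r = z by rw [← hr1]; group] at h
        have h2 : Commute n0 (e 52) := by
          have h := (Commute.conj_iff r⁻¹).2 hmd
          rwa [inv_inv, show r⁻¹ * e 52 * r = e 52 by rw [mul_assoc, ← hrd.eq, inv_mul_cancel_left]] at h
        have h3 : Odd (orderOf n0) := by
          rw [hn0, show r⁻¹ * m * r = MulAut.conj r⁻¹ m by simp, (MulAut.conj r⁻¹).orderOf_eq]; exact hmo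
        obtain ⟨n, hn, en⟩ := C.odd_cd h1 h2 h3
        have key : ∀ n ∈ pL, n = 0 ∨ n = 52 ∨ n = 104 ∨ ∃ i ∈ [0, 52, 104], n = mL i 100 ∨ n = mL i 56 := by decide +kernel
        have hm : m = r * e n * r⁻¹ := by rw [en, hn0]; group
        rcases key n hn with rfl | rfl | rfl | ⟨i, hi, hcase⟩
        · rw [hm, C.e0]; simp
        · rw [hm, hrd.eq, mul_inv_cancel_right]; exact C.e_z (by norm_num)
        · rw [hm, C.e104, show r * (e 52)⁻¹ * r⁻¹ = (r * e 52 * r⁻¹)⁻¹ by group, hrd.eq, mul_inv_cancel_right]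
          exact (C.e_z (by norm_num)).inv_left
        · exfalso
          have hi' : i < 1152 ∧ Commute (e i) a ∧ r * e i * r⁻¹ = e i := by
            have hrd' : r * (e 52)⁻¹ * r⁻¹ = (e 52)⁻¹ := by rw [hrd.inv_right.eq, mul_inv_cancel_right]
            simp only [List.mem_cons, List.not_mem_nil, or_false] at hi
            rcases hi with rfl | rfl | rfl
            · exact ⟨by norm_num, by rw [C.e0]; exact Commute.one_left _, by rw [C.e0]; group⟩
            · exact ⟨by norm_num, C.da, by rw [hrd.eq, mul_inv_cancel_right]⟩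
            · exact ⟨by norm_num, by rw [C.e104]; exact C.da.inv_left, by rw [C.e104]; exact hrd'⟩
          refine hab ?_
          rcases hcase with rfl | rfl
          · rw [hm, C.mul i hi'.1 100 (by norm_num), show r * (e i * e 100) * r⁻¹ = (r * e i * r⁻¹) * (r * e 100 * r⁻¹) by
              group, hi'.2.2] at hma
            have := hi'.2.1.inv_left.mul_left hma
            rw [inv_mul_cancel_left] at this
            exact this.symm
          · rw [hm, C.mul i hi'.1 56 (by norm_num), C.e56,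
              show r * (e i * (e 100)⁻¹) * r⁻¹ = (r * e i * r⁻¹) * (r * e 100 * r⁻¹)⁻¹ by group, hi'.2.2] at hma
            have := hi'.2.1.inv_left.mul_left hma
            rw [inv_mul_cancel_left] at this
            exact (Commute.inv_left_iff.1 this).symm
      intro m hm hor
      obtain ⟨hmd, hma⟩ := C.mem_CP.1 (hKCP hm)
      have hmo : Odd (orderOf m) := hKodd.of_dvd_nat (Subgroup.orderOf_dvd_natCard K hm)
      rcases hor with h | h
      · exact hcase m hmd hma hmo h
      · have h326 : (326 : ℕ) < 1152 := by norm_num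
        have c1 : e 326 * e 52 * (e 326)⁻¹ = (e 52)⁻¹ := by rw [← C.e_cj h326 (by norm_num), p_nums.2.2.2.1, C.e104]
        have c2 : e 326 * a * (e 326)⁻¹ = a⁻¹ := by rw [ha, ← C.e_cj h326 (by norm_num), p_nums.2.2.2.2.1, C.e56]
        have c3 : e 326 * e 720 * (e 326)⁻¹ = e 576 := by rw [← C.e_cj h326 (by norm_num), p_nums.2.2.2.2.2.2.1]
        have := hcase (e 326 * m * (e 326)⁻¹) (Commute.inv_right_iff.1 (c1 ▸ (Commute.conj_iff (e 326)).2 hmd))
          (Commute.inv_right_iff.1 (c2 ▸ (Commute.conj_iff (e 326)).2 hma))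
          (by rw [show e 326 * m * (e 326)⁻¹ = MulAut.conj (e 326) m by simp, (MulAut.conj (e 326)).orderOf_eq]; exact hmo)
          (c3 ▸ (Commute.conj_iff (e 326)).2 h)
        rw [show z = e 326 * z * (e 326)⁻¹ by rw [(C.e_z h326).eq, mul_inv_cancel_right]] at this
        exact (Commute.conj_iff (e 326)).1 this
    have hzc : ∀ g ∈ C.CP, g ∈ K → Commute g z := by
      let Q : Subgroup ↥K :=
        { carrier := {v | Commute (v : G) z}
          one_mem' := Commute.one_left _
          mul_mem' := fun hv hw => Commute.mul_left hv hw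
          inv_mem' := fun hv => Commute.inv_left hv }
      have hQP : ∀ v : ↥K, v ∈ Q → (v : G) ∈ C.P := fun v hv => by
        obtain ⟨hd', -⟩ := C.mem_CP.1 (hKCP v.2)
        obtain ⟨n, hn, en⟩ := C.odd_cd hv hd' (hKodd.of_dvd_nat (Subgroup.orderOf_dvd_natCard K v.2))
        exact ⟨n, hn, en⟩
      have hcen : ∀ v : ↥K, ∀ q : ↥K, q ∈ Q → Commute (v : G) (q : G) := fun v q hq => by
        obtain ⟨hd', ha'⟩ := C.mem_CP.1 (hKCP v.2)
        obtain ⟨n, hn, en⟩ := hQP q hq
        have key : ∀ n ∈ pL, ∃ i ∈ [0, 52, 104], ∃ j ∈ [0, 100, 56], n = mL i j := by decide +kernel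
        obtain ⟨i, hi, j, hj, rfl⟩ := key n hn
        have hi' : i < 1152 ∧ Commute (v : G) (e i) := by
          simp only [List.mem_cons, List.not_mem_nil, or_false] at hi
          rcases hi with rfl | rfl | rfl
          exacts [⟨by norm_num, C.e0.symm ▸ Commute.one_right _⟩, ⟨by norm_num, hd'⟩, ⟨by norm_num, C.e104.symm ▸ hd'.inv_right⟩]
        have hj' : j < 1152 ∧ Commute (v : G) (e j) := by
          simp only [List.mem_cons, List.not_mem_nil, or_false] at hj
          rcases hj with rfl | rfl | rfl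
          exacts [⟨by norm_num, C.e0.symm ▸ Commute.one_right _⟩, ⟨by norm_num, ha'⟩, ⟨by norm_num, C.e56.symm ▸ ha'.inv_right⟩]
        rw [← en, C.mul i hi'.1 j hj'.1]
        exact hi'.2.mul_right hj'.2
      haveI hQn : Q.Normal := ⟨fun q hq v => by
        show Commute ((v : G) * (q : G) * (v : G)⁻¹) z
        rw [(hcen v q hq).eq, mul_inv_cancel_right]
        exact hq⟩
      let θ : ↥K →* ↥K :=
        { toFun := fun v => ⟨z * v * z, hKz v v.2⟩
          map_one' := Subtype.ext (by show z * 1 * z = 1; rw [mul_one, C.z_mul_z])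
          map_mul' := fun v w => Subtype.ext (by
            show z * ((v : G) * w) * z = z * v * z * (z * w * z)
            rw [show z * (v : G) * z * (z * w * z) = z * v * (z * z) * w * z by group, C.z_mul_z]
            group) }
      have hzi : z⁻¹ = z := inv_eq_of_mul_eq_one_right C.z_mul_z
      let ψ : ↥K ⧸ Q →* ↥K ⧸ Q := QuotientGroup.map Q Q θ fun q hq => by
        show Commute (z * (q : G) * z) z
        exact ((Commute.refl z).mul_left hq).mul_left (Commute.refl z)
      have hθfix : ∀ v : ↥K, (v⁻¹ * θ v) ∈ Q → v ∈ Q := fun v hv => by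
        set p : G := (v : G)⁻¹ * (z * v * z) with hp
        have hpz : Commute p z := hv
        have hpv : Commute (v : G) p := hcen v _ hv
        have e1 : z * (v : G) * z = v * p := by rw [hp]; group
        have e2 : (v : G) = v * (p * p) := by
          calc (v : G) = z * (z * (v : G) * z) * z := by
                rw [show z * (z * (v : G) * z) * z = (z * z) * v * (z * z) by group, C.z_mul_z, one_mul, mul_one]
            _ = z * (v * p) * z := by rw [e1]
            _ = z * v * (p * z) := by group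
            _ = z * v * (z * p) := by rw [hpz.eq]
            _ = (v * p) * p := by rw [← e1]; group
            _ = v * (p * p) := by group
        have hp2 : p * p = 1 := left_eq_mul.1 e2
        have hp1 : p = 1 := orderOf_eq_one_iff.1 (Nat.eq_one_of_dvd_coprimes
          (Nat.coprime_two_left.2 (hKodd.of_dvd_nat (Subgroup.orderOf_dvd_natCard K
            (show p ∈ K from (v⁻¹ * θ v).2))))
          (orderOf_dvd_of_pow_eq_one (by rw [pow_two, hp2])) dvd_rfl)
        rw [hp1, mul_one] at e1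
        show Commute (v : G) z
        calc (v : G) * z = z * v * z * z := by rw [e1]
          _ = z * v * (z * z) := by group
          _ = z * v := by rw [C.z_mul_z, mul_one]
      have hfpf : MonoidHom.FixedPointFree ψ := fun q hq => by
        induction q using QuotientGroup.induction_on with
        | _ v => exact (QuotientGroup.eq_one_iff v).2 (hθfix v ((QuotientGroup.eq).1 hq.symm))
      have hinvo : Function.Involutive ψ := fun q => by
        induction q using QuotientGroup.induction_on with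
        | _ v =>
          show QuotientGroup.mk (θ (θ v)) = _
          congr 1
          refine Subtype.ext ?_
          show z * (z * (v : G) * z) * z = v
          rw [show z * (z * (v : G) * z) * z = (z * z) * v * (z * z) by group, C.z_mul_z, one_mul, mul_one]
      have hinv := hfpf.coe_eq_inv_of_involutive hinvo
      have hcommQ : ∀ p q : ↥K ⧸ Q, Commute p q := hfpf.commute_all_of_involutive hinvo
      -- conjugation by `t`
      have htn : ∀ v : ↥K, e 576 * (v : G) * e 576 ∈ K ∧ e 720 * (v : G) * e 720 ∈ K := by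
        intro v
        have aux : ∀ k, k < 1152 → mL k k = 0 → cjL k 52 = 52 → cjL k 100 = 56 → e k * (v : G) * e k ∈ K := by
          intro k hk h2 hd' ha'
          have hki : (e k)⁻¹ = e k := inv_eq_of_mul_eq_one_right (by rw [← C.mul k hk k hk, h2, C.e0])
          obtain ⟨hvd, hva⟩ := C.mem_CP.1 (hKCP v.2)
          have e1 : e k * e 52 * e k = e 52 := by
            have := C.e_cj hk (show (52 : ℕ) < 1152 by norm_num)
            rw [hki, hd'] at this
            exact this.symm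
          have e2 : e k * e 100 * e k = (e 100)⁻¹ := by
            have := C.e_cj hk (show (100 : ℕ) < 1152 by norm_num)
            rw [hki, ha', C.e56] at this
            exact this.symm
          refine hKodd' _ (C.mem_CP.2 ⟨?_, ?_⟩) ?_
          · have := (Commute.conj_iff (e k)).2 hvd
            rwa [hki, e1] at this
          · have := (Commute.conj_iff (e k)).2 hva
            rw [hki, e2] at this
            exact Commute.inv_right_iff.1 this
          · have : orderOf (e k * (v : G) * e k) = orderOf (v : G) := by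
              conv_lhs => rw [show e k * (v : G) * e k = MulAut.conj (e k) v by rw [MulAut.conj_apply, hki]]
              exact (MulAut.conj (e k)).orderOf_eq _
            rw [this]
            exact hKodd.of_dvd_nat (Subgroup.orderOf_dvd_natCard K v.2)
        exact ⟨aux 576 (by norm_num) (by decide +kernel) (by decide +kernel) p_nums.2.2.2.2.2.2.2.1,
          aux 720 (by norm_num) (by decide +kernel) (by decide +kernel) p_nums.2.2.2.2.2.2.2.2.1⟩
      have hzt : e 720 = z * e 576 := by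
        rw [← C.z_eq, ← C.mul 144 (by norm_num) 576 (by norm_num), show mL 144 576 = 720 by decide +kernel]
      have ht2 : e 576 * e 576 = 1 := by
        rw [← C.mul 576 (by norm_num) 576 (by norm_num), show mL 576 576 = 0 by decide +kernel, C.e0]
      have hzt2 : e 720 * e 720 = 1 := by
        rw [← C.mul 720 (by norm_num) 720 (by norm_num), show mL 720 720 = 0 by decide +kernel, C.e0]
      have hhalf : ∀ (s : G), s * s = 1 → (∀ q : ↥K, q ∈ Q → Commute (s * (q : G) * s) z) →
          (∀ m : ↥K, Commute (m : G) s → m ∈ Q) → ∀ v : ↥K, ∀ hs : s * (v : G) * s ∈ K,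
          (v * ⟨_, hs⟩ : ↥K) ∈ Q := by
        intro s hs2 hsQ hsF v hs
        set w : ↥K := ⟨_, hs⟩
        set p : ↥K := (v * w)⁻¹ * (w * v) with hp
        have hpQ : p ∈ Q := by
          rw [hp, ← QuotientGroup.eq, QuotientGroup.mk_mul, QuotientGroup.mk_mul]
          exact (hcommQ _ _).eq
        have hsw : s * ((v * w : ↥K) : G) * s = ((v * w : ↥K) : G) * (p : G) := by
          rw [hp]
          simp only [Subgroup.coe_mul, Subgroup.coe_inv, w]
          rw [show s * ((v : G) * (s * v * s)) * s = (s * v * s) * v * (s * s) by group, hs2, mul_one,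
            show (v : G) * (s * v * s) * (((v : G) * (s * v * s))⁻¹ * (s * v * s * v)) = s * v * s * v by group]
        have hp3 : (p : G) ^ 3 = 1 := (C.P_comm (hQP p hpQ)).2.2.2
        have hsp : s * (p : G) * s = (p : G)⁻¹ := by
          have h1 : ((v * w : ↥K) : G) = ((v * w : ↥K) : G) * (p : G) * (s * (p : G) * s) := by
            calc ((v * w : ↥K) : G) = s * (s * ((v * w : ↥K) : G) * s) * s := by
                  rw [show s * (s * ((v * w : ↥K) : G) * s) * s = (s * s) * ((v * w : ↥K) : G) * (s * s) by group,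
                    hs2, one_mul, mul_one]
              _ = s * (((v * w : ↥K) : G) * (p : G)) * s := by rw [hsw]
              _ = (s * ((v * w : ↥K) : G) * s) * (s * (p : G) * s) := by
                  rw [show s * ((v * w : ↥K) : G) * s * (s * (p : G) * s) = s * ((v * w : ↥K) : G) * (s * s) * (p : G) * s
                    by group, hs2]
                  group
              _ = ((v * w : ↥K) : G) * (p : G) * (s * (p : G) * s) := by rw [hsw]
          rw [mul_assoc] at h1
          exact eq_inv_of_mul_eq_one_right (left_eq_mul.1 h1)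
        have hpp : (p : G) * (p : G) = (p : G)⁻¹ := eq_inv_of_mul_eq_one_left (by rw [mul_assoc, ← pow_three, hp3])
        have hmQ : (v * w * (p * p)) ∈ Q := hsF _ (by
          show ((v * w : ↥K) : G) * ((p * p : ↥K) : G) * s = s * (((v * w : ↥K) : G) * ((p * p : ↥K) : G))
          rw [Subgroup.coe_mul K p p, hpp, eq_comm, ← mul_inv_eq_iff_eq_mul, inv_eq_of_mul_eq_one_right hs2,
            show s * (((v * w : ↥K) : G) * (p : G)⁻¹) * s = (s * ((v * w : ↥K) : G) * s) * (s * (p : G) * s)⁻¹ by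
              rw [inv_eq_of_mul_eq_one_right (show s * (p : G) * s * (s * (p : G)⁻¹ * s) = 1 by
                rw [show s * (p : G) * s * (s * (p : G)⁻¹ * s) = s * (p : G) * (s * s) * (p : G)⁻¹ * s by group, hs2,
                  mul_one, mul_inv_cancel_right, hs2]),
                show s * ((v * w : ↥K) : G) * s * (s * (p : G)⁻¹ * s) = s * ((v * w : ↥K) : G) * (s * s) * (p : G)⁻¹ * s
                  by group, hs2]
              group, hsw, hsp, inv_inv, mul_assoc, hpp])
        have := Q.mul_mem hmQ (Q.inv_mem (Q.mul_mem hpQ hpQ))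
        rwa [mul_inv_cancel_right] at this
      intro g hg hgK
      set v : ↥K := ⟨g, hgK⟩
      obtain ⟨h576, h720⟩ := htn v
      have hQs : ∀ k, k < 1152 → ∀ q : ↥K, q ∈ Q → Commute (e k * (q : G) * e k) z := fun k hk q hq =>
        ((C.e_z hk).mul_left hq).mul_left (C.e_z hk)
      have hA := hhalf (e 576) ht2 (hQs 576 (by norm_num)) (fun m hm => hfix m m.2 (Or.inl hm)) v h576
      have hB := hhalf (e 720) hzt2 (hQs 720 (by norm_num)) (fun m hm => hfix m m.2 (Or.inr hm)) v h720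
      have hC : (⟨_, h720⟩ : ↥K) = θ ⟨_, h576⟩ := by
        refine Subtype.ext ?_
        show e 720 * g * e 720 = z * (e 576 * g * e 576) * z
        rw [hzt]
        nth_rw 2 [(C.e_z (show (576 : ℕ) < 1152 by norm_num)).symm.eq]
        group
      rw [hC] at hB
      set w : ↥K := ⟨_, h576⟩
      have e1 : (QuotientGroup.mk v : ↥K ⧸ Q) * QuotientGroup.mk w = 1 := by
        rw [← QuotientGroup.mk_mul]; exact (QuotientGroup.eq_one_iff _).2 hA
      have e2 : (QuotientGroup.mk v : ↥K ⧸ Q) * (QuotientGroup.mk w)⁻¹ = 1 := by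
        rw [← congrFun hinv]
        show (QuotientGroup.mk v : ↥K ⧸ Q) * QuotientGroup.mk (θ w) = 1
        rw [← QuotientGroup.mk_mul]; exact (QuotientGroup.eq_one_iff _).2 hB
      have e3 : (QuotientGroup.mk v : ↥K ⧸ Q) * QuotientGroup.mk v = 1 := by
        have h1 := eq_inv_of_mul_eq_one_left e1
        have h2 := eq_inv_of_mul_eq_one_left e2
        rw [inv_inv] at h2
        nth_rw 1 [h1]
        rw [h2, inv_mul_cancel]
      have hodd' : Odd (orderOf (QuotientGroup.mk v : ↥K ⧸ Q)) :=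
        hKodd.of_dvd_nat ((orderOf_dvd_natCard _).trans (Subgroup.card_quotient_dvd_card Q))
      exact (QuotientGroup.eq_one_iff v).1 (orderOf_eq_one_iff.1 (Nat.eq_one_of_dvd_coprimes
        (Nat.coprime_two_left.2 hodd') (orderOf_dvd_of_pow_eq_one (by rw [pow_two, e3])) dvd_rfl))
    intro g hg
    rcases hKcov g hg with h | h
    · exact hzc g hg h
    · have := (hzc _ (mul_mem hg C.z_mem_CP) h).mul_left (Commute.refl z)
      rwa [mul_assoc, C.z_mul_z, mul_one] at this
  -- so the normalizer of `P` is in the centralizer of `z`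
  have hnorm : ∀ g : G, (∀ p ∈ C.P, g * p * g⁻¹ ∈ C.P) → Commute g z := fun g hg => by
    have h1 : g⁻¹ * z * g ∈ C.CP := by
      have hc : ∀ p ∈ C.P, Commute (g⁻¹ * z * g) p := fun p hp => by
        have h := (Commute.conj_iff g⁻¹).2 (C.P_comm (hg p hp)).2.2.1.symm
        rwa [inv_inv, show g⁻¹ * (g * p * g⁻¹) * g = p by group] at h
      exact C.mem_CP.2 ⟨hc _ ⟨52, by decide, rfl⟩, hc _ ⟨100, by decide, rfl⟩⟩
    obtain ⟨n, hn, en⟩ := (C.cen _).1 (hcent _ h1)
    obtain ⟨h52, h100⟩ := C.mem_CP.1 h1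
    rw [← en] at h52 h100
    obtain ⟨m, hm, hnm⟩ := cp_nums n hn ((C.e_comm hn (by norm_num)).1 h52) ((C.e_comm hn (by norm_num)).1 h100)
    obtain ⟨-, -, hmz, hm3⟩ := C.P_comm ⟨m, hm, rfl⟩
    have h2 : e n * e n = 1 := by
      rw [en, show g⁻¹ * z * g * (g⁻¹ * z * g) = g⁻¹ * (z * z) * g by group, C.z_mul_z]; group
    have hmm : e m = 1 := by
      refine orderOf_eq_one_iff.1 (Nat.eq_one_of_dvd_coprimes (by norm_num : Nat.Coprime 2 3)
        (orderOf_dvd_of_pow_eq_one ?_) (orderOf_dvd_of_pow_eq_one hm3))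
      rw [pow_two]
      rcases hnm with rfl | rfl
      · exact h2
      · rw [C.mul m (p_nums.1 m hm).1 144 (by norm_num), C.z_eq] at h2
        rwa [show e m * z * (e m * z) = e m * (z * e m) * z by group, ← hmz.eq,
          show e m * (e m * z) * z = e m * e m * (z * z) by group, C.z_mul_z, mul_one] at h2
    rcases hnm with rfl | rfl
    · exfalso
      rw [hmm] at en
      exact C.z_ne_one (by rw [show z = g * (g⁻¹ * z * g) * g⁻¹ by group, ← en]; group)
    · rw [C.mul m (p_nums.1 m hm).1 144 (by norm_num), hmm, C.z_eq, one_mul] at en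
      show g * z = z * g
      conv_lhs => rw [en]
      group
  -- hence `P` is a Sylow 3-subgroup
  haveI : Fact (Nat.Prime 3) := ⟨Nat.prime_three⟩
  obtain ⟨S, hPS⟩ := (IsPGroup.of_card (p := 3) (n := 2) (by rw [C.P_card]; norm_num) : IsPGroup 3 ↥C.P).exists_le_sylow
  have hPSeq : C.P = (S : Subgroup G) := by
    by_contra hne
    haveI := S.2.isNilpotent
    have hlt : C.P.subgroupOf (S : Subgroup G) < ⊤ := lt_top_iff_ne_top.2 fun h =>
      hne (le_antisymm hPS (Subgroup.subgroupOf_eq_top.1 h))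
    obtain ⟨g, hg, hgP⟩ := SetLike.exists_of_lt (normalizerCondition_of_isNilpotent _ hlt)
    have hgz : Commute (g : G) z := hnorm g fun p hp => by
      have := (Subgroup.mem_normalizer_iff.1 hg ⟨p, hPS hp⟩).1 hp
      exact this
    have hgd : Commute (g : G) (e 52) := by
      obtain ⟨n, hn, en⟩ := (C.cen _).1 hgz
      have hmem : ∀ k ∈ pL, cjL n k ∈ pL := fun k hk => by
        have h := (Subgroup.mem_normalizer_iff.1 hg ⟨e k, hPS ⟨k, hk, rfl⟩⟩).1 ⟨k, hk, rfl⟩
        obtain ⟨m, hm, em⟩ := h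
        have : e (cjL n k) = e m := by
          rw [C.e_cj hn (p_nums.1 k hk).1, en]
          exact em.symm
        have e1 : cjL n k = m := C.inj _ (mL_lt _ _) m (p_nums.1 m hm).1 this
        rw [e1]; exact hm
      rcases p_nums.2.2.1 n hn (hmem 4 (by decide)) (hmem 48 (by decide)) with h | h
      · show (g : G) * e 52 = e 52 * (g : G)
        rw [← mul_inv_eq_iff_eq_mul, ← en, ← C.e_cj hn (by norm_num), h]
      · exfalso
        have hinv : (g : G) * e 52 * (g : G)⁻¹ = (e 52)⁻¹ := by rw [← en, ← C.e_cj hn (by norm_num), h, C.e104]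
        have hpow : ∀ k : ℕ, (g : G) ^ k * e 52 * ((g : G) ^ k)⁻¹ = if k % 2 = 0 then e 52 else (e 52)⁻¹ := by
          intro k
          induction k with
          | zero => simp
          | succ k ih =>
            rw [pow_succ', show (g : G) * (g : G) ^ k * e 52 * ((g : G) * (g : G) ^ k)⁻¹ =
              (g : G) * ((g : G) ^ k * e 52 * ((g : G) ^ k)⁻¹) * (g : G)⁻¹ by group, ih]
            rcases Nat.mod_two_eq_zero_or_one k with hk | hk
            · rw [if_pos hk, hinv, if_neg (by omega)]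
            · rw [if_neg (by omega), if_pos (by omega), show (g : G) * (e 52)⁻¹ * (g : G)⁻¹ =
                ((g : G) * e 52 * (g : G)⁻¹)⁻¹ by group, hinv, inv_inv]
        obtain ⟨k, hk⟩ := S.2 g
        have hk' : (g : G) ^ 3 ^ k = 1 := congrArg Subtype.val hk
        have h3 := hpow (3 ^ k)
        rw [hk', if_neg (by rw [Nat.pow_mod]; norm_num)] at h3
        have h4 : e 52 = (e 52)⁻¹ := by rw [← h3]; group
        rw [← C.e104] at h4
        exact absurd (C.inj 52 (by norm_num) 104 (by norm_num) h4) (by norm_num)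
    obtain ⟨k, hk⟩ := S.2 g
    have hgo : Odd (orderOf (g : G)) :=
      (Odd.pow (by decide : Odd 3)).of_dvd_nat (orderOf_dvd_of_pow_eq_one (congrArg Subtype.val hk) : orderOf (g : G) ∣ 3 ^ k)
    obtain ⟨n, hn, en⟩ := C.odd_cd hgz hgd hgo
    exact hgP ⟨n, hn, en⟩
  -- `⟨d, r⟩` lies in a conjugate of `P`
  have hgrp : IsPGroup 3 ↥(Subgroup.closure ({e 52, r} : Set G)) := by
    have hd9 : e 52 ^ 9 = 1 := by rw [show 9 = 3 * 3 from rfl, pow_mul, C.d3, one_pow]
    have hel : ∀ v ∈ Subgroup.closure ({e 52, r} : Set G),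
        ∀ w ∈ Subgroup.closure ({e 52, r} : Set G), Commute v w := by
      intro v hv w hw
      have hcom : ∀ a' ∈ ({e 52, r} : Set G), ∀ b' ∈ ({e 52, r} : Set G), Commute a' b' := by
        rintro a' (rfl | rfl) b' (rfl | rfl)
        exacts [Commute.refl _, hrd.symm, hrd, Commute.refl _]
      have hle : Subgroup.closure ({e 52, r} : Set G) ≤ Subgroup.centralizer ({e 52, r} : Set G) :=
        (Subgroup.closure_le _).2 fun a' ha' => Subgroup.mem_centralizer_iff.2 fun b' hb' => (hcom b' hb' a' ha').eq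
      have hle2 : Subgroup.closure ({e 52, r} : Set G) ≤
          Subgroup.centralizer (Subgroup.closure ({e 52, r} : Set G) : Set G) :=
        (Subgroup.closure_le _).2 fun a' ha' => Subgroup.mem_centralizer_iff.2 fun b' hb' =>
          (Subgroup.mem_centralizer_iff.1 (hle hb') a' ha').symm
      exact (Subgroup.mem_centralizer_iff.1 (hle2 hv) w hw).symm
    have hall : ∀ v, v ∈ Subgroup.closure ({e 52, r} : Set G) → v ^ 9 = 1 := by
      intro v hv
      induction hv using Subgroup.closure_induction with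
      | mem w hw => rcases hw with rfl | rfl; exacts [hd9, hr9]
      | one => exact one_pow _
      | mul v w hv hw h1 h2 => rw [(hel v hv w hw).mul_pow, h1, h2, one_mul]
      | inv v _ h1 => rw [inv_pow, h1, inv_one]
    intro v
    exact ⟨2, Subtype.ext (hall _ v.2)⟩
  obtain ⟨T, hT⟩ := hgrp.exists_le_sylow
  obtain ⟨g0, hg0⟩ := MulAction.exists_smul_eq G T S
  have hmap : ∀ v ∈ Subgroup.closure ({e 52, r} : Set G), g0 * v * g0⁻¹ ∈ C.P := fun v hv => by
    have h : g0 * v * g0⁻¹ ∈ (S : Subgroup G) := by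
      rw [← hg0, Sylow.coe_subgroup_smul]
      exact ⟨v, hT hv, rfl⟩
    rwa [← hPSeq] at h
  have hr3' : r ^ 3 = 1 := by
    have h := (C.P_comm (hmap r (Subgroup.subset_closure (Or.inr rfl)))).2.2.2
    rw [conj_pow, mul_inv_eq_one, mul_eq_left] at h
    exact h
  -- a second element conjugate to `d`
  have hu : ∀ n ∈ uList, n < 1152 := uList_spec.1
  have hR : ∀ n ∈ [13, 26, 39], e 52 * e n * (e 52)⁻¹ = e (if n = 13 then 26 else if n = 26 then 39 else 13) := by
    intro n hn
    simp only [List.mem_cons, List.not_mem_nil, or_false] at hn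
    obtain ⟨-, -, -, -, -, -, -, -, -, -, c1, c2, c3, -, -⟩ := d_spec
    rcases hn with rfl | rfl | rfl <;> rw [← C.e_cj (by norm_num) (by norm_num)] <;> simp [c1, c2, c3]
  obtain ⟨x, hxN, hxd, hxc, hx3, hxz, hxcl⟩ : ∃ x, NU e x ∧ Commute x (e 52) ∧ Commute x (e 13) ∧ x ^ 3 = 1 ∧
      x * z * x⁻¹ = e 576 ∧ x ∈ Subgroup.closure ({e 52, r} : Set G) := by
    obtain ⟨m, hm, em⟩ := hrN 26 (by decide)
    obtain ⟨-, -, hdU, -, -, -, -, -, -, -, -, -, -, c13, cR⟩ := d_spec
    have h13 : r * e 13 * r⁻¹ = e (mL m (cjL 52 m)) := by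
      rw [← c13, C.mul 26 (by norm_num) (cjL 52 26) (mL_lt _ _), C.e_cj (by norm_num) (by norm_num),
        C.mul m (hu m hm) (cjL 52 m) (mL_lt _ _),
        C.e_cj (by norm_num) (hu m hm), ← em,
        show r * (e 26 * (e 52 * e 26 * (e 52)⁻¹)) * r⁻¹ =
          r * e 26 * r⁻¹ * ((r * e 52 * r⁻¹) * (r * e 26 * r⁻¹) * (r * e 52 * r⁻¹)⁻¹) by group,
        hrd.eq, mul_inv_cancel_right]
    have hk := cR m hm
    have hk1152 : mL m (cjL 52 m) < 1152 := mL_lt _ _
    have hne : mL m (cjL 52 m) ≠ 0 := fun h => by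
      rw [h, C.e0, mul_inv_eq_one, mul_eq_left] at h13
      exact absurd (C.inj 13 (by norm_num) 0 (by norm_num) (h13.trans C.e0.symm)) (by norm_num)
    have hdN : NU e (e 52) := C.nu_num (by norm_num) hdU
    have h52 : ∀ v : G, Commute v (e 52) → e 52 * v * z * (e 52 * v)⁻¹ = e 52 * (v * z * v⁻¹) * (e 52)⁻¹ :=
      fun v _ => by group
    have ht52 : e 52 * e 576 * (e 52)⁻¹ = e 576 := by
      rw [← C.e_cj (by norm_num) (by norm_num), show cjL 52 576 = 576 by decide +kernel]
    have hcl : r ∈ Subgroup.closure ({e 52, r} : Set G) ∧ e 52 ∈ Subgroup.closure ({e 52, r} : Set G) :=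
      ⟨Subgroup.subset_closure (Or.inr rfl), Subgroup.subset_closure (Or.inl rfl)⟩
    simp only [List.mem_cons, List.not_mem_nil, or_false] at hk
    rcases hk with h | h | h | h
    · exact absurd h hne
    · rw [h] at h13
      exact ⟨r, hrN, hrd, mul_inv_eq_iff_eq_mul.1 h13, hr3', hr1, hcl.1⟩
    · rw [h] at h13
      refine ⟨e 52 * (e 52 * r), C.nu_mul hdN (C.nu_mul hdN hrN), (Commute.refl _).mul_left ((Commute.refl _).mul_left hrd),
        mul_inv_eq_iff_eq_mul.1 ?_, ?_, ?_, mul_mem hcl.2 (mul_mem hcl.2 hcl.1)⟩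
      · rw [show e 52 * (e 52 * r) * e 13 * (e 52 * (e 52 * r))⁻¹ =
          e 52 * (e 52 * (r * e 13 * r⁻¹) * (e 52)⁻¹) * (e 52)⁻¹ by group, h13, hR 26 (by decide)]
        simpa using hR 39 (by decide)
      · rw [(((Commute.refl (e 52)).mul_right hrd.symm)).mul_pow, (hrd.symm).mul_pow, hr3', C.d3, mul_one, mul_one]
      · rw [show e 52 * (e 52 * r) * z * (e 52 * (e 52 * r))⁻¹ = e 52 * (e 52 * (r * z * r⁻¹) * (e 52)⁻¹) * (e 52)⁻¹ by
          group, hr1, ht52, ht52]
    · rw [h] at h13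
      refine ⟨e 52 * r, C.nu_mul hdN hrN, (Commute.refl _).mul_left hrd, mul_inv_eq_iff_eq_mul.1 ?_, ?_, ?_,
        mul_mem hcl.2 hcl.1⟩
      · rw [show e 52 * r * e 13 * (e 52 * r)⁻¹ = e 52 * (r * e 13 * r⁻¹) * (e 52)⁻¹ by group, h13]
        simpa using hR 39 (by decide)
      · rw [(hrd.symm).mul_pow, hr3', C.d3, mul_one]
      · rw [show e 52 * r * z * (e 52 * r)⁻¹ = e 52 * (r * z * r⁻¹) * (e 52)⁻¹ by group, hr1, ht52]
  have hx1 : x ≠ 1 := fun h => by
    rw [h, one_mul, inv_one, mul_one, ← C.z_eq] at hxz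
    exact absurd (C.inj 144 (by norm_num) 576 (by norm_num) hxz) (by norm_num)
  obtain ⟨g1, hg1, eg1⟩ := C.nu_trans (m := 13) (by decide) (by norm_num)
  obtain ⟨y, -, -, hy⟩ := C.three_fix hg1 hxN hx3 hx1 (eg1 ▸ hxc)
  -- fusion inside `P`
  have hfuse : ∀ g : G, g * e 52 * g⁻¹ ∈ C.P → g * e 52 * g⁻¹ = e 52 ∨ g * e 52 * g⁻¹ = (e 52)⁻¹ := by
    intro g hg
    set w := g * e 52 * g⁻¹ with hw
    have hPw : C.P ≤ Subgroup.centralizer ({w} : Set G) := fun p hp => by
      refine Subgroup.mem_centralizer_singleton_iff.2 ?_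
      obtain ⟨n, hn, en⟩ := hg
      obtain ⟨n', hn', rfl⟩ := hp
      rw [← en]
      exact ((C.e_comm (p_nums.1 n' hn').1 (p_nums.1 n hn).1).2
        ((show ∀ n ∈ pL, ∀ m ∈ pL, mL n m = mL m n by decide +kernel) n' hn' n hn)).eq
    let S1 : Sylow 3 G := g • S
    have hS1 : (S1 : Subgroup G) ≤ Subgroup.centralizer ({w} : Set G) := by
      rintro q hq
      rw [Sylow.coe_subgroup_smul] at hq
      obtain ⟨p, hp, rfl⟩ := hq
      rw [← hPSeq] at hp
      exact Subgroup.mem_centralizer_singleton_iff.2 ((Commute.conj_iff g).2 (C.P_comm hp).1).eq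
    let A : Sylow 3 ↥(Subgroup.centralizer ({w} : Set G)) := S.subtype (hPSeq ▸ hPw)
    let B : Sylow 3 ↥(Subgroup.centralizer ({w} : Set G)) := S1.subtype hS1
    obtain ⟨c, hc⟩ := MulAction.exists_smul_eq ↥(Subgroup.centralizer ({w} : Set G)) B A
    set n := (c : G) * g with hn
    have hnP : ∀ p ∈ C.P, n * p * n⁻¹ ∈ C.P := fun p hp => by
      have h1 : g * p * g⁻¹ ∈ (S1 : Subgroup G) := by
        rw [Sylow.coe_subgroup_smul]; exact ⟨p, hPSeq ▸ hp, rfl⟩
      have h2 : (⟨g * p * g⁻¹, hS1 h1⟩ : ↥(Subgroup.centralizer ({w} : Set G))) ∈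
          (B : Subgroup ↥(Subgroup.centralizer ({w} : Set G))) := h1
      have h3 : c * ⟨g * p * g⁻¹, hS1 h1⟩ * c⁻¹ ∈ (A : Subgroup ↥(Subgroup.centralizer ({w} : Set G))) := by
        rw [← hc, Sylow.coe_subgroup_smul]; exact ⟨_, h2, rfl⟩
      have h4 : (c : G) * (g * p * g⁻¹) * (c : G)⁻¹ ∈ (S : Subgroup G) := h3
      rw [← hPSeq] at h4
      rwa [hn, show (c : G) * g * p * ((c : G) * g)⁻¹ = (c : G) * (g * p * g⁻¹) * (c : G)⁻¹ by group]
    have hnw : n * e 52 * n⁻¹ = w := by
      rw [hn, show (c : G) * g * e 52 * ((c : G) * g)⁻¹ = (c : G) * (g * e 52 * g⁻¹) * (c : G)⁻¹ by group, ← hw,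
        Subgroup.mem_centralizer_singleton_iff.1 c.2, mul_inv_cancel_right]
    obtain ⟨k, hk, ek⟩ := (C.cen n).1 (hnorm n hnP)
    have hmem : ∀ m ∈ pL, cjL k m ∈ pL := fun m hm => by
      obtain ⟨m', hm', em'⟩ := hnP (e m) ⟨m, hm, rfl⟩
      have : e (cjL k m) = e m' := by rw [C.e_cj hk (p_nums.1 m hm).1, ek, em']
      have e1 : cjL k m = m' := C.inj _ (mL_lt _ _) m' (p_nums.1 m' hm').1 this
      rw [e1]; exact hm'
    rcases p_nums.2.2.1 k hk (hmem 4 (by decide)) (hmem 48 (by decide)) with h | h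
    · left; rw [← hnw, ← ek, ← C.e_cj hk (by norm_num), h]
    · right; rw [← hnw, ← ek, ← C.e_cj hk (by norm_num), h, C.e104]
  have hconjx : g0 * x * g0⁻¹ = e 52 ∨ g0 * x * g0⁻¹ = (e 52)⁻¹ := by
    have hxP := hmap x hxcl
    rcases hy with h | h
    · rw [show g0 * x * g0⁻¹ = (g0 * y) * e 52 * (g0 * y)⁻¹ by rw [← h]; group]
      refine hfuse _ ?_
      rw [show g0 * y * e 52 * (g0 * y)⁻¹ = g0 * x * g0⁻¹ by rw [← h]; group]
      exact hxP
    · have e1 : g0 * x * g0⁻¹ = ((g0 * y) * e 52 * (g0 * y)⁻¹)⁻¹ := by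
        rw [show x = (y * e 52 * y⁻¹)⁻¹ by rw [h, inv_inv]]; group
      rcases hfuse (g0 * y) (by rw [← inv_inv (g0 * y * e 52 * (g0 * y)⁻¹), ← e1]; exact inv_mem hxP) with h' | h'
      · right; rw [e1, h']
      · left; rw [e1, h', inv_inv]
  have hx52 : x = e 52 ∨ x = (e 52)⁻¹ := by
    rcases hfuse g0 (hmap (e 52) (Subgroup.subset_closure (Or.inl rfl))) with h1 | h1 <;> rcases hconjx with h2 | h2
    · left; exact mul_left_cancel (mul_right_cancel (h2.trans h1.symm))
    · right
      refine mul_left_cancel (mul_right_cancel (h2.trans ?_ : g0 * x * g0⁻¹ = g0 * (e 52)⁻¹ * g0⁻¹))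
      rw [show g0 * (e 52)⁻¹ * g0⁻¹ = (g0 * e 52 * g0⁻¹)⁻¹ by group, h1]
    · right
      refine mul_left_cancel (mul_right_cancel (h2.trans ?_ : g0 * x * g0⁻¹ = g0 * (e 52)⁻¹ * g0⁻¹))
      rw [show g0 * (e 52)⁻¹ * g0⁻¹ = (g0 * e 52 * g0⁻¹)⁻¹ by group, h1, inv_inv]
    · left; exact mul_left_cancel (mul_right_cancel (h2.trans h1.symm))
  have : Commute x z := by
    rcases hx52 with rfl | rfl
    · exact C.e_z (by norm_num)
    · exact (C.e_z (by norm_num)).inv_left
  rw [this.eq, mul_inv_cancel_right, ← C.z_eq] at hxz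
  exact absurd (C.inj 144 (by norm_num) 576 (by norm_num) hxz) (by norm_num)

end Cent

end Cfsg.Agent.Spor.UFourType
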