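import Cfsg.Agent.Lib.Spor.UFourType.Basic

/-!
The normalizer of the elementary group of order 16: it is transitive on the fifteen involutions, and contains an
element centralising the element `d` of order three and permuting its three fixed involutions cyclically.
-/

set_option autoImplicit false
set_option maxRecDepth 100000
set_option synthInstance.maxSize 1024

namespace Cfsg.Agent.Spor.UFourType

variable {G : Type*} [Group G] {z : G} {e : ℕ → G}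

/-- Elements conjugating the subgroup of order three onto the others in the normalizer. -/
def threeL : List ℕ := [0, 1, 2, 3, 12, 13, 14, 15, 24, 25, 26, 27, 36, 37, 38, 39]

theorem uList_spec : (∀ n ∈ uList, n < 1152) ∧ (∀ n ∈ uList, ∀ m ∈ uList, mL n m ∈ uList) ∧
    (∀ h ∈ [0, 1, 2, 3, 52, 53, 104, 105, 288, 289, 290, 291, 326], ∀ n ∈ uList, cjL h n ∈ uList) ∧
    (∀ n ∈ uList, mL n n = 0) := by decide +kernel

theorem threeL_spec : ∀ h ∈ threeL, h < 1152 ∧ ∀ n ∈ uList, cjL h n ∈ uList := by decide +kernel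

theorem three_conj : ∀ n < 1152, mL n (mL n n) = 0 → n ≠ 0 → (∀ k ∈ uList, cjL n k ∈ uList) →
    ∃ h ∈ threeL, cjL h 52 = n ∨ cjL h 104 = n := by decide +kernel

theorem orbit_six : ∀ m ∈ uList, m ≠ 0 → inQn m = true → m = 144 ∨
    ∃ h ∈ [0, 1, 2, 3, 52, 53, 104, 105, 288, 289, 290, 291], cjL h 13 = m := by decide +kernel

theorem orbit_eight : ∀ m ∈ uList, inQn m = false →
    ∃ h ∈ [0, 1, 2, 3, 52, 53, 104, 105, 288, 289, 290, 291], cjL h 576 = m := by decide +kernel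

theorem d_spec : mL 52 (mL 52 52) = 0 ∧ mL 104 52 = 0 ∧ (∀ k ∈ uList, cjL 52 k ∈ uList) ∧
    (∀ k ∈ uList, mL k 52 = mL 52 k → k = 0 ∨ k = 144 ∨ k = 576 ∨ k = 720) ∧ mL 144 576 = 720 ∧
    mL 144 52 = mL 52 144 ∧ mL 576 52 = mL 52 576 ∧ cjL 326 52 = 104 ∧ cjL 326 576 = 720 ∧ cjL 326 720 = 576 ∧
    cjL 52 13 = 26 ∧ cjL 52 26 = 39 ∧ cjL 52 39 = 13 ∧ mL 26 (cjL 52 26) = 13 ∧
    (∀ m ∈ uList, mL m (cjL 52 m) ∈ [0, 13, 26, 39]) := by decide +kernel

theorem fix_W : ∀ n < 1152, mL n 52 = mL 52 n → mL n 576 = mL 576 n →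
    (mL n (mL n n) = 0 → n = 0 ∨ n = 52 ∨ n = 104) ∧
      mL (mL n (mL n n)) (mL n (mL n n)) = 0 := by decide +kernel

/-- An element keeps the elementary group. -/
def NU (e : ℕ → G) (g : G) : Prop := ∀ n ∈ uList, ∃ m ∈ uList, g * e n * g⁻¹ = e m

namespace Cent

variable (C : Cent z e)
include C

/-- The elementary group of order 16. -/
def U : Subgroup G where
  carrier := {g | ∃ n ∈ uList, e n = g}
  one_mem' := ⟨0, by decide, C.e0⟩
  mul_mem' := by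
    rintro _ _ ⟨n, hn, rfl⟩ ⟨m, hm, rfl⟩
    exact ⟨_, uList_spec.2.1 n hn m hm, C.mul n (uList_spec.1 n hn) m (uList_spec.1 m hm)⟩
  inv_mem' := by
    rintro _ ⟨n, hn, rfl⟩
    refine ⟨n, hn, eq_inv_of_mul_eq_one_right ?_⟩
    have h := uList_spec.1 n hn
    rw [← C.mul n h n h, uList_spec.2.2.2 n hn, C.e0]

theorem nu_mul {g h : G} (hg : NU e g) (hh : NU e h) : NU e (g * h) := fun n hn => by
  obtain ⟨m, hm, e1⟩ := hh n hn
  obtain ⟨k, hk, e2⟩ := hg m hm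
  exact ⟨k, hk, by rw [← e2, ← e1]; group⟩

theorem nu_num {h : ℕ} (hh : h < 1152) (hU : ∀ n ∈ uList, cjL h n ∈ uList) : NU e (e h) := fun n hn =>
  ⟨_, hU n hn, (C.e_cj hh (uList_spec.1 n hn)).symm⟩

theorem nu_pow {g : G} (hg : NU e g) (k : ℕ) : NU e (g ^ k) := by
  induction k with
  | zero => exact fun n hn => ⟨n, hn, by group⟩
  | succ k ih => rw [pow_succ]; exact C.nu_mul ih hg

theorem nu_inv [Finite G] {g : G} (hg : NU e g) : NU e g⁻¹ := by
  have h := C.nu_pow hg (orderOf g - 1)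
  rwa [show g ^ (orderOf g - 1) = g⁻¹ from eq_inv_of_mul_eq_one_left (by
    rw [← pow_succ, Nat.sub_add_cancel (orderOf_pos g), pow_orderOf_eq_one])] at h

/-- The normalizer is transitive on the involutions. -/
theorem nu_trans {m : ℕ} (hm : m ∈ uList) (hm0 : m ≠ 0) : ∃ g, NU e g ∧ g * z * g⁻¹ = e m := by
  obtain ⟨s, hs1, hs2, hsU, m0, hm0U, hm0q, hs26⟩ := C.swap
  have hcj : ∀ {g : G} {a : ℕ}, NU e g → g * z * g⁻¹ = e a → a < 1152 → ∀ h < 1152,
      (∀ n ∈ uList, cjL h n ∈ uList) → ∃ g', NU e g' ∧ g' * z * g'⁻¹ = e (cjL h a) := fun {g a} hg ea ha h hh hU =>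
    ⟨e h * g, C.nu_mul (C.nu_num hh hU) hg, by rw [C.e_cj hh ha, ← ea]; group⟩
  have hlist : ∀ h ∈ [0, 1, 2, 3, 52, 53, 104, 105, 288, 289, 290, 291], h < 1152 ∧ ∀ n ∈ uList, cjL h n ∈ uList := by
    decide +kernel
  have h26 : ∃ g, NU e g ∧ g * z * g⁻¹ = e 26 := by
    have := hcj hsU hs1 (by norm_num) 52 (by norm_num) d_spec.2.2.1
    rwa [d_spec.2.2.2.2.2.2.2.2.2.2.1] at this
  rcases hq : inQn m with _ | _
  · obtain ⟨g, hg, eg⟩ := h26
    have hg' := C.nu_mul hsU hg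
    have eg' : s * g * z * (s * g)⁻¹ = e m0 := by rw [← hs26, ← eg]; group
    obtain ⟨h0, hh0, eh0⟩ := orbit_eight m0 hm0U hm0q
    obtain ⟨h, hh, eh⟩ := orbit_eight m hm hq
    have lt0 := hlist h0 hh0
    have lt := hlist h hh
    have i0 := iL_ok h0 lt0.1
    have hinv : ∀ n ∈ uList, cjL (iL h0) n ∈ uList := by
      have key : ∀ h ∈ [0, 1, 2, 3, 52, 53, 104, 105, 288, 289, 290, 291], ∀ n ∈ uList, cjL (iL h) n ∈ uList := by
        decide +kernel
      exact key h0 hh0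
    obtain ⟨g1, hg1, eg1⟩ := hcj hg' eg' (uList_spec.1 m0 hm0U) (iL h0) i0.1 hinv
    have e576 : e (cjL (iL h0) m0) = e 576 := by
      rw [C.e_cj i0.1 (uList_spec.1 m0 hm0U), C.e_inv lt0.1, ← eh0, C.e_cj lt0.1 (by norm_num)]
      group
    rw [e576] at eg1
    obtain ⟨g2, hg2, eg2⟩ := hcj hg1 eg1 (by norm_num) h lt.1 lt.2
    exact ⟨g2, hg2, by rw [eg2, eh]⟩
  · rcases orbit_six m hm hm0 hq with rfl | ⟨h, hh, eh⟩
    · exact ⟨1, fun n hn => ⟨n, hn, by group⟩, by rw [C.z_eq]; group⟩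
    · obtain ⟨g, hg, eg⟩ := hcj hsU hs1 (by norm_num) h (hlist h hh).1 (hlist h hh).2
      exact ⟨g, hg, by rw [eg, eh]⟩

/-- An element of order three fixing an involution of the group is conjugate to `d` or its inverse there. -/
theorem three_fix [Finite G] {g x : G} (hg : NU e g) (hx : NU e x) (h3 : x ^ 3 = 1) (h1 : x ≠ 1)
    (hc : Commute x (g * z * g⁻¹)) :
    ∃ y, NU e y ∧ y * z * y⁻¹ = g * z * g⁻¹ ∧ (y * e 52 * y⁻¹ = x ∨ y * e 52 * y⁻¹ = x⁻¹) := by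
  have hx' : NU e (g⁻¹ * x * g) := C.nu_mul (C.nu_mul (C.nu_inv hg) hx) hg
  have hz : Commute (g⁻¹ * x * g) z := by
    have h := (Commute.conj_iff g⁻¹).2 hc
    rwa [inv_inv, show g⁻¹ * (g * z * g⁻¹) * g = z by group] at h
  obtain ⟨n, hn, en⟩ := (C.cen _).1 hz
  have hn3 : mL n (mL n n) = 0 := C.inj _ (mL_lt _ _) 0 (by norm_num) (by
    rw [C.mul n hn _ (mL_lt n n), C.mul n hn n hn, C.e0, en,
      show g⁻¹ * x * g * (g⁻¹ * x * g * (g⁻¹ * x * g)) = g⁻¹ * x ^ 3 * g by rw [pow_three]; group, h3]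
    group)
  have hn0 : n ≠ 0 := fun h => h1 (by
    subst h
    rw [C.e0] at en
    rw [show x = g * (g⁻¹ * x * g) * g⁻¹ by group, ← en]; group)
  have hU : ∀ k ∈ uList, cjL n k ∈ uList := fun k hk => by
    obtain ⟨m, hm, em⟩ := hx' k hk
    have e1 : cjL n k = m := C.inj _ (mL_lt _ _) m (uList_spec.1 m hm)
      ((C.e_cj hn (uList_spec.1 k hk)).trans (by rw [en, em]))
    rw [e1]; exact hm
  obtain ⟨h, hh, hcase⟩ := three_conj n hn hn3 hn0 hU
  obtain ⟨hlt, hhU⟩ := threeL_spec h hh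
  refine ⟨g * e h, C.nu_mul hg (C.nu_num hlt hhU), ?_, ?_⟩
  · rw [show g * e h * z * (g * e h)⁻¹ = g * (e h * z * (e h)⁻¹) * g⁻¹ by group, (C.e_z hlt).eq, mul_inv_cancel_right]
  · have e104 : e 104 = (e 52)⁻¹ := by
      refine eq_inv_of_mul_eq_one_left ?_
      rw [← C.mul 104 (by norm_num) 52 (by norm_num), d_spec.2.1, C.e0]
    rcases hcase with hc | hc
    · left
      rw [show g * e h * e 52 * (g * e h)⁻¹ = g * (e h * e 52 * (e h)⁻¹) * g⁻¹ by group, ← C.e_cj hlt (by norm_num), hc,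
        en]
      group
    · right
      rw [show g * e h * e 52 * (g * e h)⁻¹ = g * (e h * ((e 52)⁻¹)⁻¹ * (e h)⁻¹) * g⁻¹ by group, ← e104,
        show e h * (e 104)⁻¹ * (e h)⁻¹ = (e h * e 104 * (e h)⁻¹)⁻¹ by group, ← C.e_cj hlt (by norm_num), hc, en]
      group

/-- The element centralising `d` and moving `z` to `t`, and `t` to `z t`. -/
theorem exists_r [Finite G] : ∃ r : G, NU e r ∧ Commute r (e 52) ∧ r * z * r⁻¹ = e 576 ∧
    r * e 576 * r⁻¹ = e 720 ∧ r * e 720 * r⁻¹ = z ∧ r ^ 9 = 1 := by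
  have hdN : NU e (e 52) := C.nu_num (by norm_num) d_spec.2.2.1
  have hd3 : e 52 ^ 3 = 1 := by
    rw [pow_three, ← C.mul 52 (by norm_num) 52 (by norm_num), ← C.mul 52 (by norm_num) _ (mL_lt _ _), d_spec.1, C.e0]
  have hd1 : e 52 ≠ 1 := fun h => by
    have := C.inj 52 (by norm_num) 0 (by norm_num) (h.trans C.e0.symm)
    omega
  obtain ⟨g, hg, eg⟩ := C.nu_trans (m := 576) (by decide) (by norm_num)
  obtain ⟨y, hy, eyz, eyd⟩ := C.three_fix hg hdN hd3 hd1 (by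
    rw [eg]; exact (C.e_comm (by norm_num) (by norm_num)).2 d_spec.2.2.2.2.2.2.1.symm)
  rw [eg] at eyz
  have hzt : z * e 576 = e 720 := by rw [← C.z_eq, ← C.mul 144 (by norm_num) 576 (by norm_num), d_spec.2.2.2.2.1]
  have ht2 : e 576 * e 576 = 1 := by
    rw [← C.mul 576 (by norm_num) 576 (by norm_num), uList_spec.2.2.2 576 (by decide), C.e0]
  -- some element moves the three involutions cyclically
  obtain ⟨c, hc, hcd, hcyc⟩ : ∃ c, NU e c ∧ (c * e 52 * c⁻¹ = e 52 ∨ c * e 52 * c⁻¹ = (e 52)⁻¹) ∧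
      ((c * z * c⁻¹ = e 576 ∧ c * e 576 * c⁻¹ = e 720) ∨ (c * z * c⁻¹ = e 720 ∧ c * e 720 * c⁻¹ = e 576)) := by
    obtain ⟨m, hm, em⟩ := hy 576 (by decide)
    have hmd : mL m 52 = mL 52 m := by
      refine (C.e_comm (uList_spec.1 m hm) (by norm_num)).1 ?_
      have hc : Commute (e m) (y * e 52 * y⁻¹) :=
        em ▸ (Commute.conj_iff y).2 ((C.e_comm (by norm_num) (by norm_num)).2 d_spec.2.2.2.2.2.2.1)
      rcases eyd with h | h <;> rw [h] at hc
      · exact hc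
      · exact Commute.inv_right_iff.1 hc
    rcases d_spec.2.2.2.1 m hm hmd with rfl | rfl | rfl | rfl
    · rw [C.e0, mul_inv_eq_one, mul_eq_left] at em
      exact absurd (C.inj 576 (by norm_num) 0 (by norm_num) (em.trans C.e0.symm)) (by norm_num)
    · -- `y` exchanges `z` and `t`; compose
      rw [C.z_eq] at em
      refine ⟨e 326 * y, C.nu_mul (C.nu_num (by norm_num) (uList_spec.2.2.1 326 (by decide))) hy, ?_,
        Or.inr ⟨?_, ?_⟩⟩
      · have e104 : e 104 = (e 52)⁻¹ := by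
          refine eq_inv_of_mul_eq_one_left ?_
          rw [← C.mul 104 (by norm_num) 52 (by norm_num), d_spec.2.1, C.e0]
        have e326 : e 326 * e 52 * (e 326)⁻¹ = (e 52)⁻¹ := by
          rw [← C.e_cj (by norm_num) (by norm_num), d_spec.2.2.2.2.2.2.2.1, e104]
        rcases eyd with h | h
        · right; rw [show e 326 * y * e 52 * (e 326 * y)⁻¹ = e 326 * (y * e 52 * y⁻¹) * (e 326)⁻¹ by group, h, e326]
        · left
          rw [show e 326 * y * e 52 * (e 326 * y)⁻¹ = e 326 * (y * e 52 * y⁻¹) * (e 326)⁻¹ by group, h,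
            show e 326 * (e 52)⁻¹ * (e 326)⁻¹ = (e 326 * e 52 * (e 326)⁻¹)⁻¹ by group, e326, inv_inv]
      · rw [show e 326 * y * z * (e 326 * y)⁻¹ = e 326 * (y * z * y⁻¹) * (e 326)⁻¹ by group, eyz,
          ← C.e_cj (by norm_num) (by norm_num), d_spec.2.2.2.2.2.2.2.2.1]
      · rw [← hzt, show e 326 * y * (z * e 576) * (e 326 * y)⁻¹ =
          e 326 * ((y * z * y⁻¹) * (y * e 576 * y⁻¹)) * (e 326)⁻¹ by group, eyz, em,
          show e 576 * z = e 720 from (C.e_z (by norm_num)).eq.trans hzt,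
          ← C.e_cj (by norm_num) (by norm_num), d_spec.2.2.2.2.2.2.2.2.2.1]
    · exfalso
      have h1 : y * e 576 * y⁻¹ = y * z * y⁻¹ := by rw [em, eyz]
      have h2 := C.inj 576 (by norm_num) 144 (by norm_num) ((mul_left_cancel (mul_right_cancel h1)).trans C.z_eq.symm)
      omega
    · exact ⟨y, hy, eyd, Or.inl ⟨eyz, em⟩⟩
  have hcycle : ∀ c : G, c * z * c⁻¹ = e 576 → c * e 576 * c⁻¹ = e 720 → c * e 720 * c⁻¹ = z := fun c h1 h2 => by
    rw [← hzt, show c * (z * e 576) * c⁻¹ = (c * z * c⁻¹) * (c * e 576 * c⁻¹) by group, h1, h2, ← hzt,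
      (C.e_z (show (576 : ℕ) < 1152 by norm_num)).symm.eq, ← mul_assoc, ht2, one_mul]
  have hcycle' : ∀ c : G, c * z * c⁻¹ = e 720 → c * e 720 * c⁻¹ = e 576 → c * e 576 * c⁻¹ = z := fun c h1 h2 => by
    rw [show e 576 = z * e 720 by rw [← hzt, ← mul_assoc, C.z_mul_z, one_mul],
      show c * (z * e 720) * c⁻¹ = (c * z * c⁻¹) * (c * e 720 * c⁻¹) by group, h1, h2, ← hzt, mul_assoc, ht2, mul_one]
  -- square and take the odd part
  set c2 := c * c with hc2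
  have hc2d : Commute c2 (e 52) := by
    show c2 * e 52 = e 52 * c2
    refine mul_inv_eq_iff_eq_mul.1 ?_
    rw [hc2, show c * c * e 52 * (c * c)⁻¹ = c * (c * e 52 * c⁻¹) * c⁻¹ by group]
    rcases hcd with h | h
    · rw [h, h]
    · rw [h, show c * (e 52)⁻¹ * c⁻¹ = (c * e 52 * c⁻¹)⁻¹ by group, h, inv_inv]
  obtain ⟨a, m, hm, hord⟩ := Nat.exists_eq_two_pow_mul_odd (orderOf_pos c2).ne'
  set r0 := c2 ^ 2 ^ a with hr0
  have hr0N : NU e r0 := C.nu_pow (C.nu_mul hc hc) _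
  have hr0d : Commute r0 (e 52) := hc2d.pow_left _
  have hr0m : r0 ^ m = 1 := by rw [hr0, ← pow_mul, ← hord, pow_orderOf_eq_one]
  have hpw : ∀ c : G, c * z * c⁻¹ = e 576 → c * e 576 * c⁻¹ = e 720 → ∀ k : ℕ,
      c ^ k * z * (c ^ k)⁻¹ = (if k % 3 = 0 then z else if k % 3 = 1 then e 576 else e 720) := fun c h1 h2 k => by
    have h3 := hcycle c h1 h2
    induction k with
    | zero => simp
    | succ k ih =>
      rw [pow_succ', show c * c ^ k * z * (c * c ^ k)⁻¹ = c * (c ^ k * z * (c ^ k)⁻¹) * c⁻¹ by group, ih]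
      rcases (show k % 3 = 0 ∨ k % 3 = 1 ∨ k % 3 = 2 by omega) with h | h | h
      · rw [if_pos h, h1, if_neg (by omega), if_pos (by omega)]
      · rw [if_neg (by omega), if_pos h, h2, if_neg (by omega), if_neg (by omega)]
      · rw [if_neg (by omega), if_neg (by omega), h3, if_pos (by omega)]
  have hpw' : ∀ c : G, c * z * c⁻¹ = e 720 → c * e 720 * c⁻¹ = e 576 → ∀ k : ℕ,
      c ^ k * z * (c ^ k)⁻¹ = (if k % 3 = 0 then z else if k % 3 = 1 then e 720 else e 576) := fun c h1 h2 k => by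
    have h3 := hcycle' c h1 h2
    induction k with
    | zero => simp
    | succ k ih =>
      rw [pow_succ', show c * c ^ k * z * (c * c ^ k)⁻¹ = c * (c ^ k * z * (c ^ k)⁻¹) * c⁻¹ by group, ih]
      rcases (show k % 3 = 0 ∨ k % 3 = 1 ∨ k % 3 = 2 by omega) with h | h | h
      · rw [if_pos h, h1, if_neg (by omega), if_pos (by omega)]
      · rw [if_neg (by omega), if_pos h, h2, if_neg (by omega), if_neg (by omega)]
      · rw [if_neg (by omega), if_neg (by omega), h3, if_pos (by omega)]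
  have h23 : 2 * 2 ^ a % 3 ≠ 0 := fun h =>
    absurd ((Nat.prime_three.dvd_mul).1 (Nat.dvd_of_mod_eq_zero h)) (by
      rintro (h | h)
      · norm_num at h
      · exact absurd (Nat.prime_three.dvd_of_dvd_pow h) (by norm_num))
  -- the direction of the cycle
  have hdir : ∃ r, NU e r ∧ Commute r (e 52) ∧ r * z * r⁻¹ = e 576 ∧ r * e 576 * r⁻¹ = e 720 ∧ r ^ m = 1 := by
    have hr0c : r0 = c ^ (2 * 2 ^ a) := by rw [hr0, hc2, ← pow_two, ← pow_mul]
    rcases hcyc with ⟨h1, h2⟩ | ⟨h1, h2⟩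
    · have hA := hpw c h1 h2
      rcases (show 2 * 2 ^ a % 3 = 1 ∨ 2 * 2 ^ a % 3 = 2 by omega) with h | h
      · refine ⟨r0, hr0N, hr0d, ?_, ?_, hr0m⟩
        · rw [hr0c, hA, if_neg (by omega), if_pos h]
        · rw [show e 576 = c ^ 1 * z * (c ^ 1)⁻¹ by rw [pow_one, h1], hr0c,
            show c ^ (2 * 2 ^ a) * (c ^ 1 * z * (c ^ 1)⁻¹) * (c ^ (2 * 2 ^ a))⁻¹ =
              c ^ (2 * 2 ^ a + 1) * z * (c ^ (2 * 2 ^ a + 1))⁻¹ by rw [pow_add]; group, hA, if_neg (by omega),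
            if_neg (by omega)]
      · refine ⟨r0 * r0, C.nu_mul hr0N hr0N, hr0d.mul_left hr0d, ?_, ?_, ?_⟩
        · rw [hr0c, ← pow_add, hA, if_neg (by omega), if_pos (by omega)]
        · rw [show e 576 = c ^ 1 * z * (c ^ 1)⁻¹ by rw [pow_one, h1], hr0c, ← pow_add,
            show c ^ (2 * 2 ^ a + 2 * 2 ^ a) * (c ^ 1 * z * (c ^ 1)⁻¹) * (c ^ (2 * 2 ^ a + 2 * 2 ^ a))⁻¹ =
              c ^ (2 * 2 ^ a + 2 * 2 ^ a + 1) * z * (c ^ (2 * 2 ^ a + 2 * 2 ^ a + 1))⁻¹ by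
              rw [pow_add c (2 * 2 ^ a + 2 * 2 ^ a)]; group,
            hA, if_neg (by omega), if_neg (by omega)]
        · rw [(Commute.refl r0).mul_pow, hr0m, one_mul]
    · have hA := hpw' c h1 h2
      have h1' : c ^ 2 * z * (c ^ 2)⁻¹ = e 576 := by rw [hA]; rfl
      rcases (show 2 * 2 ^ a % 3 = 2 ∨ 2 * 2 ^ a % 3 = 1 by omega) with h | h
      · refine ⟨r0, hr0N, hr0d, ?_, ?_, hr0m⟩
        · rw [hr0c, hA, if_neg (by omega), if_neg (by omega)]
        · rw [← h1', hr0c, show c ^ (2 * 2 ^ a) * (c ^ 2 * z * (c ^ 2)⁻¹) * (c ^ (2 * 2 ^ a))⁻¹ =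
            c ^ (2 * 2 ^ a + 2) * z * (c ^ (2 * 2 ^ a + 2))⁻¹ by rw [pow_add]; group, hA, if_neg (by omega),
            if_pos (by omega)]
      · refine ⟨r0 * r0, C.nu_mul hr0N hr0N, hr0d.mul_left hr0d, ?_, ?_, ?_⟩
        · rw [hr0c, ← pow_add, hA, if_neg (by omega), if_neg (by omega)]
        · rw [← h1', hr0c, ← pow_add, show c ^ (2 * 2 ^ a + 2 * 2 ^ a) * (c ^ 2 * z * (c ^ 2)⁻¹) *
            (c ^ (2 * 2 ^ a + 2 * 2 ^ a))⁻¹ = c ^ (2 * 2 ^ a + 2 * 2 ^ a + 2) * z * (c ^ (2 * 2 ^ a + 2 * 2 ^ a + 2))⁻¹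
              by rw [pow_add c (2 * 2 ^ a + 2 * 2 ^ a)]; group,
            hA, if_neg (by omega), if_pos (by omega)]
        · rw [(Commute.refl r0).mul_pow, hr0m, one_mul]
  obtain ⟨r, hrN, hrd, hr1, hr2, hrm⟩ := hdir
  refine ⟨r, hrN, hrd, hr1, hr2, hcycle r hr1 hr2, ?_⟩
  have hr3 := hcycle r hr1 hr2
  have hz3 : Commute (r ^ 3) z := mul_inv_eq_iff_eq_mul.1 (by
    rw [pow_three, show r * (r * r) * z * (r * (r * r))⁻¹ = r * (r * (r * z * r⁻¹) * r⁻¹) * r⁻¹ by group, hr1, hr2, hr3])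
  have ht3 : Commute (r ^ 3) (e 576) := mul_inv_eq_iff_eq_mul.1 (by
    rw [pow_three, show r * (r * r) * e 576 * (r * (r * r))⁻¹ = r * (r * (r * e 576 * r⁻¹) * r⁻¹) * r⁻¹ by group,
      hr2, hr3, hr1])
  obtain ⟨n, hn, en⟩ := (C.cen _).1 hz3
  obtain ⟨hcl, hsq⟩ := fix_W n hn ((C.e_comm hn (by norm_num)).1 (en ▸ hrd.pow_left 3))
    ((C.e_comm hn (by norm_num)).1 (en ▸ ht3))
  -- `w = v ^ 3` is of order at most two and of odd order
  have hw2 : ((r ^ 3) ^ 3) ^ 2 = 1 := by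
    rw [← en, pow_three, ← C.mul n hn n hn, ← C.mul n hn _ (mL_lt n n), pow_two, ← C.mul _ (mL_lt _ _) _ (mL_lt _ _),
      hsq, C.e0]
  have hwm : ((r ^ 3) ^ 3) ^ m = 1 := by rw [← pow_mul, ← pow_mul, show 3 * (3 * m) = m * 9 by ring, pow_mul, hrm, one_pow]
  have hw : (r ^ 3) ^ 3 = 1 := orderOf_eq_one_iff.1 (Nat.eq_one_of_dvd_coprimes (Nat.coprime_two_left.2 hm)
    (orderOf_dvd_of_pow_eq_one hw2) (orderOf_dvd_of_pow_eq_one hwm))
  rwa [← pow_mul] at hw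

end Cent

end Cfsg.Agent.Spor.UFourType
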